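import Cfsg.Agent.Helper26.FusionEss

set_option autoImplicit false

namespace Cfsg.Agent.Helper26

open Cfsg Cfsg.FusionSystem

section AbxEss

/-- Two automorphisms that move every element by a member of a commutative set `D`, and fix
`D` pointwise, commute. -/
theorem abx_commute {P : Type*} [Group P] (D : Set P) (hD : ∀ u ∈ D, ∀ v ∈ D, u * v = v * u)
    (α β : MulAut P) (hα : ∀ y, α y * y⁻¹ ∈ D) (hβ : ∀ y, β y * y⁻¹ ∈ D)
    (hαD : ∀ u ∈ D, α u = u) (hβD : ∀ u ∈ D, β u = u) : α * β = β * α := by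
  refine MulEquiv.ext fun y => ?_
  obtain ⟨u, hu⟩ : ∃ u, u = α y * y⁻¹ := ⟨_, rfl⟩
  obtain ⟨v, hv⟩ : ∃ v, v = β y * y⁻¹ := ⟨_, rfl⟩
  have huD : u ∈ D := hu ▸ hα y
  have hvD : v ∈ D := hv ▸ hβ y
  have hαy : α y = u * y := by rw [hu]; group
  have hβy : β y = v * y := by rw [hv]; group
  show α (β y) = β (α y)
  rw [hβy, hαy, map_mul, map_mul, hαD v hvD, hβD u huD, hαy, hβy, ← mul_assoc, ← mul_assoc,
    hD v hvD u huD]

/-- A normal subgroup with a cyclic quotient generated by an element of order `p` has index `p`. -/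
theorem abx_index_eq {G : Type*} [Group G] {p : ℕ} [Fact p.Prime] (H : Subgroup G) [H.Normal]
    (q : G) (hq : q ∉ H) (hqp : q ^ p ∈ H) (hgen : ∀ n : G, ∃ k : ℤ, (q ^ k)⁻¹ * n ∈ H) :
    H.index = p := by
  have hord : orderOf (QuotientGroup.mk q : G ⧸ H) = p := by
    apply orderOf_eq_prime
    · rw [← QuotientGroup.mk_pow]
      exact (QuotientGroup.eq_one_iff _).2 hqp
    · intro h
      exact hq ((QuotientGroup.eq_one_iff _).1 h)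
  have htop : Subgroup.zpowers (QuotientGroup.mk q : G ⧸ H) = ⊤ := by
    rw [eq_top_iff]
    rintro x -
    obtain ⟨n, rfl⟩ := QuotientGroup.mk_surjective x
    obtain ⟨k, hk⟩ := hgen n
    refine Subgroup.mem_zpowers_iff.2 ⟨k, ?_⟩
    rw [← QuotientGroup.mk_zpow]
    exact QuotientGroup.eq.2 hk
  rw [Subgroup.index_eq_card, ← Subgroup.card_top (G := G ⧸ H), ← htop, Nat.card_zpowers]
  exact hord

variable {Ω : Type*} [Group Ω]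

theorem abx_mem_Z2 {S : Subgroup Ω} {v : Ω} :
    v ∈ (Subgroup.upperCentralSeries ↥S 2).map S.subtype ↔
      v ∈ S ∧ ∀ t ∈ S, ∀ s ∈ S, s * (v * t * v⁻¹ * t⁻¹) = (v * t * v⁻¹ * t⁻¹) * s := by
  constructor
  · rintro ⟨w, hw, rfl⟩
    refine ⟨w.2, fun t ht s hs => ?_⟩
    have h1 := (Subgroup.mem_upperCentralSeries_succ_iff (n := 1)).1 hw ⟨t, ht⟩
    rw [Subgroup.upperCentralSeries_one, Subgroup.mem_center_iff] at h1
    have h2 := congrArg Subtype.val (h1 ⟨s, hs⟩)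
    rw [commutatorElement_def] at h2
    exact h2
  · rintro ⟨hv, hc⟩
    refine ⟨⟨v, hv⟩, ?_, rfl⟩
    apply (Subgroup.mem_upperCentralSeries_succ_iff (n := 1)).2
    intro t
    rw [Subgroup.upperCentralSeries_one, Subgroup.mem_center_iff]
    intro s
    apply Subtype.ext
    rw [commutatorElement_def]
    exact hc t t.2 s s.2

/-- The standing hypotheses: `A` abelian normal in `S` with `S/A` cyclic of order `p`, and
`P ≤ S` containing its centralizer in `S`. -/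
structure AbxSetup (S A P : Subgroup Ω) (p : ℕ) : Prop where
  hAS : A ≤ S
  hPS : P ≤ S
  comm : ∀ a ∈ A, ∀ b ∈ A, a * b = b * a
  norm : ∀ s ∈ S, ∀ a ∈ A, s * a * s⁻¹ ∈ A
  pow : ∀ s ∈ S, s ^ p ∈ A
  gen : ∀ x ∈ S, x ∉ A → ∀ s ∈ S, ∃ k : ℤ, s * (x ^ k)⁻¹ ∈ A
  cen : ∀ c ∈ S, (∀ y ∈ P, y * c = c * y) → c ∈ P

variable {S A P : Subgroup Ω} {p : ℕ}

theorem abx_comm_mem (h : AbxSetup S A P p) {x a : Ω} (hx : x ∈ S) (ha : a ∈ A) :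
    a * x * a⁻¹ * x⁻¹ ∈ A := by
  have e : a * x * a⁻¹ * x⁻¹ = a * (x * a⁻¹ * x⁻¹) := by group
  rw [e]
  exact A.mul_mem ha (h.norm x hx _ (A.inv_mem ha))

theorem abx_central (h : AbxSetup S A P p) {x d : Ω} (hxS : x ∈ S) (hxA : x ∉ A) (hd : d ∈ A)
    (hdx : d * x = x * d) : ∀ s ∈ S, s * d = d * s := by
  intro s hs
  obtain ⟨k, hk⟩ := h.gen x hxS hxA s hs
  have hc : Commute d (x ^ k) := Commute.zpow_right hdx k
  have h1 : s * (x ^ k)⁻¹ * d = d * (s * (x ^ k)⁻¹) := h.comm _ hk _ hd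
  calc s * d = s * (x ^ k)⁻¹ * (x ^ k * d) := by group
    _ = s * (x ^ k)⁻¹ * (d * x ^ k) := by rw [← hc.eq]
    _ = (s * (x ^ k)⁻¹ * d) * x ^ k := by group
    _ = d * (s * (x ^ k)⁻¹) * x ^ k := by rw [h1]
    _ = d * s := by group

theorem abx_comm_of_pre (h : AbxSetup S A P p) (g : MulAut ↥P) {u v : ↥P}
    (hu : ((g⁻¹ u : ↥P) : Ω) ∈ A) (hv : ((g⁻¹ v : ↥P) : Ω) ∈ A) : u * v = v * u := by
  have e : g⁻¹ u * g⁻¹ v = g⁻¹ v * g⁻¹ u := Subtype.ext (h.comm _ hu _ hv)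
  rw [← map_mul, ← map_mul] at e
  exact (g⁻¹).injective e

/-- `a ↦ [a, x]` as an endomorphism of `A`. -/
def abxHom (h : AbxSetup S A P p) (x : Ω) (hx : x ∈ S) : ↥A →* ↥A where
  toFun a := ⟨a * x * (a : Ω)⁻¹ * x⁻¹, abx_comm_mem h hx a.2⟩
  map_one' := by
    apply Subtype.ext
    show (1 : Ω) * x * (1 : Ω)⁻¹ * x⁻¹ = 1
    group
  map_mul' a b := by
    apply Subtype.ext
    show (a : Ω) * b * x * ((a : Ω) * b)⁻¹ * x⁻¹ =
      (a * x * (a : Ω)⁻¹ * x⁻¹) * (b * x * (b : Ω)⁻¹ * x⁻¹)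
    have hb' : (b : Ω) * x * (b : Ω)⁻¹ * x⁻¹ ∈ A := abx_comm_mem h hx b.2
    have ha' : x * (a : Ω)⁻¹ * x⁻¹ ∈ A := h.norm x hx _ (A.inv_mem a.2)
    have e1 : (a : Ω) * b * x * ((a : Ω) * b)⁻¹ * x⁻¹ =
        a * ((b * x * (b : Ω)⁻¹ * x⁻¹) * (x * (a : Ω)⁻¹ * x⁻¹)) := by group
    have e2 : (a * x * (a : Ω)⁻¹ * x⁻¹) * (b * x * (b : Ω)⁻¹ * x⁻¹) =
        a * ((x * (a : Ω)⁻¹ * x⁻¹) * (b * x * (b : Ω)⁻¹ * x⁻¹)) := by group
    rw [e1, e2, h.comm _ hb' _ ha']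

/-- The key non-commutation property of an automorphism `g` of `P`. -/
def AbxK (S P : Subgroup Ω) (g : MulAut ↥P) : Prop :=
  ∀ α β : MulAut ↥P,
    (∃ a ∈ S, a ∉ P ∧ ∀ y : ↥P, ((α y : ↥P) : Ω) = a * y * a⁻¹) →
    (∃ b ∈ S, b ∉ P ∧ ∀ y : ↥P, ((β y : ↥P) : Ω) = b * y * b⁻¹) →
    α * (g * β * g⁻¹) ≠ g * β * g⁻¹ * α

def AbxGood (A P : Subgroup Ω) (g : MulAut ↥P) : Prop :=
  ∃ a ∈ A, a ∉ P ∧ ∃ α : MulAut ↥P, (∀ y : ↥P, ((α y : ↥P) : Ω) = a * y * a⁻¹) ∧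
    ∀ y : ↥P, ((g⁻¹ (α y * y⁻¹) : ↥P) : Ω) ∈ A

def AbxStar (A P : Subgroup Ω) (p : ℕ) : Prop :=
  ∃ a₁ ∈ A, a₁ ∈ Subgroup.normalizer (P : Set Ω) ∧ a₁ ∉ P ∧ a₁ ^ p ∈ P ∧
    ∀ a ∈ A, a ∈ Subgroup.normalizer (P : Set Ω) → ∃ k : ℤ, (a₁ ^ k)⁻¹ * a ∈ P

theorem abx_conj_facts (h : AbxSetup S A P p) {a : Ω} (haA : a ∈ A) (α : MulAut ↥P)
    (hα : ∀ y : ↥P, ((α y : ↥P) : Ω) = a * y * a⁻¹) :
    (∀ y : ↥P, ((α y * y⁻¹ : ↥P) : Ω) ∈ A) ∧ (∀ u : ↥P, (u : Ω) ∈ A → α u = u) := by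
  constructor
  · intro y
    show ((α y : ↥P) : Ω) * (y : Ω)⁻¹ ∈ A
    rw [hα]
    exact abx_comm_mem h (h.hPS y.2) haA
  · intro u hu
    apply Subtype.ext
    rw [hα, h.comm _ haA _ hu]
    group

theorem abx_conj_apply (g α : MulAut ↥P) (y : ↥P) :
    (g * α * g⁻¹) y * y⁻¹ = g (α (g⁻¹ y) * (g⁻¹ y)⁻¹) := by
  rw [map_mul, map_inv]
  simp [MulAut.mul_apply]

theorem abx_crit (h : AbxSetup S A P p) (g : MulAut ↥P) {y₀ : ↥P} (hy₀ : (y₀ : Ω) ∈ A)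
    (hgy₀ : ((g y₀ : ↥P) : Ω) ∉ A) {a : Ω} (haA : a ∈ A) (haP : a ∉ P) (α : MulAut ↥P)
    (hα : ∀ y : ↥P, ((α y : ↥P) : Ω) = a * y * a⁻¹)
    (hcrit : ((g⁻¹ (α (g y₀) * (g y₀)⁻¹) : ↥P) : Ω) ∈ A) : AbxGood A P g := by
  refine ⟨a, haA, haP, α, hα, fun y => ?_⟩
  obtain ⟨x₁, hx₁⟩ : ∃ x₁ : ↥P, x₁ = g y₀ := ⟨_, rfl⟩
  rw [← hx₁] at hgy₀ hcrit
  have hx₁S : (x₁ : Ω) ∈ S := h.hPS x₁.2
  obtain ⟨e, he⟩ : ∃ e : ↥P, e = α x₁ * x₁⁻¹ := ⟨_, rfl⟩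
  rw [← he] at hcrit
  have hgx : g⁻¹ x₁ = y₀ := by rw [hx₁]; simp
  have hex : e * x₁ = x₁ * e := abx_comm_of_pre h g hcrit (by rw [hgx]; exact hy₀)
  have heA : (e : Ω) ∈ A := by rw [he]; exact (abx_conj_facts h haA α hα).1 x₁
  obtain ⟨k, hk⟩ := h.gen x₁ hx₁S hgy₀ y (h.hPS y.2)
  obtain ⟨y₁, hy₁⟩ : ∃ y₁ : ↥P, y₁ = y * (x₁ ^ k)⁻¹ := ⟨_, rfl⟩
  have hy₁A : (y₁ : Ω) ∈ A := by rw [hy₁]; exact hk
  have hαy₁ : α y₁ = y₁ := (abx_conj_facts h haA α hα).2 y₁ hy₁A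
  have hαx : α x₁ = e * x₁ := by rw [he]; group
  have hy : y = y₁ * x₁ ^ k := by rw [hy₁]; group
  have hye : y₁ * e ^ k = e ^ k * y₁ :=
    (Commute.zpow_right (show Commute y₁ e from Subtype.ext (h.comm _ hy₁A _ heA)) k).eq
  have hcalc : α y * y⁻¹ = e ^ k := by
    rw [hy, map_mul, map_zpow, hαy₁, hαx, (show Commute e x₁ from hex).mul_zpow]
    calc y₁ * (e ^ k * x₁ ^ k) * (y₁ * x₁ ^ k)⁻¹ = (y₁ * e ^ k) * y₁⁻¹ := by group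
      _ = e ^ k * y₁ * y₁⁻¹ := by rw [hye]
      _ = e ^ k := by group
  rw [hcalc, map_zpow]
  exact A.zpow_mem hcrit k

theorem abx_good_or_star (h : AbxSetup S A P p) (g : MulAut ↥P) {y₀ : ↥P} (hy₀ : (y₀ : Ω) ∈ A)
    (hgy₀ : ((g y₀ : ↥P) : Ω) ∉ A)
    (hE : ∃ a ∈ A, a ∈ Subgroup.normalizer (P : Set Ω) ∧ a ∉ P) :
    AbxGood A P g ∨ AbxStar A P p := by
  by_cases hG : AbxGood A P g
  · exact Or.inl hG
  right
  obtain ⟨a₁, ha₁A, ha₁N, ha₁P⟩ := hE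
  obtain ⟨x₁, hx₁⟩ : ∃ x₁ : ↥P, x₁ = g y₀ := ⟨_, rfl⟩
  have hx₁S : (x₁ : Ω) ∈ S := h.hPS x₁.2
  have key : ∀ (a : Ω) (_ : a ∈ A) (haN : a ∈ Subgroup.normalizer (P : Set Ω)),
      ((g⁻¹ (P.normalizerMonoidHom ⟨a, haN⟩ x₁ * x₁⁻¹) : ↥P) : Ω) ∈ A → a ∈ P := by
    intro a haA haN hmem
    by_contra haP
    apply hG
    refine abx_crit h g hy₀ hgy₀ haA haP (P.normalizerMonoidHom ⟨a, haN⟩) (fun y => rfl) ?_
    rw [← hx₁]
    exact hmem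
  obtain ⟨e₁, he₁⟩ : ∃ e₁ : ↥P, e₁ = P.normalizerMonoidHom ⟨a₁, ha₁N⟩ x₁ * x₁⁻¹ := ⟨_, rfl⟩
  have hge₁ : ((g⁻¹ e₁ : ↥P) : Ω) ∉ A := by
    intro hmem
    rw [he₁] at hmem
    exact ha₁P (key a₁ ha₁A ha₁N hmem)
  refine ⟨a₁, ha₁A, ha₁N, ha₁P, ?_, ?_⟩
  · have hN : a₁ ^ p ∈ Subgroup.normalizer (P : Set Ω) := Subgroup.pow_mem _ ha₁N p
    apply key (a₁ ^ p) (A.pow_mem ha₁A p) hN
    have e : P.normalizerMonoidHom ⟨a₁ ^ p, hN⟩ x₁ * x₁⁻¹ = e₁ ^ p := by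
      apply Subtype.ext
      rw [he₁]
      have h1 := congrArg Subtype.val (map_pow (abxHom h (x₁ : Ω) hx₁S) ⟨a₁, ha₁A⟩ p)
      exact h1
    rw [e, map_pow]
    exact h.pow _ (h.hPS (g⁻¹ e₁).2)
  · intro a haA haN
    obtain ⟨c, hc⟩ : ∃ c : ↥P, c = P.normalizerMonoidHom ⟨a, haN⟩ x₁ * x₁⁻¹ := ⟨_, rfl⟩
    obtain ⟨k, hk⟩ := h.gen _ (h.hPS (g⁻¹ e₁).2) hge₁ _ (h.hPS (g⁻¹ c).2)
    refine ⟨k, ?_⟩
    have hcomm : (a₁ ^ k)⁻¹ * a = a * (a₁ ^ k)⁻¹ :=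
      h.comm _ (A.inv_mem (A.zpow_mem ha₁A k)) _ haA
    rw [hcomm]
    have hN : a * (a₁ ^ k)⁻¹ ∈ Subgroup.normalizer (P : Set Ω) :=
      Subgroup.mul_mem _ haN (Subgroup.inv_mem _ (Subgroup.zpow_mem _ ha₁N k))
    apply key _ (A.mul_mem haA (A.inv_mem (A.zpow_mem ha₁A k))) hN
    have e : P.normalizerMonoidHom ⟨a * (a₁ ^ k)⁻¹, hN⟩ x₁ * x₁⁻¹ = c * (e₁ ^ k)⁻¹ := by
      apply Subtype.ext
      rw [hc, he₁]
      have h0 : abxHom h (x₁ : Ω) hx₁S (⟨a, haA⟩ * (⟨a₁, ha₁A⟩ ^ k)⁻¹) =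
          abxHom h (x₁ : Ω) hx₁S ⟨a, haA⟩ * (abxHom h (x₁ : Ω) hx₁S ⟨a₁, ha₁A⟩ ^ k)⁻¹ := by
        rw [map_mul, map_inv, map_zpow]
      have h1 := congrArg Subtype.val h0
      exact h1
    rw [e, map_mul, map_inv, map_zpow]
    exact hk

theorem abx_moves (h : AbxSetup S A P p) [Finite ↥P] (g : MulAut ↥P) (hK : AbxK S P g)
    (hE : ∃ a ∈ A, a ∈ Subgroup.normalizer (P : Set Ω) ∧ a ∉ P) :
    ∃ y₀ : ↥P, (y₀ : Ω) ∈ A ∧ ((g y₀ : ↥P) : Ω) ∉ A := by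
  by_contra hcon
  push Not at hcon
  obtain ⟨a₁, ha₁A, ha₁N, ha₁P⟩ := hE
  have hinv : ∀ u : ↥P, (u : Ω) ∈ A → ((g⁻¹ u : ↥P) : Ω) ∈ A := by
    have hle : (A.subgroupOf P).map g.toMonoidHom ≤ A.subgroupOf P := by
      rintro _ ⟨v, hv, rfl⟩
      exact Subgroup.mem_subgroupOf.2 (hcon v (Subgroup.mem_subgroupOf.1 hv))
    have hcard : Nat.card ↥(A.subgroupOf P) ≤ Nat.card ↥((A.subgroupOf P).map g.toMonoidHom) :=
      (Subgroup.card_map_of_injective g.injective).ge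
    have heq := Subgroup.eq_of_le_of_card_ge hle hcard
    intro u hu
    have hu' : u ∈ (A.subgroupOf P).map g.toMonoidHom := by
      rw [heq]; exact Subgroup.mem_subgroupOf.2 hu
    obtain ⟨v, hv, hvu⟩ := hu'
    have hgu : g⁻¹ u = v := by rw [← hvu]; simp
    rw [hgu]; exact Subgroup.mem_subgroupOf.1 hv
  obtain ⟨α, hαdef⟩ : ∃ α : MulAut ↥P, α = P.normalizerMonoidHom ⟨a₁, ha₁N⟩ := ⟨_, rfl⟩
  have hα : ∀ y : ↥P, ((α y : ↥P) : Ω) = a₁ * y * a₁⁻¹ := fun y => by rw [hαdef]; rfl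
  have hαw : ∃ a ∈ S, a ∉ P ∧ ∀ y : ↥P, ((α y : ↥P) : Ω) = a * y * a⁻¹ :=
    ⟨a₁, h.hAS ha₁A, ha₁P, hα⟩
  apply hK α α hαw hαw
  obtain ⟨hαD, hαfix⟩ := abx_conj_facts h ha₁A α hα
  refine abx_commute {d : ↥P | (d : Ω) ∈ A} ?_ α (g * α * g⁻¹) hαD ?_ hαfix ?_
  · intro u hu v hv
    exact Subtype.ext (h.comm _ hu _ hv)
  · intro y
    rw [abx_conj_apply]
    exact hcon _ (hαD _)
  · intro u hu
    have e : (g * α * g⁻¹) u = g (α (g⁻¹ u)) := rfl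
    rw [e, hαfix _ (hinv u hu)]
    simp

theorem abx_good_contra (h : AbxSetup S A P p) (g : MulAut ↥P) (hK : AbxK S P g)
    (h1 : AbxGood A P g) (h2 : AbxGood A P g⁻¹) : False := by
  obtain ⟨a, haA, haP, α, hα, hαg⟩ := h1
  obtain ⟨b, hbA, hbP, β, hβ, hβg⟩ := h2
  apply hK α β ⟨a, h.hAS haA, haP, hα⟩ ⟨b, h.hAS hbA, hbP, hβ⟩
  obtain ⟨hαA, hαfix⟩ := abx_conj_facts h haA α hα
  obtain ⟨hβA, hβfix⟩ := abx_conj_facts h hbA β hβ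
  refine abx_commute {d : ↥P | (d : Ω) ∈ A ∧ ((g⁻¹ d : ↥P) : Ω) ∈ A} ?_ α (g * β * g⁻¹)
    ?_ ?_ ?_ ?_
  · rintro u ⟨hu, -⟩ v ⟨hv, -⟩
    exact Subtype.ext (h.comm _ hu _ hv)
  · intro y
    exact ⟨hαA y, hαg y⟩
  · intro y
    rw [abx_conj_apply]
    refine ⟨?_, ?_⟩
    · have h3 := hβg (g⁻¹ y)
      rw [inv_inv] at h3
      exact h3
    · have e2 : g⁻¹ (g (β (g⁻¹ y) * (g⁻¹ y)⁻¹)) = β (g⁻¹ y) * (g⁻¹ y)⁻¹ := by simp
      rw [e2]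
      exact hβA _
  · rintro u ⟨hu, -⟩
    exact hαfix u hu
  · rintro u ⟨-, hu⟩
    have e : (g * β * g⁻¹) u = g (β (g⁻¹ u)) := rfl
    rw [e, hβfix _ hu]
    simp

theorem abx_star (h : AbxSetup S A P p) [Finite ↥P] (g : MulAut ↥P) (hK : AbxK S P g)
    (hE : ∃ a ∈ A, a ∈ Subgroup.normalizer (P : Set Ω) ∧ a ∉ P) : AbxStar A P p := by
  have hK' : AbxK S P g⁻¹ := by
    intro α β hα hβ heq
    apply hK β α hβ hα
    calc β * (g * α * g⁻¹) = g * (g⁻¹ * β * g⁻¹⁻¹ * α) * g⁻¹ := by group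
      _ = g * (α * (g⁻¹ * β * g⁻¹⁻¹)) * g⁻¹ := by rw [heq]
      _ = g * α * g⁻¹ * β := by group
  obtain ⟨y₀, hy₀, hgy₀⟩ := abx_moves h g hK hE
  obtain ⟨y₁, hy₁, hgy₁⟩ := abx_moves h g⁻¹ hK' hE
  rcases abx_good_or_star h g hy₀ hgy₀ hE with h1 | h1
  · rcases abx_good_or_star h g⁻¹ hy₁ hgy₁ hE with h2 | h2
    · exact (abx_good_contra h g hK h1 h2).elim
    · exact h2
  · exact h1

theorem abx_comm_central (h : AbxSetup S A P p) (g : MulAut ↥P) {y₀ : ↥P} (hy₀ : (y₀ : Ω) ∈ A)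
    (hgy₀ : ((g y₀ : ↥P) : Ω) ∉ A) {y : Ω} (hyP : y ∈ P) (hyA : y ∈ A) {t : Ω} (ht : t ∈ S) :
    ∀ s ∈ S, s * (y * t * y⁻¹ * t⁻¹) = (y * t * y⁻¹ * t⁻¹) * s := by
  obtain ⟨x₁, hx₁⟩ : ∃ x₁ : ↥P, x₁ = g y₀ := ⟨_, rfl⟩
  rw [← hx₁] at hgy₀
  have hx₁S : (x₁ : Ω) ∈ S := h.hPS x₁.2
  have hgx : g⁻¹ x₁ = y₀ := by rw [hx₁]; simp
  obtain ⟨k, hk⟩ := h.gen x₁ hx₁S hgy₀ t ht
  obtain ⟨w, hw⟩ : ∃ w : ↥P, w = ⟨y, hyP⟩ * x₁ ^ k * (⟨y, hyP⟩ : ↥P)⁻¹ * (x₁ ^ k)⁻¹ :=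
    ⟨_, rfl⟩
  have hwv : (w : Ω) = y * (x₁ : Ω) ^ k * y⁻¹ * ((x₁ : Ω) ^ k)⁻¹ := by rw [hw]; rfl
  have hwA : (w : Ω) ∈ A := by
    rw [hwv]
    have e : y * (x₁ : Ω) ^ k * y⁻¹ * ((x₁ : Ω) ^ k)⁻¹ =
        y * ((x₁ : Ω) ^ k * y⁻¹ * ((x₁ : Ω) ^ k)⁻¹) := by group
    rw [e]
    exact A.mul_mem hyA (h.norm _ (S.zpow_mem hx₁S k) _ (A.inv_mem hyA))
  have hgw : ((g⁻¹ w : ↥P) : Ω) ∈ A := by
    rw [hw, map_mul, map_mul, map_mul, map_inv, map_inv, map_zpow, hgx]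
    simp only [Subgroup.coe_mul, Subgroup.coe_inv, Subgroup.coe_zpow]
    exact A.mul_mem (h.norm _ (h.hPS (g⁻¹ ⟨y, hyP⟩).2) _ (A.zpow_mem hy₀ k))
      (A.inv_mem (A.zpow_mem hy₀ k))
  have hwx : w * x₁ = x₁ * w := abx_comm_of_pre h g hgw (by rw [hgx]; exact hy₀)
  have hwx' : (w : Ω) * x₁ = x₁ * w := congrArg Subtype.val hwx
  have hcen := abx_central h hx₁S hgy₀ hwA hwx'
  have hd : y * t * y⁻¹ * t⁻¹ = w := by
    obtain ⟨a, ha⟩ : ∃ a, a = t * ((x₁ : Ω) ^ k)⁻¹ := ⟨_, rfl⟩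
    have haA : a ∈ A := ha ▸ hk
    have ht' : t = a * (x₁ : Ω) ^ k := by rw [ha]; group
    have h1 : y * a = a * y := h.comm _ hyA _ haA
    have h2 : a * (w : Ω) = w * a := h.comm _ haA _ hwA
    calc y * t * y⁻¹ * t⁻¹
        = (y * a) * (x₁ : Ω) ^ k * y⁻¹ * ((x₁ : Ω) ^ k)⁻¹ * a⁻¹ := by rw [ht']; group
      _ = a * y * (x₁ : Ω) ^ k * y⁻¹ * ((x₁ : Ω) ^ k)⁻¹ * a⁻¹ := by rw [h1]
      _ = a * (w : Ω) * a⁻¹ := by rw [hwv]; group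
      _ = w * a * a⁻¹ := by rw [h2]
      _ = w := by group
  rw [hd]
  exact hcen

theorem abx_cen_mem (h : AbxSetup S A P p) [Finite ↥P] (g : MulAut ↥P) (hK : AbxK S P g)
    {x : Ω} (hxP : x ∈ P) (hxA : x ∉ A) (hPna : ¬ ∀ y y' : ↥P, y * y' = y' * y)
    {s : Ω} (hsS : s ∈ S)
    (hs : ∀ y ∈ P, ∀ s' ∈ S, s' * (s * y * s⁻¹ * y⁻¹) = (s * y * s⁻¹ * y⁻¹) * s') : s ∈ P := by
  by_contra hsP
  have hZ : ∀ u : ↥P, (∀ y : ↥P, y * u = u * y) → ∀ s' ∈ S, s' * (u : Ω) = u * s' := by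
    intro u hu
    have huA : (u : Ω) ∈ A := by
      by_contra huA
      apply hPna
      intro y y'
      obtain ⟨k, hk⟩ := h.gen u (h.hPS u.2) huA y (h.hPS y.2)
      obtain ⟨k', hk'⟩ := h.gen u (h.hPS u.2) huA y' (h.hPS y'.2)
      obtain ⟨y₁, hy₁⟩ : ∃ y₁ : ↥P, y₁ = y * (u ^ k)⁻¹ := ⟨_, rfl⟩
      obtain ⟨y₁', hy₁'⟩ : ∃ y₁' : ↥P, y₁' = y' * (u ^ k')⁻¹ := ⟨_, rfl⟩
      have hy₁A : (y₁ : Ω) ∈ A := by rw [hy₁]; exact hk
      have hy₁'A : (y₁' : Ω) ∈ A := by rw [hy₁']; exact hk'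
      have hc : y₁ * y₁' = y₁' * y₁ := Subtype.ext (h.comm _ hy₁A _ hy₁'A)
      have hy : y = y₁ * u ^ k := by rw [hy₁]; group
      have hy' : y' = y₁' * u ^ k' := by rw [hy₁']; group
      have hcu : ∀ (z : ↥P) (j : ℤ), z * u ^ j = u ^ j * z := fun z j =>
        (Commute.zpow_right (show Commute z u from hu z) j).eq
      rw [hy, hy']
      calc y₁ * u ^ k * (y₁' * u ^ k') = y₁ * (u ^ k * y₁') * u ^ k' := by group
        _ = y₁ * (y₁' * u ^ k) * u ^ k' := by rw [← hcu y₁' k]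
        _ = (y₁ * y₁') * (u ^ k * u ^ k') := by group
        _ = (y₁' * y₁) * (u ^ k' * u ^ k) := by rw [hc, hcu (u ^ k) k']
        _ = y₁' * (y₁ * u ^ k') * u ^ k := by group
        _ = y₁' * (u ^ k' * y₁) * u ^ k := by rw [hcu y₁ k']
        _ = y₁' * u ^ k' * (y₁ * u ^ k) := by group
    exact abx_central h (h.hPS hxP) hxA huA (congrArg Subtype.val (hu ⟨x, hxP⟩)).symm
  have hsN : s ∈ Subgroup.normalizer (P : Set Ω) := by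
    apply Subgroup.mem_normalizer_fintype
    intro y hy
    have hc : s * y * s⁻¹ * y⁻¹ ∈ P := by
      apply h.cen _ (S.mul_mem (S.mul_mem (S.mul_mem hsS (h.hPS hy)) (S.inv_mem hsS))
        (S.inv_mem (h.hPS hy)))
      intro y' hy'
      exact hs y hy y' (h.hPS hy')
    have e : s * y * s⁻¹ = (s * y * s⁻¹ * y⁻¹) * y := by group
    rw [e]
    exact P.mul_mem hc hy
  obtain ⟨α, hαdef⟩ : ∃ α : MulAut ↥P, α = P.normalizerMonoidHom ⟨s, hsN⟩ := ⟨_, rfl⟩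
  have hα : ∀ y : ↥P, ((α y : ↥P) : Ω) = s * y * s⁻¹ := fun y => by rw [hαdef]; rfl
  have hαw : ∃ a ∈ S, a ∉ P ∧ ∀ y : ↥P, ((α y : ↥P) : Ω) = a * y * a⁻¹ := ⟨s, hsS, hsP, hα⟩
  apply hK α α hαw hαw
  have hαD : ∀ y : ↥P, ∀ z : ↥P, z * (α y * y⁻¹) = (α y * y⁻¹) * z := by
    intro y z
    apply Subtype.ext
    show (z : Ω) * (((α y : ↥P) : Ω) * (y : Ω)⁻¹) = (((α y : ↥P) : Ω) * (y : Ω)⁻¹) * z
    rw [hα]
    exact hs y y.2 z (h.hPS z.2)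
  have hαfix : ∀ u : ↥P, (∀ z : ↥P, z * u = u * z) → α u = u := by
    intro u hu
    apply Subtype.ext
    rw [hα, hZ u hu s hsS]
    group
  have hginv : ∀ (f : MulAut ↥P) (u : ↥P), (∀ z : ↥P, z * u = u * z) →
      ∀ z : ↥P, z * f u = f u * z := by
    intro f u hu z
    have h1 := congrArg f (hu (f⁻¹ z))
    rw [map_mul, map_mul] at h1
    simpa using h1
  refine abx_commute {d : ↥P | ∀ z : ↥P, z * d = d * z} ?_ α (g * α * g⁻¹) hαD ?_ hαfix ?_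
  · intro u hu v _
    exact (hu v).symm
  · intro y
    rw [abx_conj_apply]
    exact hginv g _ (hαD _)
  · intro u hu
    have e : (g * α * g⁻¹) u = g (α (g⁻¹ u)) := rfl
    rw [e, hαfix _ (hginv g⁻¹ u hu)]
    simp

theorem abx_group (h : AbxSetup S A P p) [Finite ↥P] (g : MulAut ↥P) (hK : AbxK S P g)
    (hE : ∃ n ∈ S, n ∉ P ∧ n ∈ Subgroup.normalizer (P : Set Ω)) {x : Ω} (hxP : x ∈ P)
    (hxA : x ∉ A) :
    (P = (S ⊓ Subgroup.centralizer (S : Set Ω)) ⊔ Subgroup.zpowers x ∨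
      (((Subgroup.upperCentralSeries ↥S 2).map S.subtype) ≤ A ∧
        P = ((Subgroup.upperCentralSeries ↥S 2).map S.subtype) ⊔ Subgroup.zpowers x)) ∧
    AbxStar A P p := by
  have hxS := h.hPS hxP
  have hdec : ∀ y ∈ P, ∃ k : ℤ, y * (x ^ k)⁻¹ ∈ A ∧ y * (x ^ k)⁻¹ ∈ P := fun y hy => by
    obtain ⟨k, hk⟩ := h.gen x hxS hxA y (h.hPS hy)
    exact ⟨k, hk, P.mul_mem hy (P.inv_mem (P.zpow_mem hxP k))⟩
  have hE' : ∃ a ∈ A, a ∈ Subgroup.normalizer (P : Set Ω) ∧ a ∉ P := by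
    obtain ⟨n, hnS, hnP, hnN⟩ := hE
    obtain ⟨k, hk⟩ := h.gen x hxS hxA n hnS
    have hxN : x ∈ Subgroup.normalizer (P : Set Ω) := Subgroup.le_normalizer hxP
    refine ⟨_, hk, Subgroup.mul_mem _ hnN (Subgroup.inv_mem _ (Subgroup.zpow_mem _ hxN k)),
      fun hcon => hnP ?_⟩
    have e : n = n * (x ^ k)⁻¹ * x ^ k := by group
    rw [e]
    exact P.mul_mem hcon (P.zpow_mem hxP k)
  refine ⟨?_, abx_star h g hK hE'⟩
  have hZP : S ⊓ Subgroup.centralizer (S : Set Ω) ≤ P := by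
    intro z hz
    obtain ⟨hzS, hzc⟩ := Subgroup.mem_inf.1 hz
    exact h.cen z hzS (fun y hy => Subgroup.mem_centralizer_iff.1 hzc y (h.hPS hy))
  have hsup : ∀ W : Subgroup Ω, (∀ y ∈ P, y ∈ A → y ∈ W) → P ≤ W ⊔ Subgroup.zpowers x := by
    intro W hW y hy
    obtain ⟨k, hkA, hkP⟩ := hdec y hy
    have e : y = y * (x ^ k)⁻¹ * x ^ k := by group
    rw [e]
    exact Subgroup.mul_mem_sup (hW _ hkP hkA) (Subgroup.zpow_mem_zpowers x k)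
  have hxle : Subgroup.zpowers x ≤ P := (Subgroup.zpowers_le).2 hxP
  by_cases hPab : ∀ y y' : ↥P, y * y' = y' * y
  · left
    apply le_antisymm
    · apply hsup
      intro y hyP hyA
      refine Subgroup.mem_inf.2 ⟨h.hPS hyP, Subgroup.mem_centralizer_iff.2 ?_⟩
      have hyx : y * x = x * y := congrArg Subtype.val (hPab ⟨y, hyP⟩ ⟨x, hxP⟩)
      exact abx_central h hxS hxA hyA hyx
    · exact sup_le hZP hxle
  · right
    obtain ⟨y₀, hy₀, hgy₀⟩ := abx_moves h g hK hE'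
    have hVP : (Subgroup.upperCentralSeries ↥S 2).map S.subtype ≤ P := by
      intro v hv
      obtain ⟨hvS, hvc⟩ := abx_mem_Z2.1 hv
      exact abx_cen_mem h g hK hxP hxA hPab hvS (fun y hy s' hs' => hvc y (h.hPS hy) s' hs')
    have hP0V : ∀ y ∈ P, y ∈ A → y ∈ (Subgroup.upperCentralSeries ↥S 2).map S.subtype := by
      intro y hyP hyA
      exact abx_mem_Z2.2 ⟨h.hPS hyP, fun t ht => abx_comm_central h g hy₀ hgy₀ hyP hyA ht⟩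
    refine ⟨?_, le_antisymm (hsup _ hP0V) (sup_le hVP hxle)⟩
    intro t htV
    by_contra htA
    have htP : t ∈ P := hVP htV
    obtain ⟨a₁, ha₁A, ha₁N, ha₁P⟩ := hE'
    apply ha₁P
    apply abx_cen_mem h g hK hxP hxA hPab (h.hAS ha₁A)
    intro y hy s' hs'
    have hyV : y ∈ (Subgroup.upperCentralSeries ↥S 2).map S.subtype := by
      obtain ⟨k, hk⟩ := h.gen t (h.hPS htP) htA y (h.hPS hy)
      have e : y = y * (t ^ k)⁻¹ * t ^ k := by group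
      rw [e]
      exact Subgroup.mul_mem _ (hP0V _ (P.mul_mem hy (P.inv_mem (P.zpow_mem htP k))) hk)
        (Subgroup.zpow_mem _ htV k)
    have hc := (abx_mem_Z2.1 hyV).2 a₁ (h.hAS ha₁A) s' hs'
    have e : a₁ * y * a₁⁻¹ * y⁻¹ = (y * a₁ * y⁻¹ * a₁⁻¹)⁻¹ := by group
    rw [e]
    exact (Commute.inv_right (show Commute s' (y * a₁ * y⁻¹ * a₁⁻¹) from hc)).eq

theorem abx_setup [Finite S] [Fact p.Prime] (hS : IsPGroup p S) (hPS : P ≤ S)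
    (hA : A ≤ S ∧ IsMulCommutative ↥A ∧ (A.subgroupOf S).index = p)
    (hcen : centralizerIn S P ≤ P) : AbxSetup S A P p := by
  have hp := (Fact.out : p.Prime)
  obtain ⟨hAS, hAc, hAi⟩ := hA
  have hn : (A.subgroupOf S).Normal := by
    apply Subgroup.normal_of_index_eq_minFac_card
    obtain ⟨n, hn⟩ := IsPGroup.iff_card.1 hS
    have hn0 : n ≠ 0 := by
      rintro rfl
      have h1 := Subgroup.index_dvd_card (A.subgroupOf S)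
      rw [hAi, hn, pow_zero] at h1
      exact hp.one_lt.ne' (Nat.dvd_one.1 h1)
    rw [hAi, hn, hp.pow_minFac hn0]
  have hcard : Nat.card (↥S ⧸ A.subgroupOf S) = p := by
    rw [← Subgroup.index_eq_card]
    exact hAi
  refine ⟨hAS, hPS, ?_, ?_, ?_, ?_, ?_⟩
  · intro a ha b hb
    exact congrArg Subtype.val (isMulCommutative_iff.1 hAc ⟨a, ha⟩ ⟨b, hb⟩)
  · intro s hs a ha
    have h1 := hn.conj_mem ⟨a, hAS ha⟩ (Subgroup.mem_subgroupOf.2 ha) ⟨s, hs⟩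
    exact Subgroup.mem_subgroupOf.1 h1
  · intro s hs
    have h1 : (QuotientGroup.mk ⟨s, hs⟩ : ↥S ⧸ A.subgroupOf S) ^ p = 1 := by
      rw [← hcard]
      exact pow_card_eq_one'
    rw [← QuotientGroup.mk_pow, QuotientGroup.eq_one_iff, Subgroup.mem_subgroupOf] at h1
    exact h1
  · intro x hxS hxA s hs
    have hx1 : (QuotientGroup.mk ⟨x, hxS⟩ : ↥S ⧸ A.subgroupOf S) ≠ 1 := by
      intro h1
      rw [QuotientGroup.eq_one_iff, Subgroup.mem_subgroupOf] at h1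
      exact hxA h1
    have hmem : (QuotientGroup.mk ⟨s, hs⟩ : ↥S ⧸ A.subgroupOf S) ∈
        Subgroup.zpowers (QuotientGroup.mk ⟨x, hxS⟩ : ↥S ⧸ A.subgroupOf S) :=
      mem_zpowers_of_prime_card hcard hx1
    obtain ⟨k, hk⟩ := Subgroup.mem_zpowers_iff.1 hmem
    refine ⟨k, ?_⟩
    rw [← QuotientGroup.mk_zpow] at hk
    have h2 := QuotientGroup.eq_iff_div_mem.1 hk.symm
    rw [Subgroup.mem_subgroupOf, div_eq_mul_inv] at h2
    exact h2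
  · intro c hcS hc
    exact hcen (mem_centralizerIn.2 ⟨hcS, hc⟩)

theorem abx_inn_mem (hP : P ≤ S) (hcen : centralizerIn S P ≤ P) {a : Ω}
    (haS : a ∈ S) {α : MulAut ↥P} (hα : ∀ y : ↥P, ((α y : ↥P) : Ω) = a * y * a⁻¹)
    (hin : α ∈ Inn P) : a ∈ P := by
  obtain ⟨u, hu⟩ := hin
  have hc : (u : Ω)⁻¹ * a ∈ centralizerIn S P := by
    rw [mem_centralizerIn]
    refine ⟨S.mul_mem (S.inv_mem (hP u.2)) haS, fun x hx => ?_⟩
    have h1 : (u : Ω) * x * (u : Ω)⁻¹ = a * x * a⁻¹ :=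
      (congrArg Subtype.val (congrArg (fun f : MulAut P => f ⟨x, hx⟩) hu)).trans (hα ⟨x, hx⟩)
    calc x * ((u : Ω)⁻¹ * a) = (u : Ω)⁻¹ * ((u : Ω) * x * (u : Ω)⁻¹) * a := by group
      _ = (u : Ω)⁻¹ * (a * x * a⁻¹) * a := by rw [h1]
      _ = (u : Ω)⁻¹ * a * x := by group
  have h3 := hcen hc
  have e : a = (u : Ω) * ((u : Ω)⁻¹ * a) := by group
  rw [e]
  exact P.mul_mem u.2 h3

theorem abx_ne_top [Finite S] (p : ℕ) [Fact p.Prime] (hS : IsPGroup p S)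
    (F : FusionSystem S) (hF : F.IsSaturated p) {Q : Subgroup Ω} (hQ : F.IsEssential p Q) :
    Q ≠ S := by
  obtain ⟨-, hfn, hI, E, hdvd, -, -⟩ := hQ
  intro hQS
  obtain ⟨-, -, R, hR⟩ := sat_fullyNormalized p hS F hF hfn
  have hQfin : Finite Q := finite_of_le hfn.1
  have hAi : autInducedBy S Q ≤ Inn Q := by
    unfold autInducedBy
    rw [Subgroup.closure_le]
    rintro α ⟨g, hg, hα⟩
    have hgQ : g ∈ Q := by rw [hQS]; exact hg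
    exact ⟨⟨g, hgQ⟩, MulEquiv.ext (fun x => Subtype.ext (hα x).symm)⟩
  have heq : (Inn Q).subgroupOf (F.autGroup Q) = (R : Subgroup (F.autGroup Q)) := by
    rw [hR]
    refine le_antisymm ?_ ?_
    · intro a ha
      exact Subgroup.mem_subgroupOf.2 (inn_le_autInducedBy hfn.1 (Subgroup.mem_subgroupOf.1 ha))
    · intro a ha
      exact Subgroup.mem_subgroupOf.2 (hAi (Subgroup.mem_subgroupOf.1 ha))
  have hnd : ¬ p ∣ (R : Subgroup (F.autGroup Q)).index := R.not_dvd_index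
  rw [← heq] at hnd
  apply hnd
  rw [Subgroup.index_eq_card]
  exact hdvd

theorem abx_fusK [Finite S] (p : ℕ) [Fact p.Prime] (hS : IsPGroup p S) (F : FusionSystem S)
    (hF : F.IsSaturated p) {P : Subgroup Ω} (hP : F.IsEssential p P) :
    ∃ g : MulAut ↥P, AbxK S P g := by
  obtain ⟨hcen, hfn, hI, E, hEdvd, hEtop, T₀, hT₀⟩ := hP
  have hPS : P ≤ S := hfn.1
  have hPfin : Finite ↥P := finite_of_le hPS
  have hcen' : centralizerIn S P ≤ P := hcen.2 P (isConj_refl F hPS)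
  obtain ⟨hfc, hfa⟩ := sat_fullyNormalized p hS F hF hfn
  obtain ⟨R, hR⟩ := hfa.2
  obtain ⟨T, hT⟩ : ∃ T : Sylow p (F.autGroup P ⧸ (Inn P).subgroupOf (F.autGroup P)),
      (T : Subgroup _) = ((autInducedBy S P).subgroupOf (F.autGroup P)).map
        (QuotientGroup.mk' ((Inn P).subgroupOf (F.autGroup P))) := by
    refine ⟨R.mapSurjective (QuotientGroup.mk'_surjective _), ?_⟩
    rw [Sylow.coe_mapSurjective, hR]
  obtain ⟨M', hM'top, hM'⟩ := exists_proper_of_fus T T₀ hT₀ hEtop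
  obtain ⟨q, hq⟩ : ∃ q, q ∉ M' := by
    by_contra hcon
    push Not at hcon
    exact hM'top ((Subgroup.eq_top_iff' M').2 hcon)
  obtain ⟨g₀, hg₀⟩ := QuotientGroup.mk'_surjective _ q
  refine ⟨(g₀ : MulAut ↥P), ?_⟩
  rintro α β ⟨a, haS, haP, hα⟩ ⟨b, hbS, hbP, hβ⟩ hcomm
  have hαS : α ∈ autInducedBy S P := mem_autInducedBy_iff.2 ⟨a, haS, hα⟩
  have hβS : β ∈ autInducedBy S P := mem_autInducedBy_iff.2 ⟨b, hbS, hβ⟩
  have hαA : α ∈ F.autGroup P := autInducedBy_le_autGroup F hPS hαS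
  have hβA : β ∈ F.autGroup P := autInducedBy_le_autGroup F hPS hβS
  obtain ⟨t, ht⟩ : ∃ t, t = QuotientGroup.mk' ((Inn P).subgroupOf (F.autGroup P)) ⟨α, hαA⟩ :=
    ⟨_, rfl⟩
  obtain ⟨u, hu⟩ : ∃ u, u = QuotientGroup.mk' ((Inn P).subgroupOf (F.autGroup P)) ⟨β, hβA⟩ :=
    ⟨_, rfl⟩
  have htT : t ∈ (T : Subgroup _) := by
    rw [hT, ht]
    exact ⟨⟨α, hαA⟩, Subgroup.mem_subgroupOf.2 hαS, rfl⟩
  have huT : u ∈ (T : Subgroup _) := by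
    rw [hT, hu]
    exact ⟨⟨β, hβA⟩, Subgroup.mem_subgroupOf.2 hβS, rfl⟩
  have ht1 : t ≠ 1 := by
    intro h1
    rw [ht, QuotientGroup.mk'_apply, QuotientGroup.eq_one_iff, Subgroup.mem_subgroupOf] at h1
    exact haP (abx_inn_mem hPS hcen' haS hα h1)
  have hu1 : u ≠ 1 := by
    intro h1
    rw [hu, QuotientGroup.mk'_apply, QuotientGroup.eq_one_iff, Subgroup.mem_subgroupOf] at h1
    exact hbP (abx_inn_mem hPS hcen' hbS hβ h1)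
  have hcq : t * (q * u * q⁻¹) = q * u * q⁻¹ * t := by
    have h0 : (⟨α, hαA⟩ : F.autGroup P) * (g₀ * ⟨β, hβA⟩ * g₀⁻¹) =
        g₀ * ⟨β, hβA⟩ * g₀⁻¹ * ⟨α, hαA⟩ := Subtype.ext hcomm
    have h1 := congrArg (QuotientGroup.mk' ((Inn P).subgroupOf (F.autGroup P))) h0
    simp only [map_mul, map_inv] at h1
    rw [ht, hu, ← hg₀]
    exact h1
  obtain ⟨s, hs⟩ : ∃ s, s = q * u * q⁻¹ := ⟨_, rfl⟩
  rw [← hs] at hcq
  have hsM : s ∈ M' := by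
    apply hM' s
    refine ⟨t, htT, ht1, ?_⟩
    have e : s * t * s⁻¹ = t := by rw [← hcq]; group
    rw [e]
    exact htT
  have hTM : (T : Subgroup _) ≤ M' := by
    intro v hv
    exact hM' v ⟨t, htT, ht1,
      Subgroup.mul_mem _ (Subgroup.mul_mem _ hv htT) (Subgroup.inv_mem _ hv)⟩
  obtain ⟨n, hn⟩ := T.isPGroup' ⟨u, huT⟩
  have hun : u ^ p ^ n = 1 := congrArg Subtype.val hn
  have hsp : s ^ p ^ n = 1 := by rw [hs, conj_pow, hun, mul_one, mul_inv_cancel]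
  have hZp : IsPGroup p ↥(Subgroup.zpowers s) := isPGroup_zpowers hsp
  obtain ⟨k, hkM, hkp⟩ :=
    exists_common_pSubgroup T.isPGroup' hZp hTM ((Subgroup.zpowers_le).2 hsM)
  have hTeq := T.3 hkp le_sup_left
  have hksT : k * s * k⁻¹ ∈ (T : Subgroup _) := by
    rw [← hTeq]
    exact Subgroup.mem_sup_right (conj_mem_map_conj k (Subgroup.mem_zpowers s))
  have hkg : k * q ∈ M' := by
    apply hM'
    refine ⟨u, huT, hu1, ?_⟩
    have e : k * q * u * (k * q)⁻¹ = k * s * k⁻¹ := by rw [hs]; group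
    rw [e]
    exact hksT
  apply hq
  have e : q = k⁻¹ * (k * q) := by group
  rw [e]
  exact M'.mul_mem (M'.inv_mem hkM) hkg

/-- Essential subgroups of a saturated fusion system over a `p`-group with an abelian subgroup
of index `p`. -/
theorem abx_main [Finite S] (p : ℕ) [Fact p.Prime]
    (hS : IsPGroup p S) (F : Cfsg.FusionSystem S) (hF : F.IsSaturated p)
    (A : Subgroup Ω) (hA : A ≤ S ∧ IsMulCommutative ↥A ∧ (A.subgroupOf S).index = p)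
    (P : Subgroup Ω) (hP : F.IsEssential p P) :
    (P = A ∨ (∃ x ∈ S, x ∉ A ∧ P = (S ⊓ Subgroup.centralizer (S : Set Ω)) ⊔ Subgroup.zpowers x) ∨
      (((Subgroup.upperCentralSeries ↥S 2).map S.subtype) ≤ A ∧ ∃ x ∈ S, x ∉ A ∧
        P = ((Subgroup.upperCentralSeries ↥S 2).map S.subtype) ⊔ Subgroup.zpowers x)) ∧
    (P.subgroupOf (S ⊓ Subgroup.normalizer (P : Set Ω))).index = p := by
  have hPS : P ≤ S := hP.2.1.1
  have hPfin : Finite ↥P := finite_of_le hPS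
  have hcen : centralizerIn S P ≤ P := hP.1.2 P (isConj_refl F hPS)
  have h := abx_setup hS hPS hA hcen
  by_cases hPA : P ≤ A
  · have hAP : A ≤ P := by
      intro a ha
      exact h.cen a (h.hAS ha) (fun y hy => h.comm _ (hPA hy) _ ha)
    have hPeq : P = A := le_antisymm hPA hAP
    refine ⟨Or.inl hPeq, ?_⟩
    rw [hPeq]
    have hSN : S ≤ Subgroup.normalizer (A : Set Ω) := by
      intro s hs
      rw [Subgroup.mem_normalizer_iff]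
      intro a
      constructor
      · exact h.norm s hs a
      · intro ha
        have h1 := h.norm s⁻¹ (S.inv_mem hs) _ ha
        have e : s⁻¹ * (s * a * s⁻¹) * s⁻¹⁻¹ = a := by group
        rw [e] at h1
        exact h1
    rw [inf_eq_left.2 hSN]
    exact hA.2.2
  · obtain ⟨x, hxP, hxA⟩ := SetLike.not_le_iff_exists.1 hPA
    obtain ⟨g, hK⟩ := abx_fusK p hS F hF hP
    have hne : P ≠ S := abx_ne_top p hS F hF hP
    have hE := exists_normalizing_not_mem hS hPS hne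
    obtain ⟨hstruct, hstar⟩ := abx_group h g hK hE hxP hxA
    refine ⟨Or.inr ?_, ?_⟩
    · rcases hstruct with h1 | ⟨h1, h2⟩
      · exact Or.inl ⟨x, hPS hxP, hxA, h1⟩
      · exact Or.inr ⟨h1, x, hPS hxP, hxA, h2⟩
    · obtain ⟨a₁, ha₁A, ha₁N, ha₁P, ha₁p, hgen⟩ := hstar
      have hNle : S ⊓ Subgroup.normalizer (P : Set Ω) ≤ Subgroup.normalizer (P : Set Ω) :=
        inf_le_right
      haveI : (P.subgroupOf (S ⊓ Subgroup.normalizer (P : Set Ω))).Normal :=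
        Subgroup.normal_subgroupOf_of_le_normalizer hNle
      have ha₁N' : a₁ ∈ S ⊓ Subgroup.normalizer (P : Set Ω) :=
        Subgroup.mem_inf.2 ⟨h.hAS ha₁A, ha₁N⟩
      apply abx_index_eq (P.subgroupOf (S ⊓ Subgroup.normalizer (P : Set Ω))) ⟨a₁, ha₁N'⟩
      · intro hm
        exact ha₁P (Subgroup.mem_subgroupOf.1 hm)
      · exact Subgroup.mem_subgroupOf.2 ha₁p
      · rintro ⟨n, hn⟩
        obtain ⟨hnS, hnN⟩ := Subgroup.mem_inf.1 hn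
        obtain ⟨j, hj⟩ := h.gen x (hPS hxP) hxA n hnS
        have hxN : x ∈ Subgroup.normalizer (P : Set Ω) := Subgroup.le_normalizer hxP
        obtain ⟨k, hk⟩ := hgen _ hj
          (Subgroup.mul_mem _ hnN (Subgroup.inv_mem _ (Subgroup.zpow_mem _ hxN j)))
        refine ⟨k, Subgroup.mem_subgroupOf.2 ?_⟩
        show (a₁ ^ k)⁻¹ * n ∈ P
        have e : (a₁ ^ k)⁻¹ * n = (a₁ ^ k)⁻¹ * (n * (x ^ j)⁻¹) * x ^ j := by group
        rw [e]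
        exact P.mul_mem hk (P.zpow_mem hxP j)

end AbxEss

end Cfsg.Agent.Helper26
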