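import Cfsg.Agent.Helper26.AbxEss

set_option autoImplicit false

namespace Cfsg.Agent.Helper26

open Cfsg Cfsg.FusionSystem

open scoped commutatorElement

section AbxEss2

variable {Ω : Type*} [Group Ω] {S A P : Subgroup Ω} {p : ℕ}

theorem abx_K_inv {g : MulAut ↥P} (hK : AbxK S P g) : AbxK S P g⁻¹ := by
  intro α β hα hβ heq
  apply hK β α hβ hα
  calc β * (g * α * g⁻¹) = g * (g⁻¹ * β * g⁻¹⁻¹ * α) * g⁻¹ := by group
    _ = g * (α * (g⁻¹ * β * g⁻¹⁻¹)) * g⁻¹ := by rw [heq]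
    _ = g * α * g⁻¹ * β := by group

theorem abx_E' (h : AbxSetup S A P p) {x : Ω} (hxP : x ∈ P) (hxA : x ∉ A)
    (hE : ∃ n ∈ S, n ∉ P ∧ n ∈ Subgroup.normalizer (P : Set Ω)) :
    ∃ a ∈ A, a ∈ Subgroup.normalizer (P : Set Ω) ∧ a ∉ P := by
  obtain ⟨n, hnS, hnP, hnN⟩ := hE
  obtain ⟨k, hk⟩ := h.gen x (h.hPS hxP) hxA n hnS
  have hxN : x ∈ Subgroup.normalizer (P : Set Ω) := Subgroup.le_normalizer hxP
  refine ⟨_, hk, Subgroup.mul_mem _ hnN (Subgroup.inv_mem _ (Subgroup.zpow_mem _ hxN k)),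
    fun hcon => hnP ?_⟩
  have e : n = n * (x ^ k)⁻¹ * x ^ k := by group
  rw [e]
  exact P.mul_mem hcon (P.zpow_mem hxP k)

theorem abx_Z_le_P (h : AbxSetup S A P p) : S ⊓ Subgroup.centralizer (S : Set Ω) ≤ P := by
  intro z hz
  obtain ⟨hzS, hzc⟩ := Subgroup.mem_inf.1 hz
  exact h.cen z hzS (fun y hy => Subgroup.mem_centralizer_iff.1 hzc y (h.hPS hy))

theorem abx_Z_le_V : S ⊓ Subgroup.centralizer (S : Set Ω) ≤
    (Subgroup.upperCentralSeries ↥S 2).map S.subtype := by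
  intro z hz
  obtain ⟨hzS, hzc⟩ := Subgroup.mem_inf.1 hz
  refine abx_mem_Z2.2 ⟨hzS, fun t ht s hs => ?_⟩
  have hzt : t * z = z * t := Subgroup.mem_centralizer_iff.1 hzc t ht
  have e1 : z * t * z⁻¹ * t⁻¹ = 1 := by rw [← hzt]; group
  rw [e1, mul_one, one_mul]

/-- An element of the second centre normalizes `P`. -/
theorem abx_norm_of_V (h : AbxSetup S A P p) [Finite ↥P] {s : Ω}
    (hsV : s ∈ (Subgroup.upperCentralSeries ↥S 2).map S.subtype) :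
    s ∈ Subgroup.normalizer (P : Set Ω) := by
  obtain ⟨hs, hsc⟩ := abx_mem_Z2.1 hsV
  apply Subgroup.mem_normalizer_fintype
  intro y hy
  have hc : s * y * s⁻¹ * y⁻¹ ∈ P := by
    apply h.cen _ (S.mul_mem (S.mul_mem (S.mul_mem hs (h.hPS hy)) (S.inv_mem hs))
      (S.inv_mem (h.hPS hy)))
    intro y' hy'
    exact hsc y (h.hPS hy) y' (h.hPS hy')
  have e : s * y * s⁻¹ = (s * y * s⁻¹ * y⁻¹) * y := by group
  rw [e]
  exact P.mul_mem hc hy

theorem abx_mem_V_of_comm (h : AbxSetup S A P p) {x a : Ω} (hxS : x ∈ S) (hxA : x ∉ A)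
    (ha : a ∈ A) (hc : ∀ s ∈ S, s * (a * x * a⁻¹ * x⁻¹) = (a * x * a⁻¹ * x⁻¹) * s) :
    a ∈ (Subgroup.upperCentralSeries ↥S 2).map S.subtype := by
  apply abx_mem_Z2.2
  refine ⟨h.hAS ha, fun t ht s hs => ?_⟩
  obtain ⟨k, hk⟩ := h.gen x hxS hxA t ht
  obtain ⟨z, hz⟩ : ∃ z, z = a * x * a⁻¹ * x⁻¹ := ⟨_, rfl⟩
  rw [← hz] at hc
  have hzx : z * x = x * z := (hc x hxS).symm
  have hax : a * x * a⁻¹ = z * x := by rw [hz]; group
  have hpow : a * x ^ k * a⁻¹ = z ^ k * x ^ k := by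
    rw [← conj_zpow, hax, (show Commute z x from hzx).mul_zpow]
  obtain ⟨b, hb⟩ : ∃ b, b = t * (x ^ k)⁻¹ := ⟨_, rfl⟩
  have hbA : b ∈ A := hb ▸ hk
  have ht' : t = b * x ^ k := by rw [hb]; group
  have hab : a * b = b * a := h.comm _ ha _ hbA
  have hzk : ∀ s ∈ S, s * z ^ k = z ^ k * s := fun s hs =>
    (Commute.zpow_right (show Commute s z from hc s hs) k).eq
  have e : a * t * a⁻¹ * t⁻¹ = z ^ k := by
    calc a * t * a⁻¹ * t⁻¹ = (a * b) * x ^ k * a⁻¹ * (x ^ k)⁻¹ * b⁻¹ := by rw [ht']; group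
      _ = b * (a * x ^ k * a⁻¹) * (x ^ k)⁻¹ * b⁻¹ := by rw [hab]; group
      _ = b * z ^ k * b⁻¹ := by rw [hpow]; group
      _ = z ^ k * b * b⁻¹ := by rw [hzk b (h.hAS hbA)]
      _ = z ^ k := by group
  rw [e]
  exact hzk s hs

theorem abx_center_P (h : AbxSetup S A P p) {x : Ω} (hxP : x ∈ P) (hxA : x ∉ A)
    (hPna : ¬ ∀ y y' : ↥P, y * y' = y' * y) (u : ↥P) (hu : ∀ y : ↥P, y * u = u * y) :
    (u : Ω) ∈ A ∧ ∀ s' ∈ S, s' * (u : Ω) = u * s' := by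
  have huA : (u : Ω) ∈ A := by
    by_contra huA
    apply hPna
    intro y y'
    obtain ⟨k, hk⟩ := h.gen u (h.hPS u.2) huA y (h.hPS y.2)
    obtain ⟨k', hk'⟩ := h.gen u (h.hPS u.2) huA y' (h.hPS y'.2)
    obtain ⟨y₁, hy₁⟩ : ∃ y₁ : ↥P, y₁ = y * (u ^ k)⁻¹ := ⟨_, rfl⟩
    obtain ⟨y₁', hy₁'⟩ : ∃ y₁' : ↥P, y₁' = y' * (u ^ k')⁻¹ := ⟨_, rfl⟩
    have hy₁A : (y₁ : Ω) ∈ A := by rw [hy₁]; exact hk
    have hy₁'A : (y₁' : Ω) ∈ A := by rw [hy₁']; exact hk'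
    have hc : y₁ * y₁' = y₁' * y₁ := Subtype.ext (h.comm _ hy₁A _ hy₁'A)
    have hy : y = y₁ * u ^ k := by rw [hy₁]; group
    have hy' : y' = y₁' * u ^ k' := by rw [hy₁']; group
    have hcu : ∀ (z : ↥P) (j : ℤ), z * u ^ j = u ^ j * z := fun z j =>
      (Commute.zpow_right (show Commute z u from hu z) j).eq
    rw [hy, hy']
    calc y₁ * u ^ k * (y₁' * u ^ k') = y₁ * (u ^ k * y₁') * u ^ k' := by group
      _ = y₁ * (y₁' * u ^ k) * u ^ k' := by rw [← hcu y₁' k]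
      _ = (y₁ * y₁') * (u ^ k * u ^ k') := by group
      _ = (y₁' * y₁) * (u ^ k' * u ^ k) := by rw [hc, hcu (u ^ k) k']
      _ = y₁' * (y₁ * u ^ k') * u ^ k := by group
      _ = y₁' * (u ^ k' * y₁) * u ^ k := by rw [hcu y₁ k']
      _ = y₁' * u ^ k' * (y₁ * u ^ k) := by group
  exact ⟨huA, abx_central h (h.hPS hxP) hxA huA (congrArg Subtype.val (hu ⟨x, hxP⟩)).symm⟩

/-- Nonabelian case: the second centre lies in `P` and in `A`. -/
theorem abx_V_nonab (h : AbxSetup S A P p) [Finite ↥P] (g : MulAut ↥P) (hK : AbxK S P g)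
    (hE' : ∃ a ∈ A, a ∈ Subgroup.normalizer (P : Set Ω) ∧ a ∉ P) {x : Ω} (hxP : x ∈ P)
    (hxA : x ∉ A) (hPna : ¬ ∀ y y' : ↥P, y * y' = y' * y) :
    (Subgroup.upperCentralSeries ↥S 2).map S.subtype ≤ P ∧
      (Subgroup.upperCentralSeries ↥S 2).map S.subtype ≤ A := by
  obtain ⟨y₀, hy₀, hgy₀⟩ := abx_moves h g hK hE'
  have hVP : (Subgroup.upperCentralSeries ↥S 2).map S.subtype ≤ P := by
    intro v hv
    obtain ⟨hvS, hvc⟩ := abx_mem_Z2.1 hv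
    exact abx_cen_mem h g hK hxP hxA hPna hvS (fun y hy s' hs' => hvc y (h.hPS hy) s' hs')
  have hP0V : ∀ y ∈ P, y ∈ A → y ∈ (Subgroup.upperCentralSeries ↥S 2).map S.subtype := by
    intro y hyP hyA
    exact abx_mem_Z2.2 ⟨h.hPS hyP, fun t ht => abx_comm_central h g hy₀ hgy₀ hyP hyA ht⟩
  refine ⟨hVP, ?_⟩
  intro t htV
  by_contra htA
  have htP : t ∈ P := hVP htV
  obtain ⟨a₁, ha₁A, ha₁N, ha₁P⟩ := hE'
  apply ha₁P
  apply abx_cen_mem h g hK hxP hxA hPna (h.hAS ha₁A)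
  intro y hy s' hs'
  have hyV : y ∈ (Subgroup.upperCentralSeries ↥S 2).map S.subtype := by
    obtain ⟨k, hk⟩ := h.gen t (h.hPS htP) htA y (h.hPS hy)
    have e : y = y * (t ^ k)⁻¹ * t ^ k := by group
    rw [e]
    exact Subgroup.mul_mem _ (hP0V _ (P.mul_mem hy (P.inv_mem (P.zpow_mem htP k))) hk)
      (Subgroup.zpow_mem _ htV k)
  have hc := (abx_mem_Z2.1 hyV).2 a₁ (h.hAS ha₁A) s' hs'
  have e : a₁ * y * a₁⁻¹ * y⁻¹ = (y * a₁ * y⁻¹ * a₁⁻¹)⁻¹ := by group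
  rw [e]
  exact (Commute.inv_right (show Commute s' (y * a₁ * y⁻¹ * a₁⁻¹) from hc)).eq

/-- Abelian case: the second centre lies in `A` (this uses the uniqueness of `A`). -/
theorem abx_V_le_ab (h : AbxSetup S A P p) [Finite ↥P] {x : Ω} (hxP : x ∈ P) (hxA : x ∉ A)
    (hPab : ∀ y y' : ↥P, y * y' = y' * y)
    (hidx : (P.subgroupOf (S ⊓ Subgroup.normalizer (P : Set Ω))).index = p)
    (huniq : ∀ B : Subgroup Ω, B ≤ S → IsMulCommutative ↥B → (B.subgroupOf S).index = p → B = A) :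
    (Subgroup.upperCentralSeries ↥S 2).map S.subtype ≤ A := by
  intro t htV
  by_contra htA
  have htS : t ∈ S := (abx_mem_Z2.1 htV).1
  have hAV : ∀ a ∈ A, a ∈ (Subgroup.upperCentralSeries ↥S 2).map S.subtype := by
    intro a ha
    apply abx_mem_Z2.2
    refine ⟨h.hAS ha, fun t' ht' s hs => ?_⟩
    obtain ⟨j, hj⟩ := h.gen t htS htA t' ht'
    obtain ⟨b, hb⟩ : ∃ b, b = t' * (t ^ j)⁻¹ := ⟨_, rfl⟩
    have hbA : b ∈ A := hb ▸ hj
    have ht'e : t' = b * t ^ j := by rw [hb]; group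
    have htjV : t ^ j ∈ (Subgroup.upperCentralSeries ↥S 2).map S.subtype :=
      Subgroup.zpow_mem _ htV j
    obtain ⟨c, hc⟩ : ∃ c, c = t ^ j * a * (t ^ j)⁻¹ * a⁻¹ := ⟨_, rfl⟩
    have hcc : ∀ s ∈ S, s * c = c * s := by
      intro s hs
      rw [hc]
      exact (abx_mem_Z2.1 htjV).2 a (h.hAS ha) s hs
    have hab : a * b = b * a := h.comm _ ha _ hbA
    have e : a * t' * a⁻¹ * t'⁻¹ = c⁻¹ := by
      calc a * t' * a⁻¹ * t'⁻¹ = (a * b) * t ^ j * a⁻¹ * (t ^ j)⁻¹ * b⁻¹ := by rw [ht'e]; group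
        _ = b * a * t ^ j * a⁻¹ * (t ^ j)⁻¹ * b⁻¹ := by rw [hab]
        _ = b * c⁻¹ * b⁻¹ := by rw [hc]; group
        _ = c⁻¹ * b * b⁻¹ := by
          rw [(Commute.inv_right (show Commute b c from hcc b (h.hAS hbA))).eq]
        _ = c⁻¹ := by group
    rw [e]
    exact (Commute.inv_right (show Commute s c from hcc s hs)).eq
  have hSN : S ≤ Subgroup.normalizer (P : Set Ω) := by
    intro s hs
    apply abx_norm_of_V h
    obtain ⟨j, hj⟩ := h.gen t htS htA s hs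
    have e : s = s * (t ^ j)⁻¹ * t ^ j := by group
    rw [e]
    exact Subgroup.mul_mem _ (hAV _ hj) (Subgroup.zpow_mem _ htV j)
  rw [inf_eq_left.2 hSN] at hidx
  have hPc : IsMulCommutative ↥P := isMulCommutative_iff.2 hPab
  have hPA := huniq P h.hPS hPc hidx
  exact hxA (hPA ▸ hxP)

/-- Abelian case: a generator of `Z₂(S)` modulo `Z(S)`. -/
theorem abx_gen_ab (h : AbxSetup S A P p) [Finite ↥P] (g : MulAut ↥P) (hK : AbxK S P g)
    (hE' : ∃ a ∈ A, a ∈ Subgroup.normalizer (P : Set Ω) ∧ a ∉ P) {x : Ω} (hxP : x ∈ P)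
    (hxA : x ∉ A) (hPab : ∀ y y' : ↥P, y * y' = y' * y)
    (hVA : (Subgroup.upperCentralSeries ↥S 2).map S.subtype ≤ A) :
    ∃ e ∈ (Subgroup.upperCentralSeries ↥S 2).map S.subtype,
      e ∉ S ⊓ Subgroup.centralizer (S : Set Ω) ∧
      e ^ p ∈ S ⊓ Subgroup.centralizer (S : Set Ω) ∧
      ∀ y ∈ (Subgroup.upperCentralSeries ↥S 2).map S.subtype,
        ∃ k : ℤ, (e ^ k)⁻¹ * y ∈ S ⊓ Subgroup.centralizer (S : Set Ω) := by
  have hxS := h.hPS hxP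
  obtain ⟨a₁, ha₁A, ha₁N, ha₁P, ha₁p, hgen⟩ := abx_star h g hK hE'
  have hPAZ : ∀ y ∈ P, y ∈ A → y ∈ S ⊓ Subgroup.centralizer (S : Set Ω) := by
    intro y hyP hyA
    refine Subgroup.mem_inf.2 ⟨h.hPS hyP, Subgroup.mem_centralizer_iff.2 ?_⟩
    exact abx_central h hxS hxA hyA (congrArg Subtype.val (hPab ⟨y, hyP⟩ ⟨x, hxP⟩))
  have hNV : ∀ a ∈ A, a ∈ Subgroup.normalizer (P : Set Ω) →
      a ∈ (Subgroup.upperCentralSeries ↥S 2).map S.subtype := by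
    intro a haA haN
    apply abx_mem_V_of_comm h hxS hxA haA
    have hcP : a * x * a⁻¹ * x⁻¹ ∈ P :=
      P.mul_mem ((Subgroup.mem_normalizer_iff.1 haN x).1 hxP) (P.inv_mem hxP)
    have hcA : a * x * a⁻¹ * x⁻¹ ∈ A := abx_comm_mem h hxS haA
    exact Subgroup.mem_centralizer_iff.1 (Subgroup.mem_inf.1 (hPAZ _ hcP hcA)).2
  refine ⟨a₁, hNV a₁ ha₁A ha₁N, fun hz => ha₁P (abx_Z_le_P h hz),
    hPAZ _ ha₁p (A.pow_mem ha₁A p), fun y hy => ?_⟩
  obtain ⟨k, hk⟩ := hgen y (hVA hy) (abx_norm_of_V h hy)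
  exact ⟨k, hPAZ _ hk (A.mul_mem (A.inv_mem (A.zpow_mem ha₁A k)) (hVA hy))⟩

/-- Nonabelian case: a generator of `Z₂(S)` modulo `Z(S)`. -/
theorem abx_gen_nonab (h : AbxSetup S A P p) [Finite ↥P] (g : MulAut ↥P) (hK : AbxK S P g)
    (hE' : ∃ a ∈ A, a ∈ Subgroup.normalizer (P : Set Ω) ∧ a ∉ P) {x : Ω} (hxP : x ∈ P)
    (hxA : x ∉ A) (hPna : ¬ ∀ y y' : ↥P, y * y' = y' * y)
    (hVA : (Subgroup.upperCentralSeries ↥S 2).map S.subtype ≤ A)
    (hVP : (Subgroup.upperCentralSeries ↥S 2).map S.subtype ≤ P) :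
    ∃ e ∈ (Subgroup.upperCentralSeries ↥S 2).map S.subtype,
      e ∉ S ⊓ Subgroup.centralizer (S : Set Ω) ∧
      e ^ p ∈ S ⊓ Subgroup.centralizer (S : Set Ω) ∧
      ∀ y ∈ (Subgroup.upperCentralSeries ↥S 2).map S.subtype,
        ∃ k : ℤ, (e ^ k)⁻¹ * y ∈ S ⊓ Subgroup.centralizer (S : Set Ω) := by
  obtain ⟨y₀, hy₀, hgy₀⟩ := abx_moves h g hK hE'
  obtain ⟨y₁, hy₁, hgy₁⟩ := abx_moves h g⁻¹ (abx_K_inv hK) hE'
  have hP0V : ∀ y ∈ P, y ∈ A → y ∈ (Subgroup.upperCentralSeries ↥S 2).map S.subtype := by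
    intro y hyP hyA
    exact abx_mem_Z2.2 ⟨h.hPS hyP, fun t ht => abx_comm_central h g hy₀ hgy₀ hyP hyA ht⟩
  have hDZ : ∀ y : ↥P, (y : Ω) ∈ A → ((g⁻¹ y : ↥P) : Ω) ∈ A →
      (y : Ω) ∈ S ⊓ Subgroup.centralizer (S : Set Ω) := by
    intro y hyA hgy
    obtain ⟨x₁, hx₁⟩ : ∃ x₁ : ↥P, x₁ = g y₀ := ⟨_, rfl⟩
    rw [← hx₁] at hgy₀
    have hgx : g⁻¹ x₁ = y₀ := by rw [hx₁]; simp
    have hyx : y * x₁ = x₁ * y := abx_comm_of_pre h g hgy (by rw [hgx]; exact hy₀)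
    refine Subgroup.mem_inf.2 ⟨h.hPS y.2, Subgroup.mem_centralizer_iff.2 ?_⟩
    exact abx_central h (h.hPS x₁.2) hgy₀ hyA (congrArg Subtype.val hyx)
  have hZD : ∀ y : ↥P, (y : Ω) ∈ S ⊓ Subgroup.centralizer (S : Set Ω) →
      ((g⁻¹ y : ↥P) : Ω) ∈ A := by
    intro y hyZ
    have hyc : ∀ z : ↥P, z * y = y * z := fun z =>
      Subtype.ext (Subgroup.mem_centralizer_iff.1 (Subgroup.mem_inf.1 hyZ).2 z (h.hPS z.2))
    have hgc : ∀ z : ↥P, z * g⁻¹ y = g⁻¹ y * z := by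
      intro z
      have h1 : g⁻¹ (g z * y) = g⁻¹ (y * g z) := by rw [hyc (g z)]
      rw [map_mul, map_mul] at h1
      simpa using h1
    exact (abx_center_P h hxP hxA hPna (g⁻¹ y) hgc).1
  refine ⟨y₁, hP0V _ y₁.2 hy₁, fun hz => hgy₁ (hZD y₁ hz), ?_, ?_⟩
  · have h1 := hDZ (y₁ ^ p) (A.pow_mem hy₁ p)
      (by rw [map_pow]; exact h.pow _ (h.hPS (g⁻¹ y₁).2))
    exact h1
  · intro y hy
    have hyP := hVP hy
    have hyA := hVA hy
    obtain ⟨k, hk⟩ := h.gen _ (h.hPS (g⁻¹ y₁).2) hgy₁ _ (h.hPS (g⁻¹ ⟨y, hyP⟩).2)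
    refine ⟨k, ?_⟩
    have hcomm : ((y₁ : Ω) ^ k)⁻¹ * y = y * ((y₁ : Ω) ^ k)⁻¹ :=
      h.comm _ (A.inv_mem (A.zpow_mem hy₁ k)) _ hyA
    rw [hcomm]
    have h1 := hDZ (⟨y, hyP⟩ * (y₁ ^ k)⁻¹) (A.mul_mem hyA (A.inv_mem (A.zpow_mem hy₁ k)))
      (by rw [map_mul, map_inv, map_zpow]; exact hk)
    exact h1

/-- the image of `a ↦ [a, x]` inside the ambient group -/
def abxPhi (h : AbxSetup S A P p) (x : Ω) (hx : x ∈ S) : Subgroup Ω :=
  ((abxHom h x hx).range).map A.subtype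

theorem mem_abxPhi (h : AbxSetup S A P p) (x : Ω) (hx : x ∈ S) {z : Ω} :
    z ∈ abxPhi h x hx ↔ ∃ a ∈ A, z = a * x * a⁻¹ * x⁻¹ := by
  constructor
  · rintro ⟨w, ⟨a, rfl⟩, rfl⟩
    exact ⟨a, a.2, rfl⟩
  · rintro ⟨a, ha, rfl⟩
    exact ⟨abxHom h x hx ⟨a, ha⟩, ⟨⟨a, ha⟩, rfl⟩, rfl⟩

/-- the elements of `S` whose commutators with `A` lie in `[A, x]` -/
def abxT (h : AbxSetup S A P p) (x : Ω) (hx : x ∈ S) : Subgroup Ω where
  carrier := {s | s ∈ S ∧ ∀ b ∈ A, s * b * s⁻¹ * b⁻¹ ∈ abxPhi h x hx}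
  one_mem' := ⟨S.one_mem, fun b _ => by
    have e : (1 : Ω) * b * 1⁻¹ * b⁻¹ = 1 := by group
    rw [e]
    exact Subgroup.one_mem _⟩
  mul_mem' := by
    rintro s t ⟨hs, hsb⟩ ⟨ht, htb⟩
    refine ⟨S.mul_mem hs ht, fun b hb => ?_⟩
    have e : s * t * b * (s * t)⁻¹ * b⁻¹ =
        (s * (t * b * t⁻¹) * s⁻¹ * (t * b * t⁻¹)⁻¹) * (t * b * t⁻¹ * b⁻¹) := by group
    rw [e]
    exact Subgroup.mul_mem _ (hsb _ (h.norm t ht b hb)) (htb b hb)
  inv_mem' := by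
    rintro s ⟨hs, hsb⟩
    refine ⟨S.inv_mem hs, fun b hb => ?_⟩
    have e : s⁻¹ * b * s⁻¹⁻¹ * b⁻¹ =
        (s * (s⁻¹ * b * s⁻¹⁻¹) * s⁻¹ * (s⁻¹ * b * s⁻¹⁻¹)⁻¹)⁻¹ := by group
    rw [e]
    exact Subgroup.inv_mem _ (hsb _ (h.norm s⁻¹ (S.inv_mem hs) b hb))

theorem abx_T_top (h : AbxSetup S A P p) {x : Ω} (hxS : x ∈ S) (hxA : x ∉ A) :
    ∀ s ∈ S, s ∈ abxT h x hxS := by
  intro s hs
  have hA : ∀ a ∈ A, a ∈ abxT h x hxS := by
    intro a ha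
    refine ⟨h.hAS ha, fun b hb => ?_⟩
    have e : a * b * a⁻¹ * b⁻¹ = 1 := by rw [h.comm a ha b hb]; group
    rw [e]
    exact Subgroup.one_mem _
  have hx : x ∈ abxT h x hxS := by
    refine ⟨hxS, fun b hb => ?_⟩
    rw [mem_abxPhi]
    refine ⟨b⁻¹, A.inv_mem hb, ?_⟩
    have h1 : (x * b * x⁻¹) * b⁻¹ = b⁻¹ * (x * b * x⁻¹) :=
      h.comm _ (h.norm x hxS b hb) _ (A.inv_mem hb)
    rw [h1]
    group
  obtain ⟨k, hk⟩ := h.gen x hxS hxA s hs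
  have e : s = s * (x ^ k)⁻¹ * x ^ k := by group
  rw [e]
  exact Subgroup.mul_mem _ (hA _ hk) (Subgroup.zpow_mem _ hx k)

theorem abx_commutator_eq (h : AbxSetup S A P p) {x : Ω} (hxS : x ∈ S) (hxA : x ∉ A) :
    (commutator ↥S).map S.subtype = abxPhi h x hxS := by
  apply le_antisymm
  · rw [Subgroup.map_le_iff_le_comap, commutator_def, Subgroup.commutator_le]
    rintro s - t -
    have hval : ((⁅s, t⁆ : ↥S) : Ω) = (s : Ω) * t * (s : Ω)⁻¹ * (t : Ω)⁻¹ := by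
      rw [commutatorElement_def]; rfl
    show ((⁅s, t⁆ : ↥S) : Ω) ∈ abxPhi h x hxS
    rw [hval]
    obtain ⟨j, hj⟩ := h.gen x hxS hxA t t.2
    obtain ⟨i, hi⟩ := h.gen x hxS hxA s s.2
    obtain ⟨b, hb⟩ : ∃ b, b = (t : Ω) * (x ^ j)⁻¹ := ⟨_, rfl⟩
    obtain ⟨a, ha⟩ : ∃ a, a = (s : Ω) * (x ^ i)⁻¹ := ⟨_, rfl⟩
    have hbA : b ∈ A := hb ▸ hj
    have haA : a ∈ A := ha ▸ hi
    have hte : (t : Ω) = b * x ^ j := by rw [hb]; group
    have hse : (s : Ω) = a * x ^ i := by rw [ha]; group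
    have hsT := abx_T_top h hxS hxA s s.2
    have hxjT : x ^ j ∈ abxT h x hxS := abx_T_top h hxS hxA _ (S.zpow_mem hxS j)
    have h1 : (s : Ω) * b * (s : Ω)⁻¹ * b⁻¹ ∈ abxPhi h x hxS := hsT.2 b hbA
    have h2 : x ^ j * a * (x ^ j)⁻¹ * a⁻¹ ∈ abxPhi h x hxS := hxjT.2 a haA
    have hΦA : abxPhi h x hxS ≤ A := Subgroup.map_subtype_le _
    have h3 : (s : Ω) * x ^ j * (s : Ω)⁻¹ * (x ^ j)⁻¹ = (x ^ j * a * (x ^ j)⁻¹ * a⁻¹)⁻¹ := by
      rw [hse]; group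
    have h4 : (s : Ω) * t * (s : Ω)⁻¹ * (t : Ω)⁻¹ = ((s : Ω) * b * (s : Ω)⁻¹ * b⁻¹) *
        (b * ((s : Ω) * x ^ j * (s : Ω)⁻¹ * (x ^ j)⁻¹) * b⁻¹) := by
      rw [hte]; group
    rw [h4, h3]
    have h5 : (x ^ j * a * (x ^ j)⁻¹ * a⁻¹)⁻¹ ∈ abxPhi h x hxS := Subgroup.inv_mem _ h2
    have h6 : b * (x ^ j * a * (x ^ j)⁻¹ * a⁻¹)⁻¹ * b⁻¹ = (x ^ j * a * (x ^ j)⁻¹ * a⁻¹)⁻¹ := by
      rw [h.comm b hbA _ (hΦA h5)]; group
    rw [h6]
    exact Subgroup.mul_mem _ h1 h5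
  · intro z hz
    obtain ⟨a, ha, rfl⟩ := (mem_abxPhi h x hxS).1 hz
    refine ⟨⁅(⟨a, h.hAS ha⟩ : ↥S), ⟨x, hxS⟩⁆, ?_, ?_⟩
    · rw [commutator_def]
      exact Subgroup.commutator_mem_commutator (Subgroup.mem_top _) (Subgroup.mem_top _)
    · rw [commutatorElement_def]; rfl

theorem abxHom_eq_one_iff (h : AbxSetup S A P p) (x : Ω) (hx : x ∈ S) (a : ↥A) :
    abxHom h x hx a = 1 ↔ (a : Ω) * x = x * a := by
  constructor
  · intro h1
    have h2 : (a : Ω) * x * (a : Ω)⁻¹ * x⁻¹ = 1 := congrArg Subtype.val h1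
    calc (a : Ω) * x = ((a : Ω) * x * (a : Ω)⁻¹ * x⁻¹) * x * a := by group
      _ = x * a := by rw [h2]; group
  · intro h1
    apply Subtype.ext
    show (a : Ω) * x * (a : Ω)⁻¹ * x⁻¹ = 1
    rw [h1]; group

theorem abx_ker_eq (h : AbxSetup S A P p) {x : Ω} (hxS : x ∈ S) (hxA : x ∉ A) :
    (abxHom h x hxS).ker = (S ⊓ Subgroup.centralizer (S : Set Ω)).subgroupOf A := by
  ext a
  rw [MonoidHom.mem_ker, abxHom_eq_one_iff, Subgroup.mem_subgroupOf, Subgroup.mem_inf,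
    Subgroup.mem_centralizer_iff]
  constructor
  · intro h1
    exact ⟨h.hAS a.2, abx_central h hxS hxA a.2 h1⟩
  · rintro ⟨-, h1⟩
    exact (h1 x hxS).symm

theorem abx_range_eq (h : AbxSetup S A P p) {x : Ω} (hxS : x ∈ S) (hxA : x ∉ A) :
    (abxHom h x hxS).range = ((commutator ↥S).map S.subtype).subgroupOf A := by
  rw [abx_commutator_eq h hxS hxA]
  unfold abxPhi
  exact (Subgroup.comap_map_eq_self_of_injective (Subgroup.subtype_injective A) _).symm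

theorem abx_card_inf (h : AbxSetup S A P p) [Fact p.Prime] {x : Ω} (hxS : x ∈ S) (hxA : x ∉ A)
    (hVA : (Subgroup.upperCentralSeries ↥S 2).map S.subtype ≤ A) {e : Ω}
    (heV : e ∈ (Subgroup.upperCentralSeries ↥S 2).map S.subtype)
    (heZ : e ∉ S ⊓ Subgroup.centralizer (S : Set Ω))
    (hep : e ^ p ∈ S ⊓ Subgroup.centralizer (S : Set Ω))
    (hgen : ∀ y ∈ (Subgroup.upperCentralSeries ↥S 2).map S.subtype,
      ∃ k : ℤ, (e ^ k)⁻¹ * y ∈ S ⊓ Subgroup.centralizer (S : Set Ω)) :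
    Nat.card ↥((abxHom h x hxS).ker ⊓ (abxHom h x hxS).range) = p := by
  have heA : e ∈ A := hVA heV
  have hkerdef := abx_ker_eq h hxS hxA
  obtain ⟨φ, hφ⟩ : ∃ φ : ↥A →* ↥A, φ = abxHom h x hxS := ⟨_, rfl⟩
  rw [← hφ] at hkerdef ⊢
  have hval : ∀ a : ↥A, ((φ a : ↥A) : Ω) = a * x * (a : Ω)⁻¹ * x⁻¹ := fun a => by
    rw [hφ]; rfl
  have hZiff : ∀ a : ↥A, φ a = 1 ↔ (a : Ω) ∈ S ⊓ Subgroup.centralizer (S : Set Ω) := by
    intro a
    rw [← MonoidHom.mem_ker, hkerdef, Subgroup.mem_subgroupOf]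
  obtain ⟨z₀, hz₀⟩ : ∃ z₀ : ↥A, z₀ = φ ⟨e, heA⟩ := ⟨_, rfl⟩
  have hz₀k : φ z₀ = 1 := by
    rw [hφ, abxHom_eq_one_iff]
    have hc := (abx_mem_Z2.1 heV).2 x hxS x hxS
    have hv : (z₀ : Ω) = e * x * e⁻¹ * x⁻¹ := by rw [hz₀, hval]
    rw [hv]
    exact hc.symm
  have hz₀p : z₀ ^ p = 1 := by
    rw [hz₀, ← map_pow]
    exact (hZiff _).2 hep
  have hz₀1 : z₀ ≠ 1 := by
    intro h1
    rw [hz₀] at h1
    exact heZ ((hZiff _).1 h1)
  have hord : orderOf z₀ = p := orderOf_eq_prime hz₀p hz₀1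
  have heq : φ.ker ⊓ φ.range = Subgroup.zpowers z₀ := by
    apply le_antisymm
    · rintro w ⟨hwk, a, rfl⟩
      have hwZ : ((φ a : ↥A) : Ω) ∈ S ⊓ Subgroup.centralizer (S : Set Ω) :=
        (hZiff _).1 (MonoidHom.mem_ker.1 hwk)
      have haV : (a : Ω) ∈ (Subgroup.upperCentralSeries ↥S 2).map S.subtype := by
        apply abx_mem_V_of_comm h hxS hxA a.2
        rw [← hval]
        exact Subgroup.mem_centralizer_iff.1 (Subgroup.mem_inf.1 hwZ).2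
      obtain ⟨k, hk⟩ := hgen _ haV
      obtain ⟨c, hc⟩ : ∃ c : ↥A, c = (⟨e, heA⟩ ^ k)⁻¹ * a := ⟨_, rfl⟩
      have hcZ : φ c = 1 := by
        apply (hZiff c).2
        rw [hc]
        exact hk
      have ha : a = ⟨e, heA⟩ ^ k * c := by rw [hc]; group
      refine Subgroup.mem_zpowers_iff.2 ⟨k, ?_⟩
      rw [ha, map_mul, map_zpow, hcZ, mul_one, hz₀]
    · rw [Subgroup.zpowers_le]
      exact Subgroup.mem_inf.2 ⟨MonoidHom.mem_ker.2 hz₀k, ⟨⟨e, heA⟩, hz₀.symm⟩⟩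
  rw [heq, Nat.card_zpowers, hord]

theorem abx_index_sup {G : Type*} [Group G] [Finite G] (φ : G →* G) {p : ℕ}
    (hcard : Nat.card ↥(φ.ker ⊓ φ.range) = p) : (φ.ker ⊔ φ.range).index = p := by
  have h1 : φ.ker.index = Nat.card ↥φ.range := Subgroup.index_ker φ
  have h2 : φ.ker.relIndex (φ.ker ⊔ φ.range) * (φ.ker ⊔ φ.range).index = φ.ker.index :=
    Subgroup.relIndex_mul_index le_sup_left
  have h3 : φ.ker.relIndex (φ.ker ⊔ φ.range) = φ.ker.relIndex φ.range :=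
    Subgroup.relIndex_sup_left φ.range φ.ker
  have h4 : (φ.ker ⊓ φ.range).relIndex φ.range = φ.ker.relIndex φ.range :=
    Subgroup.inf_relIndex_right φ.ker φ.range
  have h5 : Nat.card ↥((φ.ker ⊓ φ.range).subgroupOf φ.range) *
      ((φ.ker ⊓ φ.range).subgroupOf φ.range).index = Nat.card ↥φ.range :=
    Subgroup.card_mul_index _
  have h6 : Nat.card ↥((φ.ker ⊓ φ.range).subgroupOf φ.range) = p := by
    rw [← hcard]
    exact Nat.card_congr (Subgroup.subgroupOfEquivOfLe inf_le_right).toEquiv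
  have h7 : ((φ.ker ⊓ φ.range).subgroupOf φ.range).index = φ.ker.relIndex φ.range := h4
  rw [h6, h7] at h5
  rw [h3, h1, ← h5] at h2
  have hpos : 0 < φ.ker.relIndex φ.range := by
    rcases Nat.eq_zero_or_pos (φ.ker.relIndex φ.range) with h0 | h0
    · rw [h0, mul_zero] at h5
      exact absurd h5.symm (Nat.card_pos (α := ↥φ.range)).ne'
    · exact h0
  have h8 : (φ.ker ⊔ φ.range).index * φ.ker.relIndex φ.range =
      p * φ.ker.relIndex φ.range := by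
    rw [mul_comm]
    exact h2
  exact Nat.eq_of_mul_eq_mul_right hpos h8

/-- iterated images of an endomorphism -/
def abxB {G : Type*} [Group G] (φ : G →* G) : ℕ → Subgroup G
  | 0 => ⊤
  | (i + 1) => (abxB φ i).map φ

theorem abxB_succ_le_range {G : Type*} [Group G] (φ : G →* G) (i : ℕ) :
    abxB φ (i + 1) ≤ φ.range := by
  show (abxB φ i).map φ ≤ φ.range
  exact Subgroup.map_le_range φ _

theorem abxB_card_le {G : Type*} [Group G] [Finite G] (φ : G →* G) {p : ℕ}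
    (hcard : Nat.card ↥(φ.ker ⊓ φ.range) = p) (i : ℕ) :
    Nat.card ↥(abxB φ (i + 1)) ≤ p * Nat.card ↥(abxB φ (i + 2)) := by
  obtain ⟨B, hB⟩ : ∃ B, B = abxB φ (i + 1) := ⟨_, rfl⟩
  have hBr : B ≤ φ.range := hB ▸ abxB_succ_le_range φ i
  have hnext : abxB φ (i + 2) = B.map φ := by rw [hB]; rfl
  rw [← hB, hnext]
  have h1 : (φ.domRestrict B).ker.index = Nat.card ↥(φ.domRestrict B).range :=
    Subgroup.index_ker _
  have h2 : Nat.card ↥(φ.domRestrict B).ker * (φ.domRestrict B).ker.index = Nat.card ↥B :=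
    Subgroup.card_mul_index _
  rw [h1, MonoidHom.domRestrict_range] at h2
  have h3 : Nat.card ↥(φ.domRestrict B).ker ≤ p := by
    rw [← hcard]
    refine Nat.card_le_card_of_injective
      (fun u => (⟨((u : ↥B) : G), ?_⟩ : ↥(φ.ker ⊓ φ.range))) ?_
    · have hu : φ.domRestrict B (u : ↥B) = 1 := MonoidHom.mem_ker.1 u.2
      exact Subgroup.mem_inf.2 ⟨MonoidHom.mem_ker.2 hu, hBr (u : ↥B).2⟩
    · intro u v huv
      have h4 := congrArg Subtype.val huv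
      exact Subtype.ext (Subtype.ext h4)
  calc Nat.card ↥B = Nat.card ↥(φ.domRestrict B).ker * Nat.card ↥(B.map φ) := h2.symm
    _ ≤ p * Nat.card ↥(B.map φ) := Nat.mul_le_mul_right _ h3

theorem abxB_chain {G : Type*} [Group G] [Finite G] (φ : G →* G) {p : ℕ}
    (hcard : Nat.card ↥(φ.ker ⊓ φ.range) = p) (j : ℕ) :
    Nat.card ↥(abxB φ 1) ≤ p ^ j * Nat.card ↥(abxB φ (1 + j)) := by
  induction j with
  | zero => simp
  | succ j ih =>
    have h1 := abxB_card_le φ hcard j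
    calc Nat.card ↥(abxB φ 1) ≤ p ^ j * Nat.card ↥(abxB φ (1 + j)) := ih
      _ ≤ p ^ j * (p * Nat.card ↥(abxB φ (1 + (j + 1)))) := by
          apply Nat.mul_le_mul_left
          have e1 : 1 + j = j + 1 := by omega
          have e2 : 1 + (j + 1) = j + 2 := by omega
          rw [e1, e2]
          exact h1
      _ = p ^ (j + 1) * Nat.card ↥(abxB φ (1 + (j + 1))) := by ring

theorem abxB_le_lcs (h : AbxSetup S A P p) {x : Ω} (hxS : x ∈ S) (i : ℕ) :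
    (abxB (abxHom h x hxS) i).map A.subtype ≤ Subgroup.lowerCentralSeries S i := by
  induction i with
  | zero =>
    rw [Subgroup.lowerCentralSeries_zero]
    rintro _ ⟨a, -, rfl⟩
    exact h.hAS a.2
  | succ i ih =>
    rw [Subgroup.lowerCentralSeries_succ]
    rintro _ ⟨w, hw, rfl⟩
    have hw' : w ∈ (abxB (abxHom h x hxS) i).map (abxHom h x hxS) := hw
    obtain ⟨b, hb, rfl⟩ := hw'
    have hbl : (b : Ω) ∈ Subgroup.lowerCentralSeries S i := ih ⟨b, hb, rfl⟩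
    have h1 := Subgroup.commutator_mem_commutator hbl hxS
    rw [commutatorElement_def] at h1
    exact h1

theorem abx_maxclass (h : AbxSetup S A P p) [Finite S] [Fact p.Prime] {x : Ω} (hxS : x ∈ S)
    (hxA : x ∉ A) (hAi : (A.subgroupOf S).index = p)
    (hZA : S ⊓ Subgroup.centralizer (S : Set Ω) ≤ A)
    (hcard : Nat.card ↥((abxHom h x hxS).ker ⊓ (abxHom h x hxS).range) = p)
    (m : ℕ) (hm : ((S ⊓ Subgroup.centralizer (S : Set Ω)).subgroupOf S).index = p ^ m)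
    (hm3 : 3 ≤ m) :
    ¬ Subgroup.lowerCentralSeries S (m - 2) ≤ S ⊓ Subgroup.centralizer (S : Set Ω) := by
  have hp := (Fact.out : p.Prime)
  have hAfin : Finite ↥A := finite_of_le h.hAS
  intro hle
  have hlcs := abxB_le_lcs h hxS (m - 2)
  have hker0 := abx_ker_eq h hxS hxA
  obtain ⟨φ, hφ⟩ : ∃ φ : ↥A →* ↥A, φ = abxHom h x hxS := ⟨_, rfl⟩
  rw [← hφ] at hcard hlcs hker0
  have hB1 : Nat.card ↥(abxB φ 1) = p ^ (m - 1) := by
    have e1 : abxB φ 1 = φ.range := by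
      show (⊤ : Subgroup ↥A).map φ = φ.range
      exact (MonoidHom.range_eq_map φ).symm
    rw [e1, ← Subgroup.index_ker, hker0]
    have h1 := Subgroup.relIndex_mul_relIndex (S ⊓ Subgroup.centralizer (S : Set Ω)) A S
      hZA h.hAS
    have h2 : (S ⊓ Subgroup.centralizer (S : Set Ω)).relIndex A * p = p ^ (m - 1) * p := by
      have h3 : A.relIndex S = p := hAi
      have h4 : (S ⊓ Subgroup.centralizer (S : Set Ω)).relIndex S = p ^ m := hm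
      rw [h3, h4] at h1
      rw [h1, ← pow_succ]
      congr 1
      omega
    exact Nat.eq_of_mul_eq_mul_right hp.pos h2
  have hBm : abxB φ (m - 2) ≤ φ.ker ⊓ φ.range := by
    intro b hb
    refine Subgroup.mem_inf.2 ⟨?_, ?_⟩
    · rw [hker0, Subgroup.mem_subgroupOf]
      exact hle (hlcs ⟨b, hb, rfl⟩)
    · have e : m - 2 = (m - 3) + 1 := by omega
      rw [e] at hb
      exact abxB_succ_le_range φ _ hb
  have h3 : Nat.card ↥(abxB φ (m - 2)) ≤ p := by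
    rw [← hcard]
    exact Subgroup.card_le_of_le hBm
  have h4 := abxB_chain φ hcard (m - 3)
  have e : 1 + (m - 3) = m - 2 := by omega
  rw [e, hB1] at h4
  have h5 : p ^ (m - 1) ≤ p ^ (m - 3) * p := h4.trans (Nat.mul_le_mul_left _ h3)
  rw [← pow_succ] at h5
  have h6 : m - 1 ≤ m - 3 + 1 := (Nat.pow_le_pow_iff_right hp.one_lt).1 h5
  omega

/-- The structure of `S` when a saturated fusion system over it has an essential subgroup
other than the unique abelian subgroup `A` of index `p`. -/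
theorem abx_main2 [Finite S] (p : ℕ) [Fact p.Prime]
    (hS : IsPGroup p S) (F : Cfsg.FusionSystem S) (hF : F.IsSaturated p)
    (A : Subgroup Ω) (hA : A ≤ S ∧ IsMulCommutative ↥A ∧ (A.subgroupOf S).index = p)
    (huniq : ∀ B : Subgroup Ω, B ≤ S → IsMulCommutative ↥B → (B.subgroupOf S).index = p →
      B = A)
    (P : Subgroup Ω) (hP : F.IsEssential p P) (hPA : P ≠ A) :
    ((Subgroup.upperCentralSeries ↥S 2).map S.subtype) ≤ A ∧
    Nat.card ↥((S ⊓ Subgroup.centralizer (S : Set Ω)) ⊓ ((commutator ↥S).map S.subtype)) = p ∧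
    (((S ⊓ Subgroup.centralizer (S : Set Ω)) ⊔
      ((commutator ↥S).map S.subtype)).subgroupOf A).index = p ∧
    (((S ⊓ Subgroup.centralizer (S : Set Ω))).subgroupOf
      ((Subgroup.upperCentralSeries ↥S 2).map S.subtype)).index = p ∧
    ∀ m : ℕ, ((S ⊓ Subgroup.centralizer (S : Set Ω)).subgroupOf S).index = p ^ m → 3 ≤ m →
      ¬ Subgroup.lowerCentralSeries S (m - 2) ≤ (S ⊓ Subgroup.centralizer (S : Set Ω)) := by
  have hPS : P ≤ S := hP.2.1.1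
  have hPfin : Finite ↥P := finite_of_le hPS
  have hcen : centralizerIn S P ≤ P := hP.1.2 P (isConj_refl F hPS)
  have h := abx_setup hS hPS hA hcen
  have hidx := (abx_main p hS F hF A hA P hP).2
  have hPnA : ¬ P ≤ A := fun hPA' => hPA (le_antisymm hPA'
    (fun a ha => h.cen a (h.hAS ha) (fun y hy => h.comm _ (hPA' hy) _ ha)))
  obtain ⟨x, hxP, hxA⟩ := SetLike.not_le_iff_exists.1 hPnA
  obtain ⟨g, hK⟩ := abx_fusK p hS F hF hP
  have hne : P ≠ S := abx_ne_top p hS F hF hP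
  have hE := exists_normalizing_not_mem hS hPS hne
  have hxS := hPS hxP
  have hE' := abx_E' h hxP hxA hE
  have hVgen : ((Subgroup.upperCentralSeries ↥S 2).map S.subtype) ≤ A ∧
      ∃ e ∈ (Subgroup.upperCentralSeries ↥S 2).map S.subtype,
        e ∉ S ⊓ Subgroup.centralizer (S : Set Ω) ∧
        e ^ p ∈ S ⊓ Subgroup.centralizer (S : Set Ω) ∧
        ∀ y ∈ (Subgroup.upperCentralSeries ↥S 2).map S.subtype,
          ∃ k : ℤ, (e ^ k)⁻¹ * y ∈ S ⊓ Subgroup.centralizer (S : Set Ω) := by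
    by_cases hPab : ∀ y y' : ↥P, y * y' = y' * y
    · have hVA := abx_V_le_ab h hxP hxA hPab hidx huniq
      exact ⟨hVA, abx_gen_ab h g hK hE' hxP hxA hPab hVA⟩
    · obtain ⟨hVP, hVA⟩ := abx_V_nonab h g hK hE' hxP hxA hPab
      exact ⟨hVA, abx_gen_nonab h g hK hE' hxP hxA hPab hVA hVP⟩
  obtain ⟨hVA, e, heV, heZ, hep, hgen⟩ := hVgen
  have hZA : S ⊓ Subgroup.centralizer (S : Set Ω) ≤ A := (abx_Z_le_V (S := S)).trans hVA
  have hcard := abx_card_inf h hxS hxA hVA heV heZ hep hgen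
  have hker := abx_ker_eq h hxS hxA
  have hrange := abx_range_eq h hxS hxA
  have hS'A : (commutator ↥S).map S.subtype ≤ A := by
    rw [abx_commutator_eq h hxS hxA]
    exact Subgroup.map_subtype_le _
  have hAfin : Finite ↥A := finite_of_le h.hAS
  refine ⟨hVA, ?_, ?_, ?_, ?_⟩
  · have e1 : ((S ⊓ Subgroup.centralizer (S : Set Ω)) ⊓
        ((commutator ↥S).map S.subtype)).subgroupOf A =
        (abxHom h x hxS).ker ⊓ (abxHom h x hxS).range := by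
      rw [hker, hrange]
      ext a
      simp only [Subgroup.mem_subgroupOf, Subgroup.mem_inf]
    rw [← hcard, ← e1]
    exact (Nat.card_congr (Subgroup.subgroupOfEquivOfLe (inf_le_left.trans hZA)).toEquiv).symm
  · rw [Subgroup.subgroupOf_sup hZA hS'A, ← hker, ← hrange]
    exact abx_index_sup _ hcard
  · haveI : ((S ⊓ Subgroup.centralizer (S : Set Ω)).subgroupOf
        ((Subgroup.upperCentralSeries ↥S 2).map S.subtype)).Normal := by
      refine ⟨fun n hn g => ?_⟩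
      rw [Subgroup.mem_subgroupOf] at hn ⊢
      have hgS : (g : Ω) ∈ S := (abx_mem_Z2.1 g.2).1
      have hc : (g : Ω) * n = n * g :=
        Subgroup.mem_centralizer_iff.1 (Subgroup.mem_inf.1 hn).2 g hgS
      have e2 : ((g * n * g⁻¹ : ↥((Subgroup.upperCentralSeries ↥S 2).map S.subtype)) : Ω) =
          n := by
        show (g : Ω) * n * (g : Ω)⁻¹ = n
        rw [hc]; group
      rw [e2]
      exact hn
    apply abx_index_eq ((S ⊓ Subgroup.centralizer (S : Set Ω)).subgroupOf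
      ((Subgroup.upperCentralSeries ↥S 2).map S.subtype)) ⟨e, heV⟩
    · intro hm
      exact heZ (Subgroup.mem_subgroupOf.1 hm)
    · exact Subgroup.mem_subgroupOf.2 hep
    · rintro ⟨y, hy⟩
      obtain ⟨k, hk⟩ := hgen y hy
      exact ⟨k, Subgroup.mem_subgroupOf.2 hk⟩
  · intro m hm hm3
    exact abx_maxclass h hxS hxA hA.2.2 hZA hcard m hm hm3

end AbxEss2

end Cfsg.Agent.Helper26
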