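import Cfsg.Agent.Helper26.Stability

set_option autoImplicit false

namespace Cfsg.Agent.Helper26

section AbyLocal

theorem aby_pow_fix {H : Type*} [Group H] (γ : MulAut H) {c : H} (hc : γ c = c) (n : ℕ) :
    (γ ^ n) c = c := by
  induction n with
  | zero => simp
  | succ n ih => rw [pow_succ, MulAut.mul_apply, hc, ih]

theorem aby_pow_apply {H : Type*} [Group H] (γ : MulAut H) {y c : H} (hy : γ y = y * c)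
    (hc : γ c = c) (n : ℕ) : (γ ^ n) y = y * c ^ n := by
  induction n with
  | zero => simp
  | succ n ih =>
    rw [pow_succ, MulAut.mul_apply, hy, map_mul, ih, aby_pow_fix γ hc, pow_succ, mul_assoc]

theorem aby_fix_of_zpowers {H : Type*} [Group H] {ρ τ : MulAut H}
    (hρ : ρ ∈ Subgroup.zpowers τ) {d : H} (hd : τ d = d) : ρ d = d := by
  have h1 : Subgroup.zpowers τ ≤ MulAction.stabilizer (MulAut H) d :=
    (Subgroup.zpowers_le).2 (MulAction.mem_stabilizer_iff.2 hd)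
  exact MulAction.mem_stabilizer_iff.1 (h1 hρ)

theorem aby_stab_inv {H : Type*} [Group H] [Finite H] {D : ℕ → Subgroup H}
    (hanti : ∀ j, D (j + 1) ≤ D j) {γ : MulAut H} (h : StabChain D γ) : StabChain D γ⁻¹ := by
  have hpos : 0 < orderOf γ := orderOf_pos γ
  have e : γ⁻¹ = γ ^ (orderOf γ - 1) := by
    apply inv_eq_of_mul_eq_one_right
    rw [← pow_succ', show orderOf γ - 1 + 1 = orderOf γ from by omega]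
    exact pow_orderOf_eq_one γ
  rw [e]
  exact stabChain_pow hanti h _

def abyD {H : Type*} [Group H] (Z₁ Z₂ : Subgroup H) : ℕ → Subgroup H
  | 0 => ⊤
  | 1 => Z₁ ⊔ Z₂
  | 2 => Z₁
  | _ + 3 => ⊥

theorem abyD_anti {H : Type*} [Group H] (Z₁ Z₂ : Subgroup H) :
    ∀ j, abyD Z₁ Z₂ (j + 1) ≤ abyD Z₁ Z₂ j := by
  intro j
  match j with
  | 0 => exact le_top
  | 1 => exact (le_sup_left : Z₁ ≤ Z₁ ⊔ Z₂)
  | 2 => exact (bot_le : (⊥ : Subgroup H) ≤ Z₁)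
  | n + 3 => exact (le_refl (⊥ : Subgroup H))

def abyFixSub {H : Type*} [Group H] (β : MulAut H) : Subgroup H where
  carrier := {x | β x = x}
  one_mem' := map_one β
  mul_mem' := fun {a b} ha hb => by
    show β (a * b) = a * b
    rw [map_mul, show β a = a from ha, show β b = b from hb]
  inv_mem' := fun {a} ha => by
    show β a⁻¹ = a⁻¹
    rw [map_inv, show β a = a from ha]

theorem aby_two_chain {H : Type*} [Group H] (α β : MulAut H) (Z₁ Z₂ : Subgroup H)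
    (hα : ∀ y, y⁻¹ * α y ∈ Z₁) (hαf : ∀ c ∈ Z₁, α c = c)
    (hβ : ∀ y, y⁻¹ * β y ∈ Z₂) (hβf : ∀ c ∈ Z₂, β c = c) (hβ1 : ∀ c ∈ Z₁, β c = c) :
    StabChain (abyD Z₁ Z₂) α ∧ StabChain (abyD Z₁ Z₂) β := by
  have hβsup : ∀ x ∈ Z₁ ⊔ Z₂, β x = x := fun x hx =>
    (sup_le (fun c hc => hβ1 c hc) (fun c hc => hβf c hc) : Z₁ ⊔ Z₂ ≤ abyFixSub β) hx
  constructor
  · intro j x hx
    match j, hx with
    | 0, _ => exact (le_sup_left : Z₁ ≤ Z₁ ⊔ Z₂) (hα x)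
    | 1, _ => exact hα x
    | 2, hx =>
      have h2 : α x = x := hαf x hx
      show x⁻¹ * α x ∈ (⊥ : Subgroup H)
      rw [h2, inv_mul_cancel]
      exact Subgroup.one_mem _
    | n + 3, hx =>
      have h1 : x = 1 := Subgroup.mem_bot.1 hx
      show x⁻¹ * α x ∈ (⊥ : Subgroup H)
      rw [h1, map_one, inv_one, mul_one]
      exact Subgroup.one_mem _
  · intro j x hx
    match j, hx with
    | 0, _ => exact (le_sup_right : Z₂ ≤ Z₁ ⊔ Z₂) (hβ x)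
    | 1, hx =>
      have h2 : β x = x := hβsup x hx
      show x⁻¹ * β x ∈ Z₁
      rw [h2, inv_mul_cancel]
      exact Subgroup.one_mem _
    | 2, hx =>
      have h2 : β x = x := hβ1 x hx
      show x⁻¹ * β x ∈ (⊥ : Subgroup H)
      rw [h2, inv_mul_cancel]
      exact Subgroup.one_mem _
    | n + 3, hx =>
      have h1 : x = 1 := Subgroup.mem_bot.1 hx
      show x⁻¹ * β x ∈ (⊥ : Subgroup H)
      rw [h1, map_one, inv_one, mul_one]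
      exact Subgroup.one_mem _

/-- The local configuration: an abelian `p`-group `H`, a group `G` of automorphisms, an
automorphism `τ ∈ G` moving every element by a member of the subgroup `Z₀` of order `p` which it
fixes pointwise, such that `⟨τ⟩` is the only `p`-subgroup of `G` containing `τ`, and a conjugate
of `τ` not commuting with `τ`. -/
structure AbyHyp {H : Type*} [Group H] (p : ℕ) (G : Subgroup (MulAut H)) (Z₀ : Subgroup H)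
    (τ g : MulAut H) : Prop where
  comm : ∀ a b : H, a * b = b * a
  pgrp : IsPGroup p H
  card : Nat.card Z₀ = p
  hτ : τ ∈ G
  hg : g ∈ G
  disp : ∀ y, y⁻¹ * τ y ∈ Z₀
  fix : ∀ c ∈ Z₀, τ c = c
  syl : ∀ X : Subgroup (MulAut H), X ≤ G → (∀ γ ∈ X, ∃ k : ℕ, γ ^ p ^ k = 1) → τ ∈ X →
    X ≤ Subgroup.zpowers τ
  nc : τ * (g * τ * g⁻¹) ≠ g * τ * g⁻¹ * τ

variable {H : Type*} [Group H] [Finite H] {p : ℕ} [Fact p.Prime] {G : Subgroup (MulAut H)}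
  {Z₀ : Subgroup H} {τ g : MulAut H}

theorem aby_gen {K : Subgroup H} (hK : Nat.card K = p) {c : H} (hc : c ∈ K) (hc1 : c ≠ 1) :
    ∀ z ∈ K, ∃ n : ℕ, c ^ n = z := by
  intro z hz
  have h1 : (⟨z, hz⟩ : ↥K) ∈ Submonoid.powers (⟨c, hc⟩ : ↥K) :=
    mem_powers_of_prime_card hK (fun h => hc1 (congrArg Subtype.val h))
  obtain ⟨n, hn⟩ := h1
  exact ⟨n, by simpa using congrArg Subtype.val hn⟩

theorem aby_exists_ne_one {K : Subgroup H} (hK : Nat.card K = p) : ∃ c ∈ K, c ≠ 1 := by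
  have h1 : 1 < Nat.card K := hK ▸ (Fact.out : p.Prime).one_lt
  haveI := Finite.one_lt_card_iff_nontrivial.1 h1
  obtain ⟨a, ha⟩ := exists_ne (1 : ↥K)
  exact ⟨a, a.2, fun h => ha (Subtype.ext h)⟩

theorem aby_conj_disp (τ h : MulAut H) (Z₀ : Subgroup H) (hd : ∀ y, y⁻¹ * τ y ∈ Z₀) :
    ∀ y, y⁻¹ * (h * τ * h⁻¹) y ∈ Z₀.map h.toMonoidHom := by
  intro y
  refine ⟨(h⁻¹ y)⁻¹ * τ (h⁻¹ y), hd _, ?_⟩
  show h ((h⁻¹ y)⁻¹ * τ (h⁻¹ y)) = y⁻¹ * h (τ (h⁻¹ y))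
  rw [map_mul, map_inv, MulAut.apply_inv_self]

theorem aby_conj_fix (τ h : MulAut H) (Z₀ : Subgroup H) (hf : ∀ c ∈ Z₀, τ c = c) :
    ∀ c ∈ Z₀.map h.toMonoidHom, (h * τ * h⁻¹) c = c := by
  rintro _ ⟨c, hc, rfl⟩
  show h (τ (h⁻¹ (h c))) = h c
  rw [MulAut.inv_apply_self, hf c hc]

theorem aby_card_map (hyp : AbyHyp p G Z₀ τ g) (h : MulAut H) :
    Nat.card ↥(Z₀.map h.toMonoidHom) = p := by
  rw [Subgroup.card_map_of_injective (f := h.toMonoidHom) h.injective]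
  exact hyp.card

theorem aby_star0 (hyp : AbyHyp p G Z₀ τ g) {h : MulAut H} (hh : h ∈ G)
    (hcase : (∀ c ∈ Z₀, (h * τ * h⁻¹) c = c) ∨ (∀ c ∈ Z₀.map h.toMonoidHom, τ c = c)) :
    h * τ * h⁻¹ ∈ Subgroup.zpowers τ := by
  obtain ⟨ρ, hρ⟩ : ∃ ρ, ρ = h * τ * h⁻¹ := ⟨_, rfl⟩
  rw [← hρ] at hcase ⊢
  have hρG : ρ ∈ G := by rw [hρ]; exact G.mul_mem (G.mul_mem hh hyp.hτ) (G.inv_mem hh)
  have hρd : ∀ y, y⁻¹ * ρ y ∈ Z₀.map h.toMonoidHom := by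
    rw [hρ]; exact aby_conj_disp τ h Z₀ hyp.disp
  have hρf : ∀ c ∈ Z₀.map h.toMonoidHom, ρ c = c := by
    rw [hρ]; exact aby_conj_fix τ h Z₀ hyp.fix
  have key : ∀ D : ℕ → Subgroup H, (∀ j, D (j + 1) ≤ D j) → D 0 = ⊤ → D 3 = ⊥ →
      StabChain D τ → StabChain D ρ → ρ ∈ Subgroup.zpowers τ := by
    intro D hanti h0 h3 hτc hρc
    have hX : stabSubgroup D hanti ⊓ G ≤ Subgroup.zpowers τ := by
      apply hyp.syl _ inf_le_right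
      · intro γ hγ
        have hγs : StabChain D γ := (mem_stabSubgroup.1 (Subgroup.mem_inf.1 hγ).1).1
        apply stab_pow_eq_one hyp.pgrp γ D hanti h0 3 ?_ hγs
        refine ⟨0, fun x hx => ?_⟩
        rw [h3, Subgroup.mem_bot] at hx
        rw [hx, map_one]
      · exact Subgroup.mem_inf.2 ⟨mem_stabSubgroup.2 ⟨hτc, aby_stab_inv hanti hτc⟩, hyp.hτ⟩
    exact hX (Subgroup.mem_inf.2 ⟨mem_stabSubgroup.2 ⟨hρc, aby_stab_inv hanti hρc⟩, hρG⟩)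
  rcases hcase with h1 | h1
  · obtain ⟨hc1, hc2⟩ :=
      aby_two_chain τ ρ Z₀ (Z₀.map h.toMonoidHom) hyp.disp hyp.fix hρd hρf h1
    exact key _ (abyD_anti _ _) rfl rfl hc1 hc2
  · obtain ⟨hc1, hc2⟩ :=
      aby_two_chain ρ τ (Z₀.map h.toMonoidHom) Z₀ hρd hρf hyp.disp hyp.fix h1
    exact key _ (abyD_anti _ _) rfl rfl hc2 hc1

theorem aby_sigma_comm (hyp : AbyHyp p G Z₀ τ g) (hσ : g * τ * g⁻¹ ∈ Subgroup.zpowers τ) :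
    False := by
  obtain ⟨k, hk⟩ := Subgroup.mem_zpowers_iff.1 hσ
  apply hyp.nc
  rw [← hk]
  exact (Commute.zpow_right (Commute.refl τ) k).eq

theorem aby_A1 (hyp : AbyHyp p G Z₀ τ g) : ∀ c ∈ Z₀, c ≠ 1 → (g * τ * g⁻¹) c ≠ c := by
  intro c hc hc1 hfix
  apply aby_sigma_comm hyp
  apply aby_star0 hyp hyp.hg (Or.inl ?_)
  intro z hz
  obtain ⟨n, rfl⟩ := aby_gen hyp.card hc hc1 z hz
  rw [map_pow, hfix]

theorem aby_A2 (hyp : AbyHyp p G Z₀ τ g) : ∀ u ∈ Z₀.map g.toMonoidHom, u ≠ 1 → τ u ≠ u := by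
  intro u hu hu1 hfix
  apply aby_sigma_comm hyp
  apply aby_star0 hyp hyp.hg (Or.inr ?_)
  intro z hz
  obtain ⟨n, rfl⟩ := aby_gen (aby_card_map hyp g) hu hu1 z hz
  rw [map_pow, hfix]

theorem aby_u0 (g : MulAut H) {Z₀ : Subgroup H} {c₀ : H} (hc₀ : c₀ ∈ Z₀) (hc₀1 : c₀ ≠ 1) :
    g c₀ ∈ Z₀.map g.toMonoidHom ∧ g c₀ ≠ 1 :=
  ⟨⟨c₀, hc₀, rfl⟩, fun h => hc₀1 (by rwa [map_eq_one_iff g g.injective] at h)⟩

theorem aby_decomp (hyp : AbyHyp p G Z₀ τ g) (y : H) :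
    ∃ z ∈ Z₀, ∃ u ∈ Z₀.map g.toMonoidHom, ∃ d, τ d = d ∧ (g * τ * g⁻¹) d = d ∧
      y = d * z * u := by
  obtain ⟨σ, hσ⟩ : ∃ σ, σ = g * τ * g⁻¹ := ⟨_, rfl⟩
  have hσd : ∀ y, y⁻¹ * σ y ∈ Z₀.map g.toMonoidHom := by
    rw [hσ]; exact aby_conj_disp τ g Z₀ hyp.disp
  have hσf : ∀ c ∈ Z₀.map g.toMonoidHom, σ c = c := by
    rw [hσ]; exact aby_conj_fix τ g Z₀ hyp.fix
  have hA1 : ∀ c ∈ Z₀, c ≠ 1 → σ c ≠ c := by rw [hσ]; exact aby_A1 hyp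
  have hA2 := aby_A2 hyp
  rw [← hσ]
  obtain ⟨c₀, hc₀, hc₀1⟩ := aby_exists_ne_one hyp.card
  obtain ⟨hu₀, hu₀1⟩ := aby_u0 g hc₀ hc₀1
  obtain ⟨u₀, hu₀def⟩ : ∃ u₀, u₀ = g c₀ := ⟨_, rfl⟩
  rw [← hu₀def] at hu₀ hu₀1
  obtain ⟨c₁, hc₁def⟩ : ∃ c₁, c₁ = u₀⁻¹ * τ u₀ := ⟨_, rfl⟩
  have hc₁ : c₁ ∈ Z₀ := hc₁def ▸ hyp.disp u₀
  have hτu₀ : τ u₀ = u₀ * c₁ := by rw [hc₁def]; group
  have hc₁1 : c₁ ≠ 1 := by
    intro h1
    apply hA2 u₀ hu₀ hu₀1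
    rw [hτu₀, h1, mul_one]
  obtain ⟨u₁, hu₁def⟩ : ∃ u₁, u₁ = c₀⁻¹ * σ c₀ := ⟨_, rfl⟩
  have hu₁ : u₁ ∈ Z₀.map g.toMonoidHom := hu₁def ▸ hσd c₀
  have hσc₀ : σ c₀ = c₀ * u₁ := by rw [hu₁def]; group
  have hu₁1 : u₁ ≠ 1 := by
    intro h1
    apply hA1 c₀ hc₀ hc₀1
    rw [hσc₀, h1, mul_one]
  obtain ⟨n, hn⟩ := aby_gen hyp.card hc₁ hc₁1 (y⁻¹ * τ y) (hyp.disp y)
  have hτy : τ y = y * c₁ ^ n := by rw [hn]; group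
  have hτu₀n : τ (u₀ ^ n) = u₀ ^ n * c₁ ^ n := by
    rw [map_pow, hτu₀, (show Commute u₀ c₁ from hyp.comm u₀ c₁).mul_pow]
  obtain ⟨y', hy'⟩ : ∃ y', y' = y * (u₀ ^ n)⁻¹ := ⟨_, rfl⟩
  have hτy' : τ y' = y' := by
    rw [hy', map_mul, map_inv, hτu₀n, hτy]
    group
  obtain ⟨m, hm⟩ := aby_gen (aby_card_map hyp g) hu₁ hu₁1 (y'⁻¹ * σ y') (hσd y')
  have hσy' : σ y' = y' * u₁ ^ m := by rw [hm]; group
  have hσc₀m : σ (c₀ ^ m) = c₀ ^ m * u₁ ^ m := by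
    rw [map_pow, hσc₀, (show Commute c₀ u₁ from hyp.comm c₀ u₁).mul_pow]
  have hτc₀m : τ (c₀ ^ m) = c₀ ^ m := hyp.fix _ (Z₀.pow_mem hc₀ m)
  refine ⟨c₀ ^ m, Z₀.pow_mem hc₀ m, u₀ ^ n, Subgroup.pow_mem _ hu₀ n, y' * (c₀ ^ m)⁻¹,
    ?_, ?_, ?_⟩
  · rw [map_mul, map_inv, hτy', hτc₀m]
  · rw [map_mul, map_inv, hσy', hσc₀m]
    group
  · rw [hy']
    group

theorem aby_fix_decomp (hyp : AbyHyp p G Z₀ τ g) (y : H) (hy : τ y = y) :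
    ∃ z ∈ Z₀, ∃ d, τ d = d ∧ (g * τ * g⁻¹) d = d ∧ y = d * z := by
  obtain ⟨z, hz, u, hu, d, hd1, hd2, hyd⟩ := aby_decomp hyp y
  refine ⟨z, hz, d, hd1, hd2, ?_⟩
  have hτu : τ u = u := by
    have h1 : τ (d * z * u) = d * z * τ u := by rw [map_mul, map_mul, hd1, hyp.fix z hz]
    rw [← hyd, hy, hyd] at h1
    exact (mul_left_cancel h1).symm
  have hu1 : u = 1 := by
    by_contra hne
    exact aby_A2 hyp u hu hne hτu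
  rw [hyd, hu1, mul_one]

theorem aby_conj_fix_all (hyp : AbyHyp p G Z₀ τ g) {h : MulAut H} (hh : h ∈ G) {d : H}
    (hd1 : τ d = d) (hd2 : (g * τ * g⁻¹) d = d) : (h * τ * h⁻¹) d = d := by
  obtain ⟨σ, hσ⟩ : ∃ σ, σ = g * τ * g⁻¹ := ⟨_, rfl⟩
  have hσG : σ ∈ G := by
    rw [hσ]; exact G.mul_mem (G.mul_mem hyp.hg hyp.hτ) (G.inv_mem hyp.hg)
  have hσd : ∀ y, y⁻¹ * σ y ∈ Z₀.map g.toMonoidHom := by
    rw [hσ]; exact aby_conj_disp τ g Z₀ hyp.disp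
  have hσf : ∀ c ∈ Z₀.map g.toMonoidHom, σ c = c := by
    rw [hσ]; exact aby_conj_fix τ g Z₀ hyp.fix
  have hA1 : ∀ c ∈ Z₀, c ≠ 1 → σ c ≠ c := by rw [hσ]; exact aby_A1 hyp
  have hA2 := aby_A2 hyp
  rw [← hσ] at hd2
  obtain ⟨c₀, hc₀, hc₀1⟩ := aby_exists_ne_one hyp.card
  have hfixc : ∀ h' : MulAut H, h' ∈ G → (h' * τ * h'⁻¹) c₀ = c₀ →
      (h' * τ * h'⁻¹) d = d := by
    intro h' hh' hfix
    apply aby_fix_of_zpowers _ hd1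
    apply aby_star0 hyp hh' (Or.inl ?_)
    intro z hz
    obtain ⟨n, rfl⟩ := aby_gen hyp.card hc₀ hc₀1 z hz
    rw [map_pow, hfix]
  by_cases hρc : (h * τ * h⁻¹) c₀ = c₀
  · exact hfixc h hh hρc
  obtain ⟨ρ, hρ⟩ : ∃ ρ, ρ = h * τ * h⁻¹ := ⟨_, rfl⟩
  rw [← hρ] at hρc ⊢
  have hρd : ∀ y, y⁻¹ * ρ y ∈ Z₀.map h.toMonoidHom := by
    rw [hρ]; exact aby_conj_disp τ h Z₀ hyp.disp
  have hρf : ∀ c ∈ Z₀.map h.toMonoidHom, ρ c = c := by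
    rw [hρ]; exact aby_conj_fix τ h Z₀ hyp.fix
  obtain ⟨w, hwdef⟩ : ∃ w, w = c₀⁻¹ * ρ c₀ := ⟨_, rfl⟩
  have hw : w ∈ Z₀.map h.toMonoidHom := hwdef ▸ hρd c₀
  have hρc₀ : ρ c₀ = c₀ * w := by rw [hwdef]; group
  have hw1 : w ≠ 1 := by
    intro h1
    apply hρc
    rw [hρc₀, h1, mul_one]
  obtain ⟨hu₀, hu₀1⟩ := aby_u0 g hc₀ hc₀1
  obtain ⟨u₀, hu₀def⟩ : ∃ u₀, u₀ = g c₀ := ⟨_, rfl⟩
  rw [← hu₀def] at hu₀ hu₀1
  obtain ⟨t, htdef⟩ : ∃ t, t = u₀⁻¹ * ρ u₀ := ⟨_, rfl⟩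
  have ht : t ∈ Z₀.map h.toMonoidHom := htdef ▸ hρd u₀
  have hρu₀ : ρ u₀ = u₀ * t := by rw [htdef]; group
  obtain ⟨j, hj⟩ := aby_gen (aby_card_map hyp h) hw hw1 t⁻¹ (Subgroup.inv_mem _ ht)
  have hρz : ρ (c₀ ^ j) = c₀ ^ j * t⁻¹ := by
    rw [map_pow, hρc₀, (show Commute c₀ w from hyp.comm c₀ w).mul_pow, hj]
  have hρv : ρ (u₀ * c₀ ^ j) = u₀ * c₀ ^ j := by
    rw [map_mul, hρu₀, hρz, hyp.comm (c₀ ^ j) t⁻¹]
    group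
  obtain ⟨u₁, hu₁def⟩ : ∃ u₁, u₁ = c₀⁻¹ * σ c₀ := ⟨_, rfl⟩
  have hu₁ : u₁ ∈ Z₀.map g.toMonoidHom := hu₁def ▸ hσd c₀
  have hσc₀ : σ c₀ = c₀ * u₁ := by rw [hu₁def]; group
  have hu₁1 : u₁ ≠ 1 := by
    intro h1
    apply hA1 c₀ hc₀ hc₀1
    rw [hσc₀, h1, mul_one]
  obtain ⟨m, hm⟩ := aby_gen (aby_card_map hyp g) hu₁ hu₁1 u₀ hu₀
  have hσm : (σ ^ m) c₀ = c₀ * u₀ := by
    rw [aby_pow_apply σ hσc₀ (hσf u₁ hu₁) m, hm]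
  obtain ⟨c₁, hc₁def⟩ : ∃ c₁, c₁ = u₀⁻¹ * τ u₀ := ⟨_, rfl⟩
  have hc₁ : c₁ ∈ Z₀ := hc₁def ▸ hyp.disp u₀
  have hτu₀ : τ u₀ = u₀ * c₁ := by rw [hc₁def]; group
  have hc₁1 : c₁ ≠ 1 := by
    intro h1
    apply hA2 u₀ hu₀ hu₀1
    rw [hτu₀, h1, mul_one]
  obtain ⟨n, hn⟩ := aby_gen hyp.card hc₁ hc₁1 (c₀⁻¹ * c₀ ^ j)
    (Z₀.mul_mem (Z₀.inv_mem hc₀) (Z₀.pow_mem hc₀ j))
  have hτn : (τ ^ n) u₀ = u₀ * (c₀⁻¹ * c₀ ^ j) := by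
    rw [aby_pow_apply τ hτu₀ (hyp.fix c₁ hc₁) n, hn]
  have hτnc : (τ ^ n) c₀ = c₀ := aby_pow_fix τ (hyp.fix c₀ hc₀) n
  obtain ⟨k, hk⟩ : ∃ k, k = τ ^ n * σ ^ m := ⟨_, rfl⟩
  have hkG : k ∈ G := by rw [hk]; exact G.mul_mem (G.pow_mem hyp.hτ n) (G.pow_mem hσG m)
  have hkc : k c₀ = u₀ * c₀ ^ j := by
    rw [hk, MulAut.mul_apply, hσm, map_mul, hτnc, hτn, hyp.comm c₀ (u₀ * (c₀⁻¹ * c₀ ^ j))]
    group
  have hkd : k d = d := by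
    rw [hk, MulAut.mul_apply, aby_pow_fix σ hd2 m, aby_pow_fix τ hd1 n]
  have hkd' : k⁻¹ d = d := by
    have h1 : k⁻¹ (k d) = d := MulAut.inv_apply_self _ k d
    rw [hkd] at h1
    exact h1
  have hfix' : ((k⁻¹ * h) * τ * (k⁻¹ * h)⁻¹) c₀ = c₀ := by
    have e : (k⁻¹ * h) * τ * (k⁻¹ * h)⁻¹ = k⁻¹ * ρ * k := by rw [hρ]; group
    rw [e]
    show k⁻¹ (ρ (k c₀)) = c₀
    rw [hkc, hρv, ← hkc]
    exact MulAut.inv_apply_self _ k c₀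
  have h2 := hfixc (k⁻¹ * h) (G.mul_mem (G.inv_mem hkG) hh) hfix'
  have e2 : ρ = k * ((k⁻¹ * h) * τ * (k⁻¹ * h)⁻¹) * k⁻¹ := by rw [hρ]; group
  rw [e2]
  show k (((k⁻¹ * h) * τ * (k⁻¹ * h)⁻¹) (k⁻¹ d)) = d
  rw [hkd', h2, hkd]

theorem aby_inv (hyp : AbyHyp p G Z₀ τ g) {h : MulAut H} (hh : h ∈ G) {d : H}
    (hd1 : τ d = d) (hd2 : (g * τ * g⁻¹) d = d) :
    τ (h d) = h d ∧ (g * τ * g⁻¹) (h d) = h d := by
  constructor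
  · have h1 := aby_conj_fix_all hyp (G.inv_mem hh) hd1 hd2
    rw [inv_inv] at h1
    have h2 : h⁻¹ (τ (h d)) = d := h1
    have h3 : h (h⁻¹ (τ (h d))) = h d := by rw [h2]
    rw [MulAut.apply_inv_self] at h3
    exact h3
  · have h1 := aby_conj_fix_all hyp (G.mul_mem (G.inv_mem hh) hyp.hg) hd1 hd2
    have e : (h⁻¹ * g) * τ * (h⁻¹ * g)⁻¹ = h⁻¹ * (g * τ * g⁻¹) * h := by group
    rw [e] at h1
    have h2 : h⁻¹ ((g * τ * g⁻¹) (h d)) = d := h1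
    have h3 : h (h⁻¹ ((g * τ * g⁻¹) (h d))) = h d := by rw [h2]
    rw [MulAut.apply_inv_self] at h3
    exact h3

theorem aby_delta (hyp : AbyHyp p G Z₀ τ g) :
    ∃ δ ∈ G, (∀ z ∈ Z₀, δ z = z⁻¹) ∧ ∀ d, τ d = d → (g * τ * g⁻¹) d = d → δ d = d := by
  obtain ⟨σ, hσ⟩ : ∃ σ, σ = g * τ * g⁻¹ := ⟨_, rfl⟩
  have hσG : σ ∈ G := by
    rw [hσ]; exact G.mul_mem (G.mul_mem hyp.hg hyp.hτ) (G.inv_mem hyp.hg)
  have hσd : ∀ y, y⁻¹ * σ y ∈ Z₀.map g.toMonoidHom := by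
    rw [hσ]; exact aby_conj_disp τ g Z₀ hyp.disp
  have hσf : ∀ c ∈ Z₀.map g.toMonoidHom, σ c = c := by
    rw [hσ]; exact aby_conj_fix τ g Z₀ hyp.fix
  have hA1 : ∀ c ∈ Z₀, c ≠ 1 → σ c ≠ c := by rw [hσ]; exact aby_A1 hyp
  have hA2 := aby_A2 hyp
  rw [← hσ]
  obtain ⟨c₀, hc₀, hc₀1⟩ := aby_exists_ne_one hyp.card
  obtain ⟨hu, hu1⟩ := aby_u0 g hc₀ hc₀1
  obtain ⟨u, hudef⟩ : ∃ u, u = g c₀ := ⟨_, rfl⟩
  rw [← hudef] at hu hu1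
  obtain ⟨c, hcdef⟩ : ∃ c, c = u⁻¹ * τ u := ⟨_, rfl⟩
  have hc : c ∈ Z₀ := hcdef ▸ hyp.disp u
  have hτu : τ u = u * c := by rw [hcdef]; group
  have hc1 : c ≠ 1 := by
    intro h1
    apply hA2 u hu hu1
    rw [hτu, h1, mul_one]
  have hτc : τ c = c := hyp.fix c hc
  obtain ⟨u', hu'def⟩ : ∃ u', u' = c⁻¹ * σ c := ⟨_, rfl⟩
  have hu' : u' ∈ Z₀.map g.toMonoidHom := hu'def ▸ hσd c
  have hσc : σ c = c * u' := by rw [hu'def]; group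
  have hu'1 : u' ≠ 1 := by
    intro h1
    apply hA1 c hc hc1
    rw [hσc, h1, mul_one]
  obtain ⟨m, hm⟩ := aby_gen (aby_card_map hyp g) hu' hu'1 u⁻¹ (Subgroup.inv_mem _ hu)
  have hσmc : (σ ^ m) c = c * u⁻¹ := by rw [aby_pow_apply σ hσc (hσf u' hu') m, hm]
  have hσmu : (σ ^ m) u = u := aby_pow_fix σ (hσf u hu) m
  obtain ⟨ω, hω⟩ : ∃ ω, ω = τ * σ ^ m * τ := ⟨_, rfl⟩
  have hωG : ω ∈ G := by
    rw [hω]; exact G.mul_mem (G.mul_mem hyp.hτ (G.pow_mem hσG m)) hyp.hτ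
  have hωc : ω c = u⁻¹ := by
    rw [hω]
    show τ ((σ ^ m) (τ c)) = u⁻¹
    rw [hτc, hσmc, map_mul, map_inv, hτc, hτu]
    group
  have hωu : ω u = c := by
    rw [hω]
    show τ ((σ ^ m) (τ u)) = c
    rw [hτu, map_mul, hσmu, hσmc, hyp.comm c u⁻¹, mul_inv_cancel_left, hτc]
  have hδc : (ω * ω) c = c⁻¹ := by
    show ω (ω c) = c⁻¹
    rw [hωc, map_inv, hωu]
  refine ⟨ω * ω, G.mul_mem hωG hωG, ?_, ?_⟩
  · intro z hz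
    obtain ⟨n, rfl⟩ := aby_gen hyp.card hc hc1 z hz
    rw [map_pow, hδc, inv_pow]
  · intro d hd1 hd2
    have hωd : ω d = d := by
      rw [hω]
      show τ ((σ ^ m) (τ d)) = d
      rw [hd1, aby_pow_fix σ hd2 m, hd1]
    show ω (ω d) = d
    rw [hωd, hωd]

end AbyLocal

end Cfsg.Agent.Helper26
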