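import Cfsg.Agent.Helper26.AbxEss2
import Cfsg.Agent.Helper26.FusionNormal
import Cfsg.Agent.Helper26.AbyLocal

set_option autoImplicit false

namespace Cfsg.Agent.Helper26

open Cfsg Cfsg.FusionSystem

open scoped commutatorElement

section AbyEss

variable {Ω : Type*} [Group Ω] {S A P : Subgroup Ω} {p : ℕ}

theorem aby_fusK [Finite S] (p : ℕ) [Fact p.Prime] (hS : IsPGroup p S) (F : FusionSystem S)
    (hF : F.IsSaturated p) {P : Subgroup Ω} (hP : F.IsEssential p P) :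
    ∃ g ∈ F.autGroup P, AbxK S P g := by
  obtain ⟨hcen, hfn, hI, E, hEdvd, hEtop, T₀, hT₀⟩ := hP
  have hPS : P ≤ S := hfn.1
  have hPfin : Finite ↥P := finite_of_le hPS
  have hcen' : centralizerIn S P ≤ P := hcen.2 P (isConj_refl F hPS)
  obtain ⟨hfc, hfa⟩ := sat_fullyNormalized p hS F hF hfn
  obtain ⟨R, hR⟩ := hfa.2
  obtain ⟨T, hT⟩ : ∃ T : Sylow p (F.autGroup P ⧸ (Inn P).subgroupOf (F.autGroup P)),
      (T : Subgroup _) = ((autInducedBy S P).subgroupOf (F.autGroup P)).map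
        (QuotientGroup.mk' ((Inn P).subgroupOf (F.autGroup P))) := by
    refine ⟨R.mapSurjective (QuotientGroup.mk'_surjective _), ?_⟩
    rw [Sylow.coe_mapSurjective, hR]
  obtain ⟨M', hM'top, hM'⟩ := exists_proper_of_fus T T₀ hT₀ hEtop
  obtain ⟨q, hq⟩ : ∃ q, q ∉ M' := by
    by_contra hcon
    push Not at hcon
    exact hM'top ((Subgroup.eq_top_iff' M').2 hcon)
  obtain ⟨g₀, hg₀⟩ := QuotientGroup.mk'_surjective _ q
  refine ⟨(g₀ : MulAut ↥P), g₀.2, ?_⟩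
  rintro α β ⟨a, haS, haP, hα⟩ ⟨b, hbS, hbP, hβ⟩ hcomm
  have hαS : α ∈ autInducedBy S P := mem_autInducedBy_iff.2 ⟨a, haS, hα⟩
  have hβS : β ∈ autInducedBy S P := mem_autInducedBy_iff.2 ⟨b, hbS, hβ⟩
  have hαA : α ∈ F.autGroup P := autInducedBy_le_autGroup F hPS hαS
  have hβA : β ∈ F.autGroup P := autInducedBy_le_autGroup F hPS hβS
  obtain ⟨t, ht⟩ : ∃ t, t = QuotientGroup.mk' ((Inn P).subgroupOf (F.autGroup P)) ⟨α, hαA⟩ :=
    ⟨_, rfl⟩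
  obtain ⟨u, hu⟩ : ∃ u, u = QuotientGroup.mk' ((Inn P).subgroupOf (F.autGroup P)) ⟨β, hβA⟩ :=
    ⟨_, rfl⟩
  have htT : t ∈ (T : Subgroup _) := by
    rw [hT, ht]
    exact ⟨⟨α, hαA⟩, Subgroup.mem_subgroupOf.2 hαS, rfl⟩
  have huT : u ∈ (T : Subgroup _) := by
    rw [hT, hu]
    exact ⟨⟨β, hβA⟩, Subgroup.mem_subgroupOf.2 hβS, rfl⟩
  have ht1 : t ≠ 1 := by
    intro h1
    rw [ht, QuotientGroup.mk'_apply, QuotientGroup.eq_one_iff, Subgroup.mem_subgroupOf] at h1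
    exact haP (abx_inn_mem hPS hcen' haS hα h1)
  have hu1 : u ≠ 1 := by
    intro h1
    rw [hu, QuotientGroup.mk'_apply, QuotientGroup.eq_one_iff, Subgroup.mem_subgroupOf] at h1
    exact hbP (abx_inn_mem hPS hcen' hbS hβ h1)
  have hcq : t * (q * u * q⁻¹) = q * u * q⁻¹ * t := by
    have h0 : (⟨α, hαA⟩ : F.autGroup P) * (g₀ * ⟨β, hβA⟩ * g₀⁻¹) =
        g₀ * ⟨β, hβA⟩ * g₀⁻¹ * ⟨α, hαA⟩ := Subtype.ext hcomm
    have h1 := congrArg (QuotientGroup.mk' ((Inn P).subgroupOf (F.autGroup P))) h0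
    simp only [map_mul, map_inv] at h1
    rw [ht, hu, ← hg₀]
    exact h1
  obtain ⟨s, hs⟩ : ∃ s, s = q * u * q⁻¹ := ⟨_, rfl⟩
  rw [← hs] at hcq
  have hsM : s ∈ M' := by
    apply hM' s
    refine ⟨t, htT, ht1, ?_⟩
    have e : s * t * s⁻¹ = t := by rw [← hcq]; group
    rw [e]
    exact htT
  have hTM : (T : Subgroup _) ≤ M' := by
    intro v hv
    exact hM' v ⟨t, htT, ht1,
      Subgroup.mul_mem _ (Subgroup.mul_mem _ hv htT) (Subgroup.inv_mem _ hv)⟩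
  obtain ⟨n, hn⟩ := T.isPGroup' ⟨u, huT⟩
  have hun : u ^ p ^ n = 1 := congrArg Subtype.val hn
  have hsp : s ^ p ^ n = 1 := by rw [hs, conj_pow, hun, mul_one, mul_inv_cancel]
  have hZp : IsPGroup p ↥(Subgroup.zpowers s) := isPGroup_zpowers hsp
  obtain ⟨k, hkM, hkp⟩ :=
    exists_common_pSubgroup T.isPGroup' hZp hTM ((Subgroup.zpowers_le).2 hsM)
  have hTeq := T.3 hkp le_sup_left
  have hksT : k * s * k⁻¹ ∈ (T : Subgroup _) := by
    rw [← hTeq]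
    exact Subgroup.mem_sup_right (conj_mem_map_conj k (Subgroup.mem_zpowers s))
  have hkg : k * q ∈ M' := by
    apply hM'
    refine ⟨u, huT, hu1, ?_⟩
    have e : k * q * u * (k * q)⁻¹ = k * s * k⁻¹ := by rw [hs]; group
    rw [e]
    exact hksT
  apply hq
  have e : q = k⁻¹ * (k * q) := by group
  rw [e]
  exact M'.mul_mem (M'.inv_mem hkM) hkg

/-- the centre of `S` as a subgroup of the ambient group -/
abbrev abyZ (S : Subgroup Ω) : Subgroup Ω := S ⊓ Subgroup.centralizer (S : Set Ω)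

/-- the part of the centre of `S` inside the commutator subgroup -/
abbrev abyZ0 (S : Subgroup Ω) : Subgroup Ω := abyZ S ⊓ (commutator ↥S).map S.subtype

theorem mem_abyZ {z : Ω} : z ∈ abyZ S ↔ z ∈ S ∧ ∀ s ∈ S, s * z = z * s :=
  ⟨fun h => ⟨(Subgroup.mem_inf.1 h).1, fun s hs =>
      Subgroup.mem_centralizer_iff.1 (Subgroup.mem_inf.1 h).2 s hs⟩,
    fun h => Subgroup.mem_inf.2 ⟨h.1, Subgroup.mem_centralizer_iff.2 (fun s hs => h.2 s hs)⟩⟩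

theorem aby_Z_char (α : MulAut ↥S) {s : ↥S} (hs : (s : Ω) ∈ abyZ S) :
    ((α s : ↥S) : Ω) ∈ abyZ S := by
  refine mem_abyZ.2 ⟨(α s).2, fun t ht => ?_⟩
  have h1 : α⁻¹ ⟨t, ht⟩ * s = s * α⁻¹ ⟨t, ht⟩ :=
    Subtype.ext ((mem_abyZ.1 hs).2 _ (α⁻¹ ⟨t, ht⟩).2)
  have h2 : α (α⁻¹ ⟨t, ht⟩ * s) = α (s * α⁻¹ ⟨t, ht⟩) := by rw [h1]
  rw [map_mul, map_mul, MulAut.apply_inv_self] at h2
  exact congrArg Subtype.val h2

theorem aby_comm_mem {s t : Ω} (hs : s ∈ S) (ht : t ∈ S) :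
    s * t * s⁻¹ * t⁻¹ ∈ (commutator ↥S).map S.subtype := by
  refine ⟨⁅(⟨s, hs⟩ : ↥S), ⟨t, ht⟩⁆, ?_, ?_⟩
  · rw [commutator_def]
    exact Subgroup.commutator_mem_commutator (Subgroup.mem_top _) (Subgroup.mem_top _)
  · rw [commutatorElement_def]; rfl

theorem aby_Z0_char (α : MulAut ↥S) {s : ↥S} (hs : (s : Ω) ∈ abyZ0 S) :
    ((α s : ↥S) : Ω) ∈ abyZ0 S := by
  obtain ⟨hsZ, hsC⟩ := Subgroup.mem_inf.1 hs
  refine Subgroup.mem_inf.2 ⟨aby_Z_char α hsZ, ?_⟩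
  obtain ⟨w, hw, hws⟩ := hsC
  have hws' : w = s := Subtype.ext hws
  rw [hws'] at hw
  have hchar : (commutator ↥S).Characteristic := by
    rw [commutator_def]; infer_instance
  have h1 := (Subgroup.characteristic_iff_map_eq.1 hchar) α
  refine ⟨α s, ?_, rfl⟩
  rw [← h1]
  exact ⟨s, hw, rfl⟩

/-- Every morphism of the system from `Z(S)` onto itself extends to an automorphism of `S`. -/
theorem aby_extend [Finite S] (p : ℕ) [Fact p.Prime] (hS : IsPGroup p S) (F : FusionSystem S)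
    (hF : F.IsSaturated p) (χ : ↥(abyZ S) →* Ω) (hχ : χ ∈ F.Hom (abyZ S))
    (hχZ : ∀ z, χ z ∈ abyZ S) :
    ∃ γ ∈ F.autGroup S, ∀ (z : ↥(abyZ S)) (hzS : (z : Ω) ∈ S),
      ((γ ⟨z, hzS⟩ : ↥S) : Ω) = χ z := by
  have hZS : abyZ S ≤ S := inf_le_left
  have hZfin : Finite ↥(abyZ S) := finite_of_le hZS
  have hcen : centralizerIn S (abyZ S) = S := by
    apply le_antisymm (centralizerIn_le S _)
    intro s hs
    refine mem_centralizerIn.2 ⟨hs, fun z hz => ?_⟩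
    exact ((mem_abyZ.1 hz).2 s hs).symm
  have hfc : F.IsFullyCentralized (abyZ S) := by
    refine ⟨hZS, fun Q _ => ?_⟩
    rw [hcen]
    exact Subgroup.card_le_of_le (centralizerIn_le S Q)
  have hrec := receptive_of_fullyCentralized p hS F hF hfc
  have hinj := F.injective_of_mem hχ
  have hrange : χ.range = abyZ S := by
    apply Subgroup.eq_of_le_of_card_ge
    · rintro _ ⟨z, rfl⟩
      exact hχZ z
    · exact (Nat.card_congr (MonoidHom.ofInjective hinj).toEquiv).le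
  obtain ⟨ψ, hψ, hψe⟩ := hrec.2 (abyZ S) χ hχ hrange
  have hSle : S ≤ extender S (abyZ S) χ := by
    have h1 := centralizerIn_le_extender S (abyZ S) χ
    rw [hcen] at h1
    exact h1
  obtain ⟨χ', hχ'⟩ : ∃ χ' : ↥S →* Ω, ∀ s : ↥S, χ' s = ψ ⟨s, hSle s.2⟩ :=
    ⟨ψ.comp (Subgroup.inclusion hSle), fun s => rfl⟩
  have hχ'F : χ' ∈ F.Hom S := restrict_mem F hψ hSle hχ'
  have hχ'S : ∀ s : ↥S, χ' s ∈ S := (F.le_of_mem hχ'F).2
  have hχ'inj : Function.Injective (χ'.codRestrict S hχ'S) := by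
    intro a b hab
    exact F.injective_of_mem hχ'F (congrArg Subtype.val hab)
  obtain ⟨γ, hγ⟩ : ∃ γ : MulAut ↥S, ∀ s : ↥S, ((γ s : ↥S) : Ω) = χ' s :=
    ⟨MulEquiv.ofBijective (χ'.codRestrict S hχ'S)
      ⟨hχ'inj, Finite.surjective_of_injective hχ'inj⟩, fun s => rfl⟩
  refine ⟨γ, (mem_autGroup_iff F le_rfl).2 (mem_of_eq F hχ'F (fun s => hγ s)), ?_⟩
  intro z hzS
  rw [hγ, hχ']
  exact hψe z z.2 _

/-- An automorphism in the system of a subgroup containing `Z(S)` that preserves `Z(S)` agrees on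
`Z(S)` with an automorphism of `S` in the system. -/
theorem aby_restrict [Finite S] (p : ℕ) [Fact p.Prime] (hS : IsPGroup p S) (F : FusionSystem S)
    (hF : F.IsSaturated p) {P : Subgroup Ω} (hPS : P ≤ S) (hZP : abyZ S ≤ P) {α : MulAut ↥P}
    (hα : α ∈ F.autGroup P)
    (hαZ : ∀ y : ↥P, (y : Ω) ∈ abyZ S → ((α y : ↥P) : Ω) ∈ abyZ S) :
    ∃ γ ∈ F.autGroup S, ∀ (y : ↥P) (hyS : (y : Ω) ∈ S), (y : Ω) ∈ abyZ S →
      ((γ ⟨y, hyS⟩ : ↥S) : Ω) = ((α y : ↥P) : Ω) := by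
  have hα' : P.subtype.comp α.toMonoidHom ∈ F.Hom P := (mem_autGroup_iff F hPS).1 hα
  obtain ⟨χ, hχ⟩ : ∃ χ : ↥(abyZ S) →* Ω,
      ∀ z : ↥(abyZ S), χ z = ((α ⟨z, hZP z.2⟩ : ↥P) : Ω) :=
    ⟨(P.subtype.comp α.toMonoidHom).comp (Subgroup.inclusion hZP), fun z => rfl⟩
  have hχF : χ ∈ F.Hom (abyZ S) := restrict_mem F hα' hZP (fun z => hχ z)
  obtain ⟨γ, hγ, hγe⟩ := aby_extend p hS F hF χ hχF (fun z => by rw [hχ]; exact hαZ _ z.2)
  refine ⟨γ, hγ, fun y hyS hyZ => ?_⟩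
  have h1 := hγe ⟨y, hyZ⟩ hyS
  rw [hχ] at h1
  exact h1

/-- `γ` inverts `Z(S) ∩ S'` and acts trivially on `Z(S)` modulo it. -/
def AbyInv (S : Subgroup Ω) (γ : MulAut ↥S) : Prop :=
  (∀ s : ↥S, (s : Ω) ∈ abyZ0 S → γ s = s⁻¹) ∧
    ∀ s : ↥S, (s : Ω) ∈ abyZ S → ((s⁻¹ * γ s : ↥S) : Ω) ∈ abyZ0 S

theorem aby_uniq [Finite S] (p : ℕ) [Fact p.Prime] (hS : IsPGroup p S) (F : FusionSystem S)
    (hF : F.IsSaturated p) (hcard : Nat.card ↥(abyZ0 S) = p) {γ₁ γ₂ : MulAut ↥S}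
    (h₁ : γ₁ ∈ F.autGroup S) (h₂ : γ₂ ∈ F.autGroup S) (hi₁ : AbyInv S γ₁) (hi₂ : AbyInv S γ₂)
    (s : ↥S) (hs : (s : Ω) ∈ abyZ S) : γ₁ s = γ₂ s := by
  have hp := (Fact.out : p.Prime)
  have hfn : F.IsFullyNormalized S := ⟨le_rfl, fun Q hQ => by rw [isConj_top_eq F hQ]⟩
  obtain ⟨-, -, R, hR⟩ := sat_fullyNormalized p hS F hF hfn
  obtain ⟨K, hK⟩ : ∃ K : Subgroup ↥(F.autGroup S), ∀ κ : ↥(F.autGroup S),
      κ ∈ K ↔ ∀ t : ↥S, (t : Ω) ∈ abyZ S → (κ : MulAut ↥S) t = t := by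
    refine ⟨{ carrier := {κ | ∀ t : ↥S, (t : Ω) ∈ abyZ S → (κ : MulAut ↥S) t = t}
              one_mem' := fun t _ => rfl
              mul_mem' := fun {a b} ha hb t ht => by
                show (a : MulAut ↥S) ((b : MulAut ↥S) t) = t
                rw [hb t ht, ha t ht]
              inv_mem' := fun {a} ha t ht => by
                show (a : MulAut ↥S)⁻¹ t = t
                have h1 : (a : MulAut ↥S)⁻¹ ((a : MulAut ↥S) t) = t :=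
                  MulAut.inv_apply_self _ _ t
                rw [ha t ht] at h1
                exact h1 }, fun κ => Iff.rfl⟩
  have hKn : K.Normal := by
    refine ⟨fun κ hκ α => (hK _).2 (fun t ht => ?_)⟩
    show (α : MulAut ↥S) ((κ : MulAut ↥S) ((α : MulAut ↥S)⁻¹ t)) = t
    rw [(hK κ).1 hκ _ (aby_Z_char _ ht), MulAut.apply_inv_self]
  have hRK : (R : Subgroup ↥(F.autGroup S)) ≤ K := by
    intro κ hκ
    rw [hR, Subgroup.mem_subgroupOf] at hκ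
    obtain ⟨a, haS, ha⟩ := mem_autInducedBy_iff.1 hκ
    refine (hK κ).2 (fun t ht => Subtype.ext ?_)
    rw [ha t, (mem_abyZ.1 ht).2 a haS]
    group
  have hnd : ¬ p ∣ K.index := fun hdvd =>
    R.not_dvd_index (dvd_trans hdvd (Subgroup.index_dvd_of_le hRK))
  obtain ⟨β, hβdef⟩ : ∃ β : MulAut ↥S, β = γ₁⁻¹ * γ₂ := ⟨_, rfl⟩
  have hβF : β ∈ F.autGroup S := by
    rw [hβdef]; exact Subgroup.mul_mem _ (Subgroup.inv_mem _ h₁) h₂
  have hinv₁ : ∀ c : ↥S, (c : Ω) ∈ abyZ0 S → γ₁⁻¹ c = c⁻¹ := by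
    intro c hc
    have h1 : γ₁ c⁻¹ = c := by
      rw [map_inv, hi₁.1 c hc, inv_inv]
    have h2 : γ₁⁻¹ (γ₁ c⁻¹) = γ₁⁻¹ c := by rw [h1]
    rw [MulAut.inv_apply_self] at h2
    exact h2.symm
  have hβc : ∀ c : ↥S, (c : Ω) ∈ abyZ0 S → β c = c := by
    intro c hc
    rw [hβdef]
    show γ₁⁻¹ (γ₂ c) = c
    rw [hi₂.1 c hc, map_inv, hinv₁ c hc, inv_inv]
  have hβd : ∀ t : ↥S, (t : Ω) ∈ abyZ S → ((t⁻¹ * β t : ↥S) : Ω) ∈ abyZ0 S := by
    intro t ht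
    obtain ⟨θ₁, hθ₁⟩ : ∃ θ₁ : ↥S, θ₁ = t⁻¹ * γ₁ t := ⟨_, rfl⟩
    obtain ⟨θ₂, hθ₂⟩ : ∃ θ₂ : ↥S, θ₂ = t⁻¹ * γ₂ t := ⟨_, rfl⟩
    have hθ₁Z : (θ₁ : Ω) ∈ abyZ0 S := by rw [hθ₁]; exact hi₁.2 t ht
    have hθ₂Z : (θ₂ : Ω) ∈ abyZ0 S := by rw [hθ₂]; exact hi₂.2 t ht
    have hγ₁t : γ₁ t = t * θ₁ := by rw [hθ₁]; group
    have hγ₂t : γ₂ t = t * θ₂ := by rw [hθ₂]; group
    have hγ₁it : γ₁⁻¹ t = t * θ₁ := by
      have h1 : γ₁⁻¹ (γ₁ t) = γ₁⁻¹ t * θ₁⁻¹ := by rw [hγ₁t, map_mul, hinv₁ θ₁ hθ₁Z]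
      rw [MulAut.inv_apply_self] at h1
      calc γ₁⁻¹ t = (γ₁⁻¹ t * θ₁⁻¹) * θ₁ := by group
        _ = t * θ₁ := by rw [← h1]
    have e : t⁻¹ * β t = θ₁ * θ₂⁻¹ := by
      rw [hβdef]
      show t⁻¹ * γ₁⁻¹ (γ₂ t) = θ₁ * θ₂⁻¹
      rw [hγ₂t, map_mul, hγ₁it, hinv₁ θ₂ hθ₂Z]
      group
    rw [e]
    exact Subgroup.mul_mem _ hθ₁Z (Subgroup.inv_mem _ hθ₂Z)
  have hβt : β s = s := by
    obtain ⟨θ, hθ⟩ : ∃ θ : ↥S, θ = s⁻¹ * β s := ⟨_, rfl⟩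
    have hθZ : (θ : Ω) ∈ abyZ0 S := by rw [hθ]; exact hβd s hs
    have hβs : β s = s * θ := by rw [hθ]; group
    have hβθ : β θ = θ := hβc θ hθZ
    have hpow : ((⟨β, hβF⟩ : ↥(F.autGroup S)) ^ K.index) ∈ K := Subgroup.pow_index_mem K _
    have h1 : (β ^ K.index) s = s := by
      have h2 := (hK _).1 hpow s hs
      rw [Subgroup.coe_pow] at h2
      exact h2
    rw [aby_pow_apply β hβs hβθ] at h1
    have h3 : θ ^ K.index = 1 := mul_left_cancel (h1.trans (mul_one s).symm)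
    have h4 : θ ^ p = 1 := by
      have h5 : (⟨(θ : Ω), hθZ⟩ : ↥(abyZ0 S)) ^ p = 1 := by
        rw [← hcard]; exact pow_card_eq_one'
      have h6 : (θ : Ω) ^ p = 1 := congrArg Subtype.val h5
      exact Subtype.ext h6
    have h7 : θ ^ (K.index.gcd p) = 1 := pow_gcd_eq_one.2 ⟨h3, h4⟩
    have hcop : K.index.gcd p = 1 := by
      rw [Nat.gcd_comm]
      exact (Nat.Prime.coprime_iff_not_dvd hp).2 hnd
    rw [hcop, pow_one] at h7
    rw [hβs, h7, mul_one]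
  have h8 : γ₁ (β s) = γ₂ s := by
    rw [hβdef]
    show γ₁ (γ₁⁻¹ (γ₂ s)) = γ₂ s
    exact MulAut.apply_inv_self _ γ₁ _
  rw [hβt] at h8
  exact h8

/-- the fixed points of `γ` on `Z(S)` -/
def abyQ (γ : MulAut ↥S) : Subgroup Ω :=
  Subgroup.map S.subtype
    { carrier := {s : ↥S | (s : Ω) ∈ abyZ S ∧ γ s = s}
      one_mem' := ⟨Subgroup.one_mem _, map_one γ⟩
      mul_mem' := fun {a b} ha hb => ⟨Subgroup.mul_mem _ ha.1 hb.1, by
        show γ (a * b) = a * b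
        rw [map_mul, ha.2, hb.2]⟩
      inv_mem' := fun {a} ha => ⟨Subgroup.inv_mem _ ha.1, by
        show γ a⁻¹ = a⁻¹
        rw [map_inv, ha.2]⟩ }

theorem mem_abyQ {γ : MulAut ↥S} {z : Ω} :
    z ∈ abyQ γ ↔ z ∈ abyZ S ∧ ∃ hz : z ∈ S, γ ⟨z, hz⟩ = ⟨z, hz⟩ := by
  constructor
  · rintro ⟨s, ⟨hs1, hs2⟩, rfl⟩
    exact ⟨hs1, s.2, hs2⟩
  · rintro ⟨hz1, hz, hz2⟩
    exact ⟨⟨z, hz⟩, ⟨hz1, hz2⟩, rfl⟩

theorem aby_nonab_inv (h : AbxSetup S A P p) {x : Ω} (hxP : x ∈ P) (hxA : x ∉ A)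
    (hPna : ¬ ∀ y y' : ↥P, y * y' = y' * y) (α : MulAut ↥P) (y : ↥P)
    (hy : (y : Ω) ∈ abyZ S) : ((α y : ↥P) : Ω) ∈ abyZ S := by
  have hcentral : ∀ y' : ↥P, y' * α y = α y * y' := by
    intro y'
    have h1 : α⁻¹ y' * y = y * α⁻¹ y' :=
      Subtype.ext ((mem_abyZ.1 hy).2 _ (h.hPS (α⁻¹ y').2))
    have h2 : α (α⁻¹ y' * y) = α (y * α⁻¹ y') := by rw [h1]
    rw [map_mul, map_mul, MulAut.apply_inv_self] at h2
    exact h2
  obtain ⟨-, hc⟩ := abx_center_P h hxP hxA hPna (α y) hcentral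
  exact mem_abyZ.2 ⟨h.hPS (α y).2, hc⟩

theorem aby_map_eq {P : Subgroup Ω} [Finite ↥P] (Q : Subgroup Ω) (α : MulAut ↥P)
    (h : ∀ y : ↥P, (y : Ω) ∈ Q → ((α y : ↥P) : Ω) ∈ Q) :
    (Q.subgroupOf P).map α.toMonoidHom = Q.subgroupOf P := by
  have hle : (Q.subgroupOf P).map α.toMonoidHom ≤ Q.subgroupOf P := by
    rintro _ ⟨v, hv, rfl⟩
    exact Subgroup.mem_subgroupOf.2 (h v (Subgroup.mem_subgroupOf.1 hv))
  exact Subgroup.eq_of_le_of_card_ge hle (Subgroup.card_map_of_injective α.injective).ge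

/-- The structure around an abelian essential subgroup `P ≠ A`. -/
theorem aby_ab_main [Finite S] (p : ℕ) [Fact p.Prime] (hS : IsPGroup p S) (F : FusionSystem S)
    (hF : F.IsSaturated p) (hp2 : p ≠ 2) (A : Subgroup Ω)
    (hA : A ≤ S ∧ IsMulCommutative ↥A ∧ (A.subgroupOf S).index = p)
    (hcard : Nat.card ↥(abyZ0 S) = p)
    {P : Subgroup Ω} (hP : F.IsEssential p P) (hPA : P ≠ A)
    (hPab : ∀ y y' : ↥P, y * y' = y' * y) :
    ∃ γ ∈ F.autGroup S, AbyInv S γ ∧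
      (∀ α ∈ F.autGroup P, ∀ y : ↥P, (y : Ω) ∈ abyQ γ → ((α y : ↥P) : Ω) ∈ abyQ γ) ∧
      (∀ z ∈ abyZ S, ∃ z₀ ∈ abyZ0 S, ∃ d ∈ abyQ γ, z = d * z₀) ∧
      ∃ x ∈ S, x ∉ A ∧ P = abyZ S ⊔ Subgroup.zpowers x := by
  have hpr := (Fact.out : p.Prime)
  have hPS : P ≤ S := hP.2.1.1
  have hPfin : Finite ↥P := finite_of_le hPS
  have hcen : centralizerIn S P ≤ P := hP.1.2 P (isConj_refl F hPS)
  have h := abx_setup hS hPS hA hcen
  have hPnA : ¬ P ≤ A := fun hPA' => hPA (le_antisymm hPA'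
    (fun a ha => h.cen a (h.hAS ha) (fun y hy => h.comm _ (hPA' hy) _ ha)))
  obtain ⟨x, hxP, hxA⟩ := SetLike.not_le_iff_exists.1 hPnA
  have hxS := hPS hxP
  obtain ⟨g, hgG, hK⟩ := aby_fusK p hS F hF hP
  have hne : P ≠ S := abx_ne_top p hS F hF hP
  have hE := exists_normalizing_not_mem hS hPS hne
  have hE' := abx_E' h hxP hxA hE
  obtain ⟨a₁, ha₁A, ha₁N, ha₁P, ha₁p, hgen⟩ := abx_star h g hK hE'
  have ha₁S := h.hAS ha₁A
  have hZP : abyZ S ≤ P := abx_Z_le_P h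
  have hPAZ : ∀ y ∈ P, y ∈ A → y ∈ abyZ S := by
    intro y hyP hyA
    refine Subgroup.mem_inf.2 ⟨h.hPS hyP, Subgroup.mem_centralizer_iff.2 ?_⟩
    exact abx_central h hxS hxA hyA (congrArg Subtype.val (hPab ⟨y, hyP⟩ ⟨x, hxP⟩))
  have hPeq : P = abyZ S ⊔ Subgroup.zpowers x := by
    apply le_antisymm
    · intro y hy
      obtain ⟨k, hk⟩ := h.gen x hxS hxA y (hPS hy)
      have e : y = y * (x ^ k)⁻¹ * x ^ k := by group
      rw [e]
      exact Subgroup.mul_mem_sup (hPAZ _ (P.mul_mem hy (P.inv_mem (P.zpow_mem hxP k))) hk)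
        (Subgroup.zpow_mem_zpowers x k)
    · exact sup_le hZP ((Subgroup.zpowers_le).2 hxP)
  obtain ⟨τ, hτdef⟩ : ∃ τ : MulAut ↥P, τ = P.normalizerMonoidHom ⟨a₁, ha₁N⟩ := ⟨_, rfl⟩
  have hτ : ∀ y : ↥P, ((τ y : ↥P) : Ω) = a₁ * y * a₁⁻¹ := fun y => by rw [hτdef]; rfl
  have hτS : τ ∈ autInducedBy S P := mem_autInducedBy_iff.2 ⟨a₁, ha₁S, hτ⟩
  have hτG : τ ∈ F.autGroup P := autInducedBy_le_autGroup F hPS hτS
  have hfixZ : ∀ y : ↥P, τ y = y ↔ (y : Ω) ∈ abyZ S := by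
    intro y
    constructor
    · intro hy
      have h1 : a₁ * y * a₁⁻¹ = y := (hτ y).symm.trans (congrArg Subtype.val hy)
      have h2 : a₁ * (y : Ω) = y * a₁ := by
        calc a₁ * (y : Ω) = (a₁ * y * a₁⁻¹) * a₁ := by group
          _ = y * a₁ := by rw [h1]
      by_cases hyA : (y : Ω) ∈ A
      · exact hPAZ _ y.2 hyA
      · exfalso
        apply ha₁P
        apply hZP
        refine Subgroup.mem_inf.2 ⟨ha₁S, Subgroup.mem_centralizer_iff.2 ?_⟩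
        exact abx_central h (hPS y.2) hyA ha₁A h2
    · intro hy
      apply Subtype.ext
      rw [hτ, (mem_abyZ.1 hy).2 a₁ ha₁S]
      group
  obtain ⟨Z₀', hZ₀'⟩ : ∃ Z₀' : Subgroup ↥P, Z₀' = (abyZ0 S).subgroupOf P := ⟨_, rfl⟩
  have hZ₀P : abyZ0 S ≤ P := inf_le_left.trans hZP
  have hmemZ₀' : ∀ y : ↥P, y ∈ Z₀' ↔ (y : Ω) ∈ abyZ0 S := fun y => by
    rw [hZ₀', Subgroup.mem_subgroupOf]
  have hcard' : Nat.card ↥Z₀' = p := by
    rw [hZ₀', ← hcard]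
    exact Nat.card_congr (Subgroup.subgroupOfEquivOfLe hZ₀P).toEquiv
  have hdisp : ∀ y : ↥P, y⁻¹ * τ y ∈ Z₀' := by
    intro y
    rw [hmemZ₀']
    have hval : ((y⁻¹ * τ y : ↥P) : Ω) = (y : Ω)⁻¹ * a₁ * (y : Ω)⁻¹⁻¹ * a₁⁻¹ := by
      show (y : Ω)⁻¹ * ((τ y : ↥P) : Ω) = _
      rw [hτ]; group
    refine Subgroup.mem_inf.2 ⟨?_, ?_⟩
    · apply hPAZ _ (y⁻¹ * τ y).2
      rw [hval]
      exact A.mul_mem (h.norm _ (S.inv_mem (hPS y.2)) _ ha₁A) (A.inv_mem ha₁A)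
    · rw [hval]
      exact aby_comm_mem (S.inv_mem (hPS y.2)) ha₁S
  have hfix : ∀ c ∈ Z₀', τ c = c := fun c hc =>
    (hfixZ c).2 (Subgroup.mem_inf.1 ((hmemZ₀' c).1 hc)).1
  have hτk : ∀ (k : ℤ) (y : ↥P), (((τ ^ k) y : ↥P) : Ω) = a₁ ^ k * y * (a₁ ^ k)⁻¹ := by
    intro k y
    have e : τ ^ k = P.normalizerMonoidHom (⟨a₁, ha₁N⟩ ^ k) := by rw [hτdef, map_zpow]
    rw [e]
    have e2 : ((P.normalizerMonoidHom
        ((⟨a₁, ha₁N⟩ : ↥(Subgroup.normalizer (P : Set Ω))) ^ k) y : ↥P) : Ω) =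
        (((⟨a₁, ha₁N⟩ : ↥(Subgroup.normalizer (P : Set Ω))) ^ k :
          ↥(Subgroup.normalizer (P : Set Ω))) : Ω) * y *
        (((⟨a₁, ha₁N⟩ : ↥(Subgroup.normalizer (P : Set Ω))) ^ k :
          ↥(Subgroup.normalizer (P : Set Ω))) : Ω)⁻¹ := rfl
    rw [e2, Subgroup.coe_zpow]
  have hcyc : autInducedBy S P ≤ Subgroup.zpowers τ := by
    intro α hα
    obtain ⟨n, hnS, hn⟩ := mem_autInducedBy_iff.1 hα
    have hnN : n ∈ Subgroup.normalizer (P : Set Ω) := by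
      apply Subgroup.mem_normalizer_fintype
      intro y hy
      have h1 := (α ⟨y, hy⟩).2
      rw [hn] at h1
      exact h1
    obtain ⟨j, hj⟩ := h.gen x hxS hxA n hnS
    have hxN : x ∈ Subgroup.normalizer (P : Set Ω) := Subgroup.le_normalizer hxP
    obtain ⟨k, hk⟩ := hgen _ hj
      (Subgroup.mul_mem _ hnN (Subgroup.inv_mem _ (Subgroup.zpow_mem _ hxN j)))
    have hq : (a₁ ^ k)⁻¹ * n ∈ P := by
      have e : (a₁ ^ k)⁻¹ * n = (a₁ ^ k)⁻¹ * (n * (x ^ j)⁻¹) * x ^ j := by group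
      rw [e]
      exact P.mul_mem hk (P.zpow_mem hxP j)
    refine Subgroup.mem_zpowers_iff.2 ⟨k, ?_⟩
    refine MulEquiv.ext (fun y => Subtype.ext ?_)
    rw [hτk, hn]
    have hqy : ((a₁ ^ k)⁻¹ * n) * (y : Ω) = y * ((a₁ ^ k)⁻¹ * n) :=
      congrArg Subtype.val (hPab ⟨_, hq⟩ y)
    calc a₁ ^ k * (y : Ω) * (a₁ ^ k)⁻¹ = a₁ ^ k * (y * ((a₁ ^ k)⁻¹ * n)) * n⁻¹ := by group
      _ = a₁ ^ k * (((a₁ ^ k)⁻¹ * n) * y) * n⁻¹ := by rw [hqy]
      _ = n * y * n⁻¹ := by group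
  obtain ⟨hfc, hfa⟩ := sat_fullyNormalized p hS F hF hP.2.1
  obtain ⟨R, hR⟩ := hfa.2
  have hsyl : ∀ X : Subgroup (MulAut ↥P), X ≤ F.autGroup P →
      (∀ γ ∈ X, ∃ k : ℕ, γ ^ p ^ k = 1) → τ ∈ X → X ≤ Subgroup.zpowers τ := by
    intro X hXG hXp hτX γ hγ
    have hRX : (R : Subgroup ↥(F.autGroup P)) ≤ X.subgroupOf (F.autGroup P) := by
      intro κ hκ
      rw [hR, Subgroup.mem_subgroupOf] at hκ
      rw [Subgroup.mem_subgroupOf]
      exact ((Subgroup.zpowers_le).2 hτX) (hcyc hκ)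
    have hXp' : IsPGroup p ↥(X.subgroupOf (F.autGroup P)) := by
      rintro ⟨κ, hκ⟩
      obtain ⟨k, hk⟩ := hXp _ (Subgroup.mem_subgroupOf.1 hκ)
      have e2 : κ ^ p ^ k = 1 := Subtype.ext (by rw [Subgroup.coe_pow, hk]; rfl)
      exact ⟨k, Subtype.ext (by rw [Subgroup.coe_pow]; exact e2)⟩
    have hXR := R.3 hXp' hRX
    have hγR : (⟨γ, hXG hγ⟩ : ↥(F.autGroup P)) ∈ (R : Subgroup ↥(F.autGroup P)) := by
      rw [← hXR]
      exact Subgroup.mem_subgroupOf.2 hγ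
    rw [hR, Subgroup.mem_subgroupOf] at hγR
    exact hcyc hγR
  have hnc : τ * (g * τ * g⁻¹) ≠ g * τ * g⁻¹ * τ :=
    hK τ τ ⟨a₁, ha₁S, ha₁P, hτ⟩ ⟨a₁, ha₁S, ha₁P, hτ⟩
  have hyp : AbyHyp p (F.autGroup P) Z₀' τ g :=
    ⟨hPab, hS.to_le hPS, hcard', hτG, hgG, hdisp, hfix, hsyl, hnc⟩
  obtain ⟨δ, hδG, hδinv, hδfix⟩ := aby_delta hyp
  have hδZ : ∀ y : ↥P, (y : Ω) ∈ abyZ S → ((δ y : ↥P) : Ω) ∈ abyZ S := by
    intro y hy
    obtain ⟨z, hz, d, hd1, hd2, hyd⟩ := aby_fix_decomp hyp y ((hfixZ y).2 hy)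
    rw [hyd, map_mul, hδfix d hd1 hd2, hδinv z hz]
    exact Subgroup.mul_mem _ ((hfixZ d).1 hd1)
      (Subgroup.inv_mem _ (Subgroup.mem_inf.1 ((hmemZ₀' z).1 hz)).1)
  obtain ⟨γ, hγF, hγe⟩ := aby_restrict p hS F hF hPS hZP hδG hδZ
  have hγe' : ∀ (s : ↥S) (hsZ : (s : Ω) ∈ abyZ S),
      ((γ s : ↥S) : Ω) = ((δ ⟨s, hZP hsZ⟩ : ↥P) : Ω) :=
    fun s hsZ => hγe ⟨s, hZP hsZ⟩ s.2 hsZ
  have hinvγ : AbyInv S γ := by
    constructor
    · intro s hs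
      have hsZ : (s : Ω) ∈ abyZ S := (Subgroup.mem_inf.1 hs).1
      apply Subtype.ext
      rw [hγe' s hsZ, hδinv ⟨s, hZP hsZ⟩ ((hmemZ₀' _).2 hs)]
      rfl
    · intro s hsZ
      obtain ⟨z, hz, d, hd1, hd2, hyd⟩ :=
        aby_fix_decomp hyp ⟨s, hZP hsZ⟩ ((hfixZ _).2 hsZ)
      have h1 : ((δ ⟨s, hZP hsZ⟩ : ↥P) : Ω) = (d : Ω) * (z : Ω)⁻¹ := by
        rw [hyd, map_mul, hδfix d hd1 hd2, hδinv z hz]
        rfl
      have h2 : (s : Ω) = (d : Ω) * z := congrArg Subtype.val hyd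
      show (s : Ω)⁻¹ * ((γ s : ↥S) : Ω) ∈ abyZ0 S
      rw [hγe' s hsZ, h1, h2]
      have e : ((d : Ω) * z)⁻¹ * (d * (z : Ω)⁻¹) = (z : Ω)⁻¹ * (z : Ω)⁻¹ := by group
      rw [e]
      have hzZ₀ := (hmemZ₀' z).1 hz
      exact Subgroup.mul_mem _ (Subgroup.inv_mem _ hzZ₀) (Subgroup.inv_mem _ hzZ₀)
  have hQiff : ∀ y : ↥P, (y : Ω) ∈ abyQ γ ↔ (τ y = y ∧ (g * τ * g⁻¹) y = y) := by
    intro y
    rw [mem_abyQ]
    constructor
    · rintro ⟨hyZ, hyS, hγy⟩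
      obtain ⟨z, hz, d, hd1, hd2, hyd⟩ := aby_fix_decomp hyp y ((hfixZ y).2 hyZ)
      have h1 : ((δ y : ↥P) : Ω) = (y : Ω) := by
        rw [← hγe y hyS hyZ, hγy]
      have h2 : δ y = y := Subtype.ext h1
      rw [hyd, map_mul, hδfix d hd1 hd2, hδinv z hz] at h2
      have h3 : z⁻¹ = z := mul_left_cancel h2
      have h4 : z ^ 2 = 1 := by
        rw [pow_two]
        calc z * z = z⁻¹ * z := by rw [h3]
          _ = 1 := inv_mul_cancel z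
      have h5 : z ^ p = 1 := by
        have h6 : (⟨z, hz⟩ : ↥Z₀') ^ p = 1 := by
          rw [← hcard']; exact pow_card_eq_one'
        exact congrArg Subtype.val h6
      have h7 : z ^ (Nat.gcd 2 p) = 1 := pow_gcd_eq_one.2 ⟨h4, h5⟩
      have hcop : Nat.gcd 2 p = 1 :=
        (Nat.coprime_primes Nat.prime_two hpr).2 (Ne.symm hp2)
      rw [hcop, pow_one] at h7
      rw [hyd, h7, mul_one]
      exact ⟨hd1, hd2⟩
    · rintro ⟨hy1, hy2⟩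
      have hyZ := (hfixZ y).1 hy1
      refine ⟨hyZ, hPS y.2, Subtype.ext ?_⟩
      rw [hγe y (hPS y.2) hyZ, hδfix y hy1 hy2]
  refine ⟨γ, hγF, hinvγ, ?_, ?_, x, hxS, hxA, hPeq⟩
  · intro α hα y hy
    obtain ⟨hy1, hy2⟩ := (hQiff y).1 hy
    exact (hQiff (α y)).2 (aby_inv hyp hα hy1 hy2)
  · intro z hz
    obtain ⟨z₀, hz₀, d, hd1, hd2, hyd⟩ :=
      aby_fix_decomp hyp ⟨z, hZP hz⟩ ((hfixZ _).2 hz)
    exact ⟨z₀, (hmemZ₀' z₀).1 hz₀, d, (hQiff d).2 ⟨hd1, hd2⟩, congrArg Subtype.val hyd⟩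

/-- Reduced saturated fusion systems over a nonabelian `p`-group (`p` odd) with a unique abelian
subgroup `A` of index `p` which is not essential. -/
theorem aby_main [Finite S] (p : ℕ) [Fact p.Prime] (hS : IsPGroup p S)
    (F : Cfsg.FusionSystem S) (hF : F.IsSaturated p) (hp : p ≠ 2) (hna : ¬ IsMulCommutative ↥S)
    (A : Subgroup Ω) (hA : A ≤ S ∧ IsMulCommutative ↥A ∧ (A.subgroupOf S).index = p)
    (huniq : ∀ B : Subgroup Ω, B ≤ S → IsMulCommutative ↥B → (B.subgroupOf S).index = p →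
      B = A)
    (hcore : F.core = ⊥) (hAe : ¬ F.IsEssential p A) :
    (∃ x ∈ S, x ∉ A ∧
      F.IsEssential p ((S ⊓ Subgroup.centralizer (S : Set Ω)) ⊔ Subgroup.zpowers x)) ∧
    (S ⊓ Subgroup.centralizer (S : Set Ω)) ≤ (commutator ↥S).map S.subtype ∧
    ∀ n : ℕ, Nat.card S = p ^ n → 3 ≤ n → Subgroup.lowerCentralSeries S (n - 2) ≠ ⊥ := by
  have hpr := (Fact.out : p.Prime)
  have hZne : ∃ z ∈ abyZ S, z ≠ 1 := by
    haveI : Nontrivial ↥S := by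
      by_contra hnt
      rw [not_nontrivial_iff_subsingleton] at hnt
      exact hna (isMulCommutative_iff.2 (fun a b => Subsingleton.elim _ _))
    haveI := hS.center_nontrivial
    obtain ⟨c, hc⟩ := exists_ne (1 : ↥(Subgroup.center ↥S))
    refine ⟨((c : ↥S) : Ω), mem_abyZ.2 ⟨(c : ↥S).2, fun s hs => ?_⟩,
      fun h1 => hc (Subtype.ext (Subtype.ext h1))⟩
    have h2 := Subgroup.mem_center_iff.1 c.2 ⟨s, hs⟩
    exact congrArg Subtype.val h2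
  have hnormal_bot : ∀ Q : Subgroup Ω, F.IsNormal Q → Q = ⊥ := by
    intro Q hQ
    have h1 : Q ≤ F.core := le_sSup hQ
    rw [hcore] at h1
    exact le_bot_iff.1 h1
  have hess : ∀ P : Subgroup Ω, F.IsEssential p P →
      ∃ x, x ∈ P ∧ x ∉ A ∧ AbxSetup S A P p := by
    intro P hP
    have hPS : P ≤ S := hP.2.1.1
    have hcen : centralizerIn S P ≤ P := hP.1.2 P (isConj_refl F hPS)
    have h := abx_setup hS hPS hA hcen
    have hPA : P ≠ A := fun hPA => hAe (hPA ▸ hP)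
    have hPnA : ¬ P ≤ A := fun hPA' => hPA (le_antisymm hPA'
      (fun a ha => h.cen a (h.hAS ha) (fun y hy => h.comm _ (hPA' hy) _ ha)))
    obtain ⟨x, hxP, hxA⟩ := SetLike.not_le_iff_exists.1 hPnA
    exact ⟨x, hxP, hxA, h⟩
  have hexab : ∃ P₁ : Subgroup Ω, F.IsEssential p P₁ ∧ ∀ y y' : ↥P₁, y * y' = y' * y := by
    by_contra hno
    have hno' : ∀ P₁ : Subgroup Ω, F.IsEssential p P₁ → ¬ ∀ y y' : ↥P₁, y * y' = y' * y :=
      fun P₁ hP₁ hab => hno ⟨P₁, hP₁, hab⟩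
    have hZn : F.IsNormal (abyZ S) := by
      apply normal_of_invariant p hS F hF
      intro P hPc
      rcases hPc with hPS | hP
      · rw [hPS]
        exact ⟨inf_le_left, fun α _ => aby_map_eq _ α (fun y hy => aby_Z_char α hy)⟩
      · obtain ⟨x, hxP, hxA, h⟩ := hess P hP
        haveI : Finite ↥P := finite_of_le h.hPS
        exact ⟨abx_Z_le_P h, fun α _ => aby_map_eq _ α
          (fun y hy => aby_nonab_inv h hxP hxA (hno' P hP) α y hy)⟩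
    have hZbot := hnormal_bot _ hZn
    obtain ⟨z, hz, hz1⟩ := hZne
    rw [hZbot] at hz
    exact hz1 (Subgroup.mem_bot.1 hz)
  obtain ⟨P₁, hP₁, hP₁ab⟩ := hexab
  have hP₁A : P₁ ≠ A := fun hPA => hAe (hPA ▸ hP₁)
  obtain ⟨hVA, hcard, -, -, hmax⟩ := abx_main2 p hS F hF A hA huniq P₁ hP₁ hP₁A
  obtain ⟨γ₁, hγ₁F, hγ₁inv, -, hdec, x₁, hx₁S, hx₁A, hP₁eq⟩ :=
    aby_ab_main p hS F hF hp A hA hcard hP₁ hP₁A hP₁ab
  have hSinv : ∀ α ∈ F.autGroup S, ∀ y : ↥S, (y : Ω) ∈ abyQ γ₁ →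
      ((α y : ↥S) : Ω) ∈ abyQ γ₁ := by
    intro α hα y hy
    obtain ⟨hyZ, hyS, hγy⟩ := mem_abyQ.1 hy
    have hγy' : γ₁ y = y := hγy
    have hαyZ := aby_Z_char α hyZ
    refine mem_abyQ.2 ⟨hαyZ, (α y).2, ?_⟩
    show γ₁ (α y) = α y
    obtain ⟨γ', hγ'⟩ : ∃ γ' : MulAut ↥S, γ' = α⁻¹ * γ₁ * α := ⟨_, rfl⟩
    have hγ'F : γ' ∈ F.autGroup S := by
      rw [hγ']
      exact Subgroup.mul_mem _ (Subgroup.mul_mem _ (Subgroup.inv_mem _ hα) hγ₁F) hα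
    have hγ'inv : AbyInv S γ' := by
      constructor
      · intro c hc
        rw [hγ']
        show α⁻¹ (γ₁ (α c)) = c⁻¹
        rw [hγ₁inv.1 _ (aby_Z0_char α hc), map_inv, MulAut.inv_apply_self]
      · intro t ht
        have h1 := hγ₁inv.2 (α t) (aby_Z_char α ht)
        have h2 := aby_Z0_char α⁻¹ h1
        have e : α⁻¹ ((α t)⁻¹ * γ₁ (α t)) = t⁻¹ * γ' t := by
          rw [hγ', map_mul, map_inv, MulAut.inv_apply_self]
          rfl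
        rw [e] at h2
        exact h2
    have h3 := aby_uniq p hS F hF hcard hγ'F hγ₁F hγ'inv hγ₁inv y hyZ
    rw [hγy', hγ'] at h3
    have h4 : α⁻¹ (γ₁ (α y)) = y := h3
    have h5 : α (α⁻¹ (γ₁ (α y))) = α y := by rw [h4]
    rw [MulAut.apply_inv_self] at h5
    exact h5
  have hQZ : abyQ γ₁ ≤ abyZ S := fun z hz => (mem_abyQ.1 hz).1
  have hQn : F.IsNormal (abyQ γ₁) := by
    apply normal_of_invariant p hS F hF
    intro P hPc
    rcases hPc with hPS | hP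
    · rw [hPS]
      exact ⟨hQZ.trans inf_le_left, fun α hα => aby_map_eq _ α (hSinv α hα)⟩
    · obtain ⟨x, hxP, hxA, h⟩ := hess P hP
      haveI : Finite ↥P := finite_of_le h.hPS
      have hZP : abyZ S ≤ P := abx_Z_le_P h
      refine ⟨hQZ.trans hZP, fun α hα => aby_map_eq _ α ?_⟩
      by_cases hPab : ∀ y y' : ↥P, y * y' = y' * y
      · have hPA : P ≠ A := fun hPA => hAe (hPA ▸ hP)
        obtain ⟨γ, hγF, hγinv, hinv, -, -⟩ :=
          aby_ab_main p hS F hF hp A hA hcard hP hPA hPab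
        have hQeq : ∀ z : Ω, z ∈ abyQ γ ↔ z ∈ abyQ γ₁ := by
          intro z
          rw [mem_abyQ, mem_abyQ]
          constructor
          · rintro ⟨hzZ, hzS, hz⟩
            exact ⟨hzZ, hzS,
              (aby_uniq p hS F hF hcard hγ₁F hγF hγ₁inv hγinv ⟨z, hzS⟩ hzZ).trans hz⟩
          · rintro ⟨hzZ, hzS, hz⟩
            exact ⟨hzZ, hzS,
              (aby_uniq p hS F hF hcard hγF hγ₁F hγinv hγ₁inv ⟨z, hzS⟩ hzZ).trans hz⟩
        intro y hy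
        exact (hQeq _).1 (hinv α hα y ((hQeq _).2 hy))
      · intro y hy
        have hyZ : (y : Ω) ∈ abyZ S := hQZ hy
        obtain ⟨γ, hγF, hγe⟩ := aby_restrict p hS F hF h.hPS hZP hα
          (fun y' hy' => aby_nonab_inv h hxP hxA hPab α y' hy')
        have h1 := hSinv γ hγF ⟨y, h.hPS y.2⟩ hy
        rw [hγe y (h.hPS y.2) hyZ] at h1
        exact h1
  have hQbot := hnormal_bot _ hQn
  have hZle : abyZ S ≤ abyZ0 S := by
    intro z hz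
    obtain ⟨z₀, hz₀, d, hd, hzd⟩ := hdec z hz
    rw [hQbot, Subgroup.mem_bot] at hd
    rw [hzd, hd, one_mul]
    exact hz₀
  refine ⟨⟨x₁, hx₁S, hx₁A, hP₁eq ▸ hP₁⟩, hZle.trans inf_le_right, ?_⟩
  intro n hn h3
  have hcardZ : Nat.card ↥(abyZ S) = p := by
    have hZeq : abyZ S = abyZ0 S := le_antisymm hZle inf_le_left
    have h1 : Nat.card ↥(abyZ S) = Nat.card ↥(abyZ0 S) := congrArg (fun K : Subgroup Ω => Nat.card ↥K) hZeq
    exact h1.trans hcard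
  have hidx : ((abyZ S).subgroupOf S).index = p ^ (n - 1) := by
    have h1 := Subgroup.card_mul_index ((abyZ S).subgroupOf S)
    have h2 : Nat.card ↥((abyZ S).subgroupOf S) = p :=
      (Nat.card_congr (Subgroup.subgroupOfEquivOfLe (inf_le_left : abyZ S ≤ S)).toEquiv).trans
        hcardZ
    rw [h2, hn] at h1
    have h4 : p ^ n = p * p ^ (n - 1) := by
      rw [← pow_succ']
      congr 1
      omega
    rw [h4] at h1
    exact Nat.eq_of_mul_eq_mul_left hpr.pos h1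
  by_cases hn3 : n = 3
  · rw [hn3]
    intro hbot
    have e1 : Subgroup.lowerCentralSeries S 1 = ⁅S, S⁆ := by
      have h5 := Subgroup.lowerCentralSeries_succ S 0
      rw [Subgroup.lowerCentralSeries_zero] at h5
      exact h5
    have hbot' : Subgroup.lowerCentralSeries S 1 = ⊥ := hbot
    rw [e1] at hbot'
    apply hna
    rw [isMulCommutative_iff]
    intro a b
    have h5 : ⁅(a : Ω), (b : Ω)⁆ ∈ ⁅S, S⁆ := Subgroup.commutator_mem_commutator a.2 b.2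
    rw [hbot', Subgroup.mem_bot, commutatorElement_eq_one_iff_mul_comm] at h5
    exact Subtype.ext h5
  · have hm := hmax (n - 1) hidx (by omega)
    obtain ⟨y, hy, hyZ⟩ := SetLike.not_le_iff_exists.1 hm
    have hyS : y ∈ S := Subgroup.lowerCentralSeries_le_self S _ hy
    have hns : ∃ s ∈ S, s * y ≠ y * s := by
      by_contra hcon
      apply hyZ
      refine mem_abyZ.2 ⟨hyS, fun s hs => ?_⟩
      by_contra hne
      exact hcon ⟨s, hs, hne⟩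
    obtain ⟨s, hs, hsy⟩ := hns
    intro hbot
    have h5 : ⁅y, s⁆ ∈ Subgroup.lowerCentralSeries S (n - 2) := by
      have e : n - 2 = (n - 1 - 2) + 1 := by omega
      rw [e, Subgroup.lowerCentralSeries_succ]
      exact Subgroup.commutator_mem_commutator hy hs
    rw [hbot, Subgroup.mem_bot, commutatorElement_eq_one_iff_mul_comm] at h5
    exact hsy h5.symm

end AbyEss

end Cfsg.Agent.Helper26
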