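import Cfsg.Agent.Helper26.AbzExtra
import Cfsg.Agent.Helper24.ExtraIndexP

set_option autoImplicit false

namespace Cfsg.Agent.Helper26

open Cfsg Cfsg.FusionSystem

open scoped commutatorElement

section AbzCenter

theorem abz_conj_pow {G : Type*} [Group G] {a y z : G} (h1 : a * y * a⁻¹ = z * y)
    (h2 : a * z = z * a) (k : ℕ) : a ^ k * y * (a ^ k)⁻¹ = z ^ k * y := by
  induction k with
  | zero => simp
  | succ k ih =>
    have h3 : a * z ^ k = z ^ k * a := (Commute.pow_right (show Commute a z from h2) k).eq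
    calc a ^ (k + 1) * y * (a ^ (k + 1))⁻¹ = a * (a ^ k * y * (a ^ k)⁻¹) * a⁻¹ := by
          rw [pow_succ']; group
      _ = a * (z ^ k * y) * a⁻¹ := by rw [ih]
      _ = (a * z ^ k) * y * a⁻¹ := by group
      _ = (z ^ k * a) * y * a⁻¹ := by rw [h3]
      _ = z ^ k * (a * y * a⁻¹) := by group
      _ = z ^ k * (z * y) := by rw [h1]
      _ = z ^ (k + 1) * y := by rw [pow_succ]; group

variable {Ω : Type*} [Group Ω] {S : Subgroup Ω}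

theorem abz_S_inv [Finite S] (p : ℕ) [Fact p.Prime] (hS : IsPGroup p S) (F : FusionSystem S)
    (hF : F.IsSaturated p) (hcard : Nat.card ↥(abyZ0 S) = p) {γ₁ : MulAut ↥S}
    (hγ₁F : γ₁ ∈ F.autGroup S) (hγ₁inv : AbyInv S γ₁) :
    ∀ α ∈ F.autGroup S, ∀ y : ↥S, (y : Ω) ∈ abyQ γ₁ → ((α y : ↥S) : Ω) ∈ abyQ γ₁ := by
    intro α hα y hy
    obtain ⟨hyZ, hyS, hγy⟩ := mem_abyQ.1 hy
    have hγy' : γ₁ y = y := hγy
    have hαyZ := aby_Z_char α hyZ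
    refine mem_abyQ.2 ⟨hαyZ, (α y).2, ?_⟩
    show γ₁ (α y) = α y
    obtain ⟨γ', hγ'⟩ : ∃ γ' : MulAut ↥S, γ' = α⁻¹ * γ₁ * α := ⟨_, rfl⟩
    have hγ'F : γ' ∈ F.autGroup S := by
      rw [hγ']
      exact Subgroup.mul_mem _ (Subgroup.mul_mem _ (Subgroup.inv_mem _ hα) hγ₁F) hα
    have hγ'inv : AbyInv S γ' := by
      constructor
      · intro c hc
        rw [hγ']
        show α⁻¹ (γ₁ (α c)) = c⁻¹
        rw [hγ₁inv.1 _ (aby_Z0_char α hc), map_inv, MulAut.inv_apply_self]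
      · intro t ht
        have h1 := hγ₁inv.2 (α t) (aby_Z_char α ht)
        have h2 := aby_Z0_char α⁻¹ h1
        have e : α⁻¹ ((α t)⁻¹ * γ₁ (α t)) = t⁻¹ * γ' t := by
          rw [hγ', map_mul, map_inv, MulAut.inv_apply_self]
          rfl
        rw [e] at h2
        exact h2
    have h3 := aby_uniq p hS F hF hcard hγ'F hγ₁F hγ'inv hγ₁inv y hyZ
    rw [hγy', hγ'] at h3
    have h4 : α⁻¹ (γ₁ (α y)) = y := h3
    have h5 : α (α⁻¹ (γ₁ (α y))) = α y := by rw [h4]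
    rw [MulAut.apply_inv_self] at h5
    exact h5

/-- The structure around an essential subgroup when `S` has class two with `Z(S) ∩ S'` of order
`p`. -/
theorem abz_ess_struct [Finite S] (p : ℕ) [Fact p.Prime] (hS : IsPGroup p S)
    (F : FusionSystem S) (hF : F.IsSaturated p) (hp2 : p ≠ 2)
    (hcl : ∀ s ∈ S, ∀ t ∈ S, s * t * s⁻¹ * t⁻¹ ∈ abyZ S)
    (hcard : Nat.card ↥(abyZ0 S) = p)
    {P : Subgroup Ω} (hP : F.IsEssential p P) :
    abyZ S ≤ P ∧ ∃ γ ∈ F.autGroup S, AbyInv S γ ∧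
      (∀ α ∈ F.autGroup P, ∀ y : ↥P, (y : Ω) ∈ abyQ γ → ((α y : ↥P) : Ω) ∈ abyQ γ) ∧
      (∀ z ∈ abyZ S, ∃ z₀ ∈ abyZ0 S, ∃ d ∈ abyQ γ, z = d * z₀) := by
  have hpr := (Fact.out : p.Prime)
  have hPS : P ≤ S := hP.2.1.1
  haveI hPfin : Finite ↥P := finite_of_le hPS
  have hcen : centralizerIn S P ≤ P := hP.1.2 P (isConj_refl F hPS)
  have hZP : abyZ S ≤ P := by
    intro z hz
    obtain ⟨hzS, hzc⟩ := mem_abyZ.1 hz
    exact hcen (mem_centralizerIn.2 ⟨hzS, fun y hy => hzc y (hPS hy)⟩)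
  refine ⟨hZP, ?_⟩
  have hcomZ0 : ∀ s ∈ S, ∀ t ∈ S, s * t * s⁻¹ * t⁻¹ ∈ abyZ0 S := fun s hs t ht =>
    Subgroup.mem_inf.2 ⟨hcl s hs t ht, aby_comm_mem hs ht⟩
  have hnorm : ∀ s ∈ S, s ∈ Subgroup.normalizer (P : Set Ω) := by
    intro s hs
    apply Subgroup.mem_normalizer_fintype
    intro y hy
    have e : s * y * s⁻¹ = (s * y * s⁻¹ * y⁻¹) * y := by group
    rw [e]
    exact P.mul_mem (hZP (hcl s hs y (hPS hy))) hy
  obtain ⟨cj, hcj⟩ : ∃ cj : ∀ s, s ∈ S → MulAut ↥P,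
      ∀ s hs (y : ↥P), ((cj s hs y : ↥P) : Ω) = s * y * s⁻¹ :=
    ⟨fun s hs => P.normalizerMonoidHom ⟨s, hnorm s hs⟩, fun s hs y => rfl⟩
  obtain ⟨g, hgG, hK⟩ := aby_fusK p hS F hF hP
  have hne : P ≠ S := abx_ne_top p hS F hF hP
  obtain ⟨a₁, ha₁S, ha₁P⟩ := SetLike.exists_of_lt (lt_of_le_of_ne hPS hne)
  obtain ⟨Z₀', hZ₀'⟩ : ∃ Z₀' : Subgroup ↥P, Z₀' = (abyZ0 S).subgroupOf P := ⟨_, rfl⟩
  have hZ₀P : abyZ0 S ≤ P := inf_le_left.trans hZP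
  have hmemZ₀' : ∀ y : ↥P, y ∈ Z₀' ↔ (y : Ω) ∈ abyZ0 S := fun y => by
    rw [hZ₀', Subgroup.mem_subgroupOf]
  have hcard' : Nat.card ↥Z₀' = p := by
    rw [hZ₀', ← hcard]
    exact Nat.card_congr (Subgroup.subgroupOfEquivOfLe hZ₀P).toEquiv
  obtain ⟨c₀, hc₀, hc₀1⟩ := aby_exists_ne_one hcard'
  have hZ₀Z : ∀ c ∈ Z₀', ((c : ↥P) : Ω) ∈ abyZ S := fun c hc =>
    (Subgroup.mem_inf.1 ((hmemZ₀' c).1 hc)).1
  have hcenZ : ∀ c ∈ Z₀', ∀ y : ↥P, c * y = y * c := fun c hc y =>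
    Subtype.ext ((mem_abyZ.1 (hZ₀Z c hc)).2 y (hPS y.2)).symm
  have hcjfix : ∀ s hs, ∀ c : ↥P, (c : Ω) ∈ abyZ S → cj s hs c = c := by
    intro s hs c hc
    apply Subtype.ext
    rw [hcj, (mem_abyZ.1 hc).2 s hs]
    group
  have hdisp : ∀ s hs (y : ↥P), cj s hs y * y⁻¹ ∈ Z₀' := by
    intro s hs y
    rw [hmemZ₀']
    show ((cj s hs y : ↥P) : Ω) * (y : Ω)⁻¹ ∈ abyZ0 S
    rw [hcj]
    exact hcomZ0 s hs y (hPS y.2)
  -- `P` is abelian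
  have hPab : ∀ y y' : ↥P, y * y' = y' * y := by
    by_contra hab
    have hab' : ∃ e₁ e₂ : ↥P, e₁ * e₂ ≠ e₂ * e₁ := by
      by_contra hcon
      apply hab
      intro e e'
      by_contra hne'
      exact hcon ⟨e, e', hne'⟩
    obtain ⟨e₁, e₂, he⟩ := hab'
    obtain ⟨w, hwdef⟩ : ∃ w : ↥P, w = e₁ * e₂ * e₁⁻¹ * e₂⁻¹ := ⟨_, rfl⟩
    have hw : w ∈ Z₀' := by
      rw [hmemZ₀', hwdef]
      exact hcomZ0 _ (hPS e₁.2) _ (hPS e₂.2)
    have hw1 : w ≠ 1 := by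
      intro h1
      apply he
      calc e₁ * e₂ = (e₁ * e₂ * e₁⁻¹ * e₂⁻¹) * e₂ * e₁ := by group
        _ = e₂ * e₁ := by rw [← hwdef, h1, one_mul]
    have hpres : ∀ γ : MulAut ↥P, ∀ c ∈ Z₀', γ c ∈ Z₀' := by
      intro γ c hc
      obtain ⟨n, rfl⟩ := aby_gen hcard' hw hw1 c hc
      rw [map_pow]
      apply Subgroup.pow_mem
      have e : γ w = γ e₁ * γ e₂ * (γ e₁)⁻¹ * (γ e₂)⁻¹ := by
        rw [hwdef, map_mul, map_mul, map_mul, map_inv, map_inv]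
      rw [e, hmemZ₀']
      exact hcomZ0 _ (hPS (γ e₁).2) _ (hPS (γ e₂).2)
    obtain ⟨t, ht⟩ : ∃ t, t = cj a₁ ha₁S := ⟨_, rfl⟩
    apply hK t t ⟨a₁, ha₁S, ha₁P, fun y => by rw [ht]; exact hcj a₁ ha₁S y⟩
      ⟨a₁, ha₁S, ha₁P, fun y => by rw [ht]; exact hcj a₁ ha₁S y⟩
    refine abx_commute {d : ↥P | d ∈ Z₀'} ?_ t (g * t * g⁻¹) ?_ ?_ ?_ ?_
    · intro u hu v _
      exact hcenZ u hu v
    · intro y
      rw [ht]; exact hdisp a₁ ha₁S y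
    · intro y
      rw [abx_conj_apply]
      exact hpres g _ (by rw [ht]; exact hdisp a₁ ha₁S _)
    · intro u hu
      rw [ht]; exact hcjfix a₁ ha₁S u (hZ₀Z u hu)
    · intro u hu
      show g (t (g⁻¹ u)) = u
      rw [ht, hcjfix a₁ ha₁S _ (hZ₀Z _ (hpres g⁻¹ u hu)), MulAut.apply_inv_self]
  -- `S = P⟨a₁⟩`
  have hgen : ∀ b ∈ S, ∃ k : ℕ, (a₁ ^ k)⁻¹ * b ∈ P := by
    intro b hbS
    by_contra hno
    have hfind : ∀ y : ↥P, ∃ s, ∃ hs : s ∈ S, s ∉ P ∧ cj s hs y = y := by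
      intro y
      by_cases hay : cj a₁ ha₁S y = y
      · exact ⟨a₁, ha₁S, ha₁P, hay⟩
      · obtain ⟨z, hzdef⟩ : ∃ z : ↥P, z = cj a₁ ha₁S y * y⁻¹ := ⟨_, rfl⟩
        have hz : z ∈ Z₀' := hzdef ▸ hdisp a₁ ha₁S y
        have hz1 : z ≠ 1 := by
          intro h1
          apply hay
          calc cj a₁ ha₁S y = (cj a₁ ha₁S y * y⁻¹) * y := by group
            _ = y := by rw [← hzdef, h1, one_mul]
        obtain ⟨k, hk⟩ := aby_gen hcard' hz hz1 (cj b hbS y * y⁻¹) (hdisp b hbS y)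
        have hsS : (a₁ ^ k)⁻¹ * b ∈ S := S.mul_mem (S.inv_mem (S.pow_mem ha₁S k)) hbS
        refine ⟨(a₁ ^ k)⁻¹ * b, hsS, fun h => hno ⟨k, h⟩, ?_⟩
        apply Subtype.ext
        rw [hcj]
        have hzv : (z : Ω) = a₁ * y * a₁⁻¹ * (y : Ω)⁻¹ := by
          rw [hzdef]
          show ((cj a₁ ha₁S y : ↥P) : Ω) * (y : Ω)⁻¹ = _
          rw [hcj]
        have h1 : a₁ * (y : Ω) * a₁⁻¹ = (z : Ω) * y := by rw [hzv]; group
        have h2 : a₁ * (z : Ω) = (z : Ω) * a₁ := (mem_abyZ.1 (hZ₀Z z hz)).2 a₁ ha₁S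
        have hA := abz_conj_pow h1 h2 k
        have hB : b * (y : Ω) * b⁻¹ = (z : Ω) ^ k * y := by
          have h3 : ((z ^ k : ↥P) : Ω) = ((cj b hbS y * y⁻¹ : ↥P) : Ω) := congrArg Subtype.val hk
          have h4 : ((cj b hbS y * y⁻¹ : ↥P) : Ω) = b * y * b⁻¹ * (y : Ω)⁻¹ := by
            show ((cj b hbS y : ↥P) : Ω) * (y : Ω)⁻¹ = _
            rw [hcj]
          have h5 : (z : Ω) ^ k = b * y * b⁻¹ * (y : Ω)⁻¹ := h3.trans h4
          rw [h5]; group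
        calc (a₁ ^ k)⁻¹ * b * (y : Ω) * ((a₁ ^ k)⁻¹ * b)⁻¹
            = (a₁ ^ k)⁻¹ * (b * y * b⁻¹) * a₁ ^ k := by group
          _ = (a₁ ^ k)⁻¹ * (a₁ ^ k * y * (a₁ ^ k)⁻¹) * a₁ ^ k := by rw [hB, hA]
          _ = y := by group
    obtain ⟨s, hs, hsP, h1⟩ := hfind (g c₀)
    obtain ⟨s', hs', hs'P, h2⟩ := hfind (g⁻¹ c₀)
    obtain ⟨t, ht⟩ : ∃ t, t = cj s hs := ⟨_, rfl⟩
    obtain ⟨t', ht'⟩ : ∃ t', t' = cj s' hs' := ⟨_, rfl⟩
    apply hK t t' ⟨s, hs, hsP, fun y => by rw [ht]; exact hcj s hs y⟩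
      ⟨s', hs', hs'P, fun y => by rw [ht']; exact hcj s' hs' y⟩
    refine abx_commute {d : ↥P | d ∈ Z₀' ∨ d ∈ Z₀'.map g.toMonoidHom} ?_ t (g * t' * g⁻¹)
      ?_ ?_ ?_ ?_
    · intro u _ v _
      exact hPab u v
    · intro y
      exact Or.inl (by rw [ht]; exact hdisp s hs y)
    · intro y
      rw [abx_conj_apply]
      exact Or.inr ⟨_, (by rw [ht']; exact hdisp s' hs' _), rfl⟩
    · rintro u (hu | hu)
      · rw [ht]; exact hcjfix s hs u (hZ₀Z u hu)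
      · obtain ⟨c, hc, rfl⟩ := hu
        obtain ⟨n, rfl⟩ := aby_gen hcard' hc₀ hc₀1 c hc
        show t (g (c₀ ^ n)) = g (c₀ ^ n)
        rw [map_pow, map_pow, ht, h1]
    · rintro u (hu | hu)
      · obtain ⟨n, rfl⟩ := aby_gen hcard' hc₀ hc₀1 u hu
        have e : (g * t' * g⁻¹) c₀ = c₀ := by
          show g (t' (g⁻¹ c₀)) = c₀
          rw [ht', h2, MulAut.apply_inv_self]
        rw [map_pow, e]
      · obtain ⟨c, hc, rfl⟩ := hu
        show g (t' (g⁻¹ (g c))) = g c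
        rw [MulAut.inv_apply_self, ht', hcjfix s' hs' c (hZ₀Z c hc)]
  obtain ⟨τ, hτdef⟩ : ∃ τ, τ = cj a₁ ha₁S := ⟨_, rfl⟩
  have hτ : ∀ y : ↥P, ((τ y : ↥P) : Ω) = a₁ * y * a₁⁻¹ := fun y => by
    rw [hτdef]; exact hcj a₁ ha₁S y
  have hτS : τ ∈ autInducedBy S P := mem_autInducedBy_iff.2 ⟨a₁, ha₁S, hτ⟩
  have hτG : τ ∈ F.autGroup P := autInducedBy_le_autGroup F hPS hτS
  have hfixZ : ∀ y : ↥P, τ y = y ↔ (y : Ω) ∈ abyZ S := by
    intro y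
    constructor
    · intro hy
      have h1 : a₁ * y * a₁⁻¹ = y := (hτ y).symm.trans (congrArg Subtype.val hy)
      have h2 : a₁ * (y : Ω) = y * a₁ := by
        calc a₁ * (y : Ω) = (a₁ * y * a₁⁻¹) * a₁ := by group
          _ = y * a₁ := by rw [h1]
      refine mem_abyZ.2 ⟨hPS y.2, fun s hs => ?_⟩
      obtain ⟨k, hk⟩ := hgen s hs
      have hq : ((a₁ ^ k)⁻¹ * s) * (y : Ω) = y * ((a₁ ^ k)⁻¹ * s) :=
        congrArg Subtype.val (hPab ⟨_, hk⟩ y)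
      have hak : a₁ ^ k * (y : Ω) = y * a₁ ^ k :=
        (Commute.pow_left (show Commute a₁ (y : Ω) from h2) k).eq
      calc s * (y : Ω) = a₁ ^ k * (((a₁ ^ k)⁻¹ * s) * y) := by group
        _ = a₁ ^ k * (y * ((a₁ ^ k)⁻¹ * s)) := by rw [hq]
        _ = (a₁ ^ k * y) * ((a₁ ^ k)⁻¹ * s) := by group
        _ = (y * a₁ ^ k) * ((a₁ ^ k)⁻¹ * s) := by rw [hak]
        _ = y * s := by group
    · intro hy
      rw [hτdef]
      exact hcjfix a₁ ha₁S y hy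
  have hdispτ : ∀ y : ↥P, y⁻¹ * τ y ∈ Z₀' := fun y => by
    rw [hPab y⁻¹ (τ y), hτdef]
    exact hdisp a₁ ha₁S y
  have hfix : ∀ c ∈ Z₀', τ c = c := fun c hc => (hfixZ c).2 (hZ₀Z c hc)
  have hτk : ∀ (k : ℕ) (y : ↥P), (((τ ^ k) y : ↥P) : Ω) = a₁ ^ k * y * (a₁ ^ k)⁻¹ := by
    intro k
    induction k with
    | zero => intro y; simp
    | succ k ih =>
      intro y
      rw [pow_succ, MulAut.mul_apply, ih, hτ, pow_succ]
      group
  have hcyc : autInducedBy S P ≤ Subgroup.zpowers τ := by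
    intro α hα
    obtain ⟨n, hnS, hn⟩ := mem_autInducedBy_iff.1 hα
    obtain ⟨k, hk⟩ := hgen n hnS
    have hαk : α = τ ^ k := by
      refine MulEquiv.ext (fun y => Subtype.ext ?_)
      rw [hn, hτk]
      have hqy : ((a₁ ^ k)⁻¹ * n) * (y : Ω) = y * ((a₁ ^ k)⁻¹ * n) :=
        congrArg Subtype.val (hPab ⟨_, hk⟩ y)
      calc n * (y : Ω) * n⁻¹ = a₁ ^ k * (((a₁ ^ k)⁻¹ * n) * y) * n⁻¹ := by group
        _ = a₁ ^ k * (y * ((a₁ ^ k)⁻¹ * n)) * n⁻¹ := by rw [hqy]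
        _ = a₁ ^ k * y * (a₁ ^ k)⁻¹ := by group
    rw [hαk]
    exact Subgroup.npow_mem_zpowers τ k
  obtain ⟨hfc, hfa⟩ := sat_fullyNormalized p hS F hF hP.2.1
  obtain ⟨R, hR⟩ := hfa.2
  have hsyl : ∀ X : Subgroup (MulAut ↥P), X ≤ F.autGroup P →
      (∀ γ ∈ X, ∃ k : ℕ, γ ^ p ^ k = 1) → τ ∈ X → X ≤ Subgroup.zpowers τ := by
    intro X hXG hXp hτX γ hγ
    have hRX : (R : Subgroup ↥(F.autGroup P)) ≤ X.subgroupOf (F.autGroup P) := by
      intro κ hκ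
      rw [hR, Subgroup.mem_subgroupOf] at hκ
      rw [Subgroup.mem_subgroupOf]
      exact ((Subgroup.zpowers_le).2 hτX) (hcyc hκ)
    have hXp' : IsPGroup p ↥(X.subgroupOf (F.autGroup P)) := by
      rintro ⟨κ, hκ⟩
      obtain ⟨k, hk⟩ := hXp _ (Subgroup.mem_subgroupOf.1 hκ)
      have e2 : κ ^ p ^ k = 1 := Subtype.ext (by rw [Subgroup.coe_pow, hk]; rfl)
      exact ⟨k, Subtype.ext (by rw [Subgroup.coe_pow]; exact e2)⟩
    have hXR := R.3 hXp' hRX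
    have hγR : (⟨γ, hXG hγ⟩ : ↥(F.autGroup P)) ∈ (R : Subgroup ↥(F.autGroup P)) := by
      rw [← hXR]
      exact Subgroup.mem_subgroupOf.2 hγ
    rw [hR, Subgroup.mem_subgroupOf] at hγR
    exact hcyc hγR
  have hnc : τ * (g * τ * g⁻¹) ≠ g * τ * g⁻¹ * τ :=
    hK τ τ ⟨a₁, ha₁S, ha₁P, hτ⟩ ⟨a₁, ha₁S, ha₁P, hτ⟩
  have hyp : AbyHyp p (F.autGroup P) Z₀' τ g :=
    ⟨hPab, hS.to_le hPS, hcard', hτG, hgG, hdispτ, hfix, hsyl, hnc⟩
  obtain ⟨δ, hδG, hδinv, hδfix⟩ := aby_delta hyp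
  have hδZ : ∀ y : ↥P, (y : Ω) ∈ abyZ S → ((δ y : ↥P) : Ω) ∈ abyZ S := by
    intro y hy
    obtain ⟨z, hz, d, hd1, hd2, hyd⟩ := aby_fix_decomp hyp y ((hfixZ y).2 hy)
    rw [hyd, map_mul, hδfix d hd1 hd2, hδinv z hz]
    exact Subgroup.mul_mem _ ((hfixZ d).1 hd1)
      (Subgroup.inv_mem _ (Subgroup.mem_inf.1 ((hmemZ₀' z).1 hz)).1)
  obtain ⟨γ, hγF, hγe⟩ := aby_restrict p hS F hF hPS hZP hδG hδZ
  have hγe' : ∀ (s : ↥S) (hsZ : (s : Ω) ∈ abyZ S),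
      ((γ s : ↥S) : Ω) = ((δ ⟨s, hZP hsZ⟩ : ↥P) : Ω) :=
    fun s hsZ => hγe ⟨s, hZP hsZ⟩ s.2 hsZ
  have hinvγ : AbyInv S γ := by
    constructor
    · intro s hs
      have hsZ : (s : Ω) ∈ abyZ S := (Subgroup.mem_inf.1 hs).1
      apply Subtype.ext
      rw [hγe' s hsZ, hδinv ⟨s, hZP hsZ⟩ ((hmemZ₀' _).2 hs)]
      rfl
    · intro s hsZ
      obtain ⟨z, hz, d, hd1, hd2, hyd⟩ :=
        aby_fix_decomp hyp ⟨s, hZP hsZ⟩ ((hfixZ _).2 hsZ)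
      have h1 : ((δ ⟨s, hZP hsZ⟩ : ↥P) : Ω) = (d : Ω) * (z : Ω)⁻¹ := by
        rw [hyd, map_mul, hδfix d hd1 hd2, hδinv z hz]
        rfl
      have h2 : (s : Ω) = (d : Ω) * z := congrArg Subtype.val hyd
      show (s : Ω)⁻¹ * ((γ s : ↥S) : Ω) ∈ abyZ0 S
      rw [hγe' s hsZ, h1, h2]
      have e : ((d : Ω) * z)⁻¹ * (d * (z : Ω)⁻¹) = (z : Ω)⁻¹ * (z : Ω)⁻¹ := by group
      rw [e]
      have hzZ₀ := (hmemZ₀' z).1 hz
      exact Subgroup.mul_mem _ (Subgroup.inv_mem _ hzZ₀) (Subgroup.inv_mem _ hzZ₀)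
  have hQiff : ∀ y : ↥P, (y : Ω) ∈ abyQ γ ↔ (τ y = y ∧ (g * τ * g⁻¹) y = y) := by
    intro y
    rw [mem_abyQ]
    constructor
    · rintro ⟨hyZ, hyS, hγy⟩
      obtain ⟨z, hz, d, hd1, hd2, hyd⟩ := aby_fix_decomp hyp y ((hfixZ y).2 hyZ)
      have h1 : ((δ y : ↥P) : Ω) = (y : Ω) := by
        rw [← hγe y hyS hyZ, hγy]
      have h2 : δ y = y := Subtype.ext h1
      rw [hyd, map_mul, hδfix d hd1 hd2, hδinv z hz] at h2
      have h3 : z⁻¹ = z := mul_left_cancel h2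
      have h4 : z ^ 2 = 1 := by
        rw [pow_two]
        calc z * z = z⁻¹ * z := by rw [h3]
          _ = 1 := inv_mul_cancel z
      have h5 : z ^ p = 1 := by
        have h6 : (⟨z, hz⟩ : ↥Z₀') ^ p = 1 := by
          rw [← hcard']; exact pow_card_eq_one'
        exact congrArg Subtype.val h6
      have h7 : z ^ (Nat.gcd 2 p) = 1 := pow_gcd_eq_one.2 ⟨h4, h5⟩
      have hcop : Nat.gcd 2 p = 1 :=
        (Nat.coprime_primes Nat.prime_two hpr).2 (Ne.symm hp2)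
      rw [hcop, pow_one] at h7
      rw [hyd, h7, mul_one]
      exact ⟨hd1, hd2⟩
    · rintro ⟨hy1, hy2⟩
      have hyZ := (hfixZ y).1 hy1
      refine ⟨hyZ, hPS y.2, Subtype.ext ?_⟩
      rw [hγe y (hPS y.2) hyZ, hδfix y hy1 hy2]
  refine ⟨γ, hγF, hinvγ, ?_, ?_⟩
  · intro α hα y hy
    obtain ⟨hy1, hy2⟩ := (hQiff y).1 hy
    exact (hQiff (α y)).2 (aby_inv hyp hα hy1 hy2)
  · intro z hz
    obtain ⟨z₀, hz₀, d, hd1, hd2, hyd⟩ :=
      aby_fix_decomp hyp ⟨z, hZP hz⟩ ((hfixZ _).2 hz)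
    exact ⟨z₀, (hmemZ₀' z₀).1 hz₀, d, (hQiff d).2 ⟨hd1, hd2⟩, congrArg Subtype.val hyd⟩


/-- A saturated fusion system with trivial core over a `p`-group `S` (`p` odd) of class two with
`Z(S) ∩ S'` of order `p` has `Z(S) ≤ S'`. -/
theorem abz_class2 [Finite S] (p : ℕ) [Fact p.Prime] (hS : IsPGroup p S)
    (F : Cfsg.FusionSystem S) (hF : F.IsSaturated p) (hp2 : p ≠ 2)
    (hcl : ∀ s ∈ S, ∀ t ∈ S, s * t * s⁻¹ * t⁻¹ ∈ abyZ S)
    (hcard : Nat.card ↥(abyZ0 S) = p) (hcore : F.core = ⊥) : abyZ S ≤ abyZ0 S := by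
  have hnormal_bot : ∀ Q : Subgroup Ω, F.IsNormal Q → Q = ⊥ := by
    intro Q hQ
    have h1 : Q ≤ F.core := le_sSup hQ
    rw [hcore] at h1
    exact le_bot_iff.1 h1
  have hexP : ∃ P₁ : Subgroup Ω, F.IsEssential p P₁ := by
    by_contra hno
    have hZn : F.IsNormal (abyZ0 S) := by
      apply normal_of_invariant p hS F hF
      intro P hPc
      rcases hPc with hPS | hP
      · rw [hPS]
        exact ⟨inf_le_left.trans inf_le_left,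
          fun α _ => aby_map_eq _ α (fun y hy => aby_Z0_char α hy)⟩
      · exact (hno ⟨P, hP⟩).elim
    have hbot := hnormal_bot _ hZn
    have h1 : Nat.card ↥(abyZ0 S) = 1 := by
      rw [hbot]
      exact Subgroup.card_bot
    rw [hcard] at h1
    exact (Fact.out : p.Prime).one_lt.ne' h1
  obtain ⟨P₁, hP₁⟩ := hexP
  obtain ⟨-, γ₁, hγ₁F, hγ₁inv, -, hdec⟩ := abz_ess_struct p hS F hF hp2 hcl hcard hP₁
  have hSinv := abz_S_inv p hS F hF hcard hγ₁F hγ₁inv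
  have hQZ : abyQ γ₁ ≤ abyZ S := fun z hz => (mem_abyQ.1 hz).1
  have hQn : F.IsNormal (abyQ γ₁) := by
    apply normal_of_invariant p hS F hF
    intro P hPc
    rcases hPc with hPS | hP
    · rw [hPS]
      exact ⟨hQZ.trans inf_le_left, fun α hα => aby_map_eq _ α (hSinv α hα)⟩
    · have hPS : P ≤ S := hP.2.1.1
      haveI : Finite ↥P := finite_of_le hPS
      obtain ⟨hZP, γ, hγF, hγinv, hinv, -⟩ := abz_ess_struct p hS F hF hp2 hcl hcard hP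
      refine ⟨hQZ.trans hZP, fun α hα => aby_map_eq _ α ?_⟩
      have hQeq : ∀ z : Ω, z ∈ abyQ γ ↔ z ∈ abyQ γ₁ := by
        intro z
        rw [mem_abyQ, mem_abyQ]
        constructor
        · rintro ⟨hzZ, hzS, hz⟩
          exact ⟨hzZ, hzS,
            (aby_uniq p hS F hF hcard hγ₁F hγF hγ₁inv hγinv ⟨z, hzS⟩ hzZ).trans hz⟩
        · rintro ⟨hzZ, hzS, hz⟩
          exact ⟨hzZ, hzS,
            (aby_uniq p hS F hF hcard hγF hγ₁F hγinv hγ₁inv ⟨z, hzS⟩ hzZ).trans hz⟩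
      intro y hy
      exact (hQeq _).1 (hinv α hα y ((hQeq _).2 hy))
  have hQbot := hnormal_bot _ hQn
  intro z hz
  obtain ⟨z₀, hz₀, d, hd, hzd⟩ := hdec z hz
  rw [hQbot, Subgroup.mem_bot] at hd
  rw [hzd, hd, one_mul]
  exact hz₀

/-- If `S` has an extraspecial subgroup `Q` of index `p` (`p` odd) and carries a saturated fusion
system with trivial core, then `Z(S) = Z(Q)`. -/
theorem abz_extra_center [Finite S] (p : ℕ) [Fact p.Prime] (hp : Odd p) (hS : IsPGroup p S)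
    (Q : Subgroup Ω) (hQS : Q ≤ S) (hQ : Cfsg.IsExtraspecial p ↥Q)
    (hQi : (Q.subgroupOf S).index = p)
    (F : Cfsg.FusionSystem S) (hF : F.IsSaturated p) (hO : F.core = ⊥) :
    S ⊓ Subgroup.centralizer (S : Set Ω) = Q ⊓ Subgroup.centralizer (Q : Set Ω) := by
  have hpr := (Fact.out : p.Prime)
  have hp2 : p ≠ 2 := by
    rintro rfl
    exact absurd hp (by decide)
  haveI hQfin : Finite ↥Q := finite_of_le hQS
  obtain ⟨⟨hQp, hfr, hcomm⟩, hcardZ⟩ := hQ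
  have hcm : ∀ s ∈ Q, ∀ t ∈ Q, ∀ q ∈ Q,
      q * (s * t * s⁻¹ * t⁻¹) = (s * t * s⁻¹ * t⁻¹) * q := by
    intro s hs t ht q hq
    have h1 : ⁅(⟨s, hs⟩ : ↥Q), ⟨t, ht⟩⁆ ∈ commutator ↥Q := by
      rw [commutator_def]
      exact Subgroup.commutator_mem_commutator (Subgroup.mem_top _) (Subgroup.mem_top _)
    rw [hcomm] at h1
    have h2 := Subgroup.mem_center_iff.1 h1 ⟨q, hq⟩
    rw [commutatorElement_def] at h2
    exact congrArg Subtype.val h2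
  obtain ⟨Zq, hZqdef⟩ : ∃ Zq : Subgroup Ω, Zq = Q ⊓ Subgroup.centralizer (Q : Set Ω) :=
    ⟨_, rfl⟩
  have hZqmem : ∀ z : Ω, z ∈ Zq ↔ z ∈ Q ∧ ∀ q ∈ Q, q * z = z * q := by
    intro z
    rw [hZqdef, Subgroup.mem_inf, Subgroup.mem_centralizer_iff]
    rfl
  have hZqmap : (Subgroup.center ↥Q).map Q.subtype = Zq := by
    ext z
    rw [hZqmem]
    constructor
    · rintro ⟨w, hw, rfl⟩
      exact ⟨w.2, fun q hq => congrArg Subtype.val (Subgroup.mem_center_iff.1 hw ⟨q, hq⟩)⟩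
    · rintro ⟨hzQ, hzc⟩
      exact ⟨⟨z, hzQ⟩, Subgroup.mem_center_iff.2 (fun g => Subtype.ext (hzc g g.2)), rfl⟩
  have hcardZq : Nat.card ↥Zq = p := by
    rw [← hZqmap, Subgroup.card_subtype]
    exact hcardZ
  have hcomZ : ∀ s ∈ Q, ∀ t ∈ Q, s * t * s⁻¹ * t⁻¹ ∈ Zq := fun s hs t ht =>
    (hZqmem _).2 ⟨Q.mul_mem (Q.mul_mem (Q.mul_mem hs ht) (Q.inv_mem hs)) (Q.inv_mem ht),
      fun q hq => hcm s hs t ht q hq⟩
  haveI hQn : (Q.subgroupOf S).Normal := by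
    apply Subgroup.normal_of_index_eq_minFac_card
    obtain ⟨n, hn⟩ := IsPGroup.iff_card.1 hS
    have hn0 : n ≠ 0 := by
      rintro rfl
      have h1 := Subgroup.index_dvd_card (Q.subgroupOf S)
      rw [hQi, hn, pow_zero] at h1
      exact hpr.one_lt.ne' (Nat.dvd_one.1 h1)
    rw [hQi, hn, hpr.pow_minFac hn0]
  have hQconj : ∀ s ∈ S, ∀ q ∈ Q, s * q * s⁻¹ ∈ Q := by
    intro s hs q hq
    have h1 := hQn.conj_mem ⟨q, hQS hq⟩ (Subgroup.mem_subgroupOf.2 hq) ⟨s, hs⟩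
    exact Subgroup.mem_subgroupOf.1 h1
  have hZqconj : ∀ s ∈ S, ∀ z ∈ Zq, s * z * s⁻¹ ∈ Zq := by
    intro s hs z hz
    obtain ⟨hzQ, hzc⟩ := (hZqmem z).1 hz
    refine (hZqmem _).2 ⟨hQconj s hs z hzQ, fun q hq => ?_⟩
    have h1 := hzc (s⁻¹ * q * s⁻¹⁻¹) (hQconj s⁻¹ (S.inv_mem hs) q hq)
    calc q * (s * z * s⁻¹) = s * ((s⁻¹ * q * s⁻¹⁻¹) * z) * s⁻¹ := by group
      _ = s * (z * (s⁻¹ * q * s⁻¹⁻¹)) * s⁻¹ := by rw [h1]
      _ = s * z * s⁻¹ * q := by group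
  have hZqS : Zq ≤ S := fun z hz => hQS ((hZqmem z).1 hz).1
  have hZqZ : Zq ≤ abyZ S := by
    haveI : (Zq.subgroupOf S).Normal := by
      refine ⟨fun n hn g => ?_⟩
      rw [Subgroup.mem_subgroupOf] at hn ⊢
      exact hZqconj g g.2 n hn
    have hc : Nat.card ↥(Zq.subgroupOf S) = p :=
      (Nat.card_congr (Subgroup.subgroupOfEquivOfLe hZqS).toEquiv).trans hcardZq
    have hle := Cfsg.Agent.Helper24.le_center_of_normal_of_card_prime hS (Zq.subgroupOf S) hc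
    intro z hz
    have h1 : (⟨z, hZqS hz⟩ : ↥S) ∈ Subgroup.center ↥S := hle (Subgroup.mem_subgroupOf.2 hz)
    refine mem_abyZ.2 ⟨hZqS hz, fun s hs => ?_⟩
    exact congrArg Subtype.val (Subgroup.mem_center_iff.1 h1 ⟨s, hs⟩)
  rw [← hZqdef]
  show abyZ S = Zq
  apply le_antisymm
  · intro z hz
    obtain ⟨hzS, hzc⟩ := mem_abyZ.1 hz
    by_cases hzQ : z ∈ Q
    · exact (hZqmem z).2 ⟨hzQ, fun q hq => hzc q (hQS hq)⟩
    · exfalso
      have hcardq : Nat.card (↥S ⧸ Q.subgroupOf S) = p := by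
        rw [← Subgroup.index_eq_card]
        exact hQi
      have hgen : ∀ s ∈ S, ∃ k : ℤ, s * (z ^ k)⁻¹ ∈ Q := by
        intro s hs
        have hx1 : (QuotientGroup.mk ⟨z, hzS⟩ : ↥S ⧸ Q.subgroupOf S) ≠ 1 := by
          intro h1
          rw [QuotientGroup.eq_one_iff, Subgroup.mem_subgroupOf] at h1
          exact hzQ h1
        have hmem : (QuotientGroup.mk ⟨s, hs⟩ : ↥S ⧸ Q.subgroupOf S) ∈
            Subgroup.zpowers (QuotientGroup.mk ⟨z, hzS⟩ : ↥S ⧸ Q.subgroupOf S) :=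
          mem_zpowers_of_prime_card hcardq hx1
        obtain ⟨k, hk⟩ := Subgroup.mem_zpowers_iff.1 hmem
        refine ⟨k, ?_⟩
        rw [← QuotientGroup.mk_zpow] at hk
        have h2 := QuotientGroup.eq_iff_div_mem.1 hk.symm
        rw [Subgroup.mem_subgroupOf, div_eq_mul_inv] at h2
        exact h2
      have hzk : ∀ x ∈ S, ∀ j : ℤ, x * z ^ j = z ^ j * x := fun x hx j =>
        (Commute.zpow_right (show Commute x z from hzc x hx) j).eq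
      have hu : ∀ j : ℤ, ∀ x ∈ S, z ^ j * x * (z ^ j)⁻¹ = x := by
        intro j x hx
        rw [← hzk x hx j]
        group
      have hcl : ∀ s ∈ S, ∀ t ∈ S, s * t * s⁻¹ * t⁻¹ ∈ Zq := by
        intro s hs t ht
        obtain ⟨k, hk⟩ := hgen s hs
        obtain ⟨l, hl⟩ := hgen t ht
        obtain ⟨q, hqdef⟩ : ∃ q, q = s * (z ^ k)⁻¹ := ⟨_, rfl⟩
        obtain ⟨q', hq'def⟩ : ∃ q', q' = t * (z ^ l)⁻¹ := ⟨_, rfl⟩
        have hqQ : q ∈ Q := hqdef ▸ hk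
        have hq'Q : q' ∈ Q := hq'def ▸ hl
        have hs' : s = q * z ^ k := by rw [hqdef]; group
        have ht' : t = q' * z ^ l := by rw [hq'def]; group
        have e : s * t * s⁻¹ * t⁻¹ = q * q' * q⁻¹ * q'⁻¹ := by
          calc s * t * s⁻¹ * t⁻¹ = q * (z ^ k * t * (z ^ k)⁻¹) * q⁻¹ * t⁻¹ := by
                rw [hs']; group
            _ = q * t * q⁻¹ * t⁻¹ := by rw [hu k t ht]
            _ = q * q' * (z ^ l * q⁻¹ * (z ^ l)⁻¹) * q'⁻¹ := by rw [ht']; group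
            _ = q * q' * q⁻¹ * q'⁻¹ := by rw [hu l q⁻¹ (S.inv_mem (hQS hqQ))]
        rw [e]
        exact hcomZ q hqQ q' hq'Q
      have hZ0 : abyZ0 S = Zq := by
        apply le_antisymm
        · intro w hw
          obtain ⟨-, hwS'⟩ := Subgroup.mem_inf.1 hw
          have hS'le : (commutator ↥S).map S.subtype ≤ Zq := by
            rw [Subgroup.map_le_iff_le_comap, commutator_def, Subgroup.commutator_le]
            rintro s - t -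
            have hval : ((⁅s, t⁆ : ↥S) : Ω) = (s : Ω) * t * (s : Ω)⁻¹ * (t : Ω)⁻¹ := by
              rw [commutatorElement_def]; rfl
            show ((⁅s, t⁆ : ↥S) : Ω) ∈ Zq
            rw [hval]
            exact hcl s s.2 t t.2
          exact hS'le hwS'
        · intro w hw
          refine Subgroup.mem_inf.2 ⟨hZqZ hw, ?_⟩
          have hle : (commutator ↥Q).map Q.subtype ≤ (commutator ↥S).map S.subtype := by
            rw [Subgroup.map_le_iff_le_comap, commutator_def, Subgroup.commutator_le]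
            rintro s - t -
            have hval : ((⁅s, t⁆ : ↥Q) : Ω) = (s : Ω) * t * (s : Ω)⁻¹ * (t : Ω)⁻¹ := by
              rw [commutatorElement_def]; rfl
            show ((⁅s, t⁆ : ↥Q) : Ω) ∈ (commutator ↥S).map S.subtype
            rw [hval]
            exact aby_comm_mem (hQS s.2) (hQS t.2)
          apply hle
          rw [hcomm, hZqmap]
          exact hw
      have hcard0 : Nat.card ↥(abyZ0 S) = p := by
        rw [hZ0]
        exact hcardZq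
      have hcl' : ∀ s ∈ S, ∀ t ∈ S, s * t * s⁻¹ * t⁻¹ ∈ abyZ S := fun s hs t ht =>
        hZqZ (hcl s hs t ht)
      have hle := abz_class2 p hS F hF hp2 hcl' hcard0 hO
      have hzZ0 : z ∈ abyZ0 S := hle hz
      rw [hZ0] at hzZ0
      exact hzQ ((hZqmem z).1 hzZ0).1
  · exact hZqZ

end AbzCenter

end Cfsg.Agent.Helper26
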