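import Cfsg.Agent.Helper26.AbyEss

set_option autoImplicit false

namespace Cfsg.Agent.Helper26

open Cfsg Cfsg.FusionSystem

open scoped commutatorElement

section AbzExtra

theorem abz_index_le {G α : Type*} [Group G] [Finite α] (H : Subgroup G) (f : G → α)
    (hf : ∀ a b : G, f a = f b → a⁻¹ * b ∈ H) : H.index ≤ Nat.card α := by
  rw [Subgroup.index]
  apply Nat.card_le_card_of_injective (fun q : G ⧸ H => f q.out)
  intro q q' hq
  have h1 := hf _ _ hq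
  rw [← QuotientGroup.out_eq' q, ← QuotientGroup.out_eq' q']
  exact QuotientGroup.eq.mpr h1

/-- A group whose commutator subgroup and centre coincide and have order `p`, with an abelian
subgroup `E` containing the centralizer of one of its elements `y`, has order at most `p³`. -/
theorem abz_count {P : Type*} [Group P] [Finite P] {p : ℕ} [Fact p.Prime]
    (hcomm : commutator P = Subgroup.center P) (hcard : Nat.card (Subgroup.center P) = p)
    (E : Subgroup P) (hEab : ∀ e ∈ E, ∀ e' ∈ E, e * e' = e' * e) {a y : P} (haE : a ∉ E)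
    (hno : ∀ s : P, s * y * s⁻¹ = y → s ∈ E) : Nat.card P ≤ p * p * p := by
  have hcm : ∀ s t : P, ⁅s, t⁆ ∈ Subgroup.center P := by
    intro s t
    rw [← hcomm, commutator_def]
    exact Subgroup.commutator_mem_commutator (Subgroup.mem_top _) (Subgroup.mem_top _)
  have hcen : ∀ c ∈ Subgroup.center P, ∀ x : P, x * c = c * x := fun c hc x =>
    Subgroup.mem_center_iff.1 hc x
  have hZE : Subgroup.center P ≤ E := by
    intro c hc
    apply hno
    rw [← hcen c hc y]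
    group
  obtain ⟨z, hz⟩ : ∃ z, z = ⁅a, y⁆ := ⟨_, rfl⟩
  have hzc : z ∈ Subgroup.center P := hz ▸ hcm a y
  have hz1 : z ≠ 1 := by
    intro h1
    apply haE
    apply hno
    rw [hz, commutatorElement_def] at h1
    calc a * y * a⁻¹ = (a * y * a⁻¹ * y⁻¹) * y := by group
      _ = y := by rw [h1, one_mul]
  have haconj : a * y * a⁻¹ = z * y := by rw [hz, commutatorElement_def]; group
  have hpow : ∀ k : ℕ, a ^ k * y * (a ^ k)⁻¹ = z ^ k * y := by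
    intro k
    induction k with
    | zero => simp
    | succ k ih =>
      calc a ^ (k + 1) * y * (a ^ (k + 1))⁻¹ = a * (a ^ k * y * (a ^ k)⁻¹) * a⁻¹ := by
            rw [pow_succ']; group
        _ = a * (z ^ k * y) * a⁻¹ := by rw [ih]
        _ = (a * z ^ k) * y * a⁻¹ := by group
        _ = (z ^ k * a) * y * a⁻¹ := by rw [hcen (z ^ k) (Subgroup.pow_mem _ hzc k) a]
        _ = z ^ k * (a * y * a⁻¹) := by group
        _ = z ^ k * (z * y) := by rw [haconj]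
        _ = z ^ (k + 1) * y := by rw [pow_succ]; group
  have hgen : ∀ q : P, ∃ k : ℕ, (a ^ k)⁻¹ * q ∈ E := by
    intro q
    obtain ⟨k, hk⟩ := aby_gen hcard hzc hz1 ⁅q, y⁆ (hcm q y)
    refine ⟨k, hno _ ?_⟩
    have h1 : q * y * q⁻¹ = z ^ k * y := by rw [hk, commutatorElement_def]; group
    calc (a ^ k)⁻¹ * q * y * ((a ^ k)⁻¹ * q)⁻¹ = (a ^ k)⁻¹ * (q * y * q⁻¹) * a ^ k := by group
      _ = (a ^ k)⁻¹ * (a ^ k * y * (a ^ k)⁻¹) * a ^ k := by rw [h1, hpow k]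
      _ = y := by group
  have hidx1 : E.index ≤ p := by
    rw [← hcard]
    apply abz_index_le E (fun q => (⟨⁅q, y⁆, hcm q y⟩ : ↥(Subgroup.center P)))
    intro q₁ q₂ h12
    have h1 : ⁅q₁, y⁆ = ⁅q₂, y⁆ := congrArg Subtype.val h12
    rw [commutatorElement_def, commutatorElement_def] at h1
    apply hno
    have h2 : q₁ * y * q₁⁻¹ = q₂ * y * q₂⁻¹ := by
      calc q₁ * y * q₁⁻¹ = (q₁ * y * q₁⁻¹ * y⁻¹) * y := by group
        _ = (q₂ * y * q₂⁻¹ * y⁻¹) * y := by rw [h1]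
        _ = q₂ * y * q₂⁻¹ := by group
    calc q₁⁻¹ * q₂ * y * (q₁⁻¹ * q₂)⁻¹ = q₁⁻¹ * (q₂ * y * q₂⁻¹) * q₁ := by group
      _ = q₁⁻¹ * (q₁ * y * q₁⁻¹) * q₁ := by rw [h2]
      _ = y := by group
  have hidx2 : ((Subgroup.center P).subgroupOf E).index ≤ p := by
    rw [← hcard]
    apply abz_index_le _ (fun e : ↥E => (⟨⁅(e : P), a⁆, hcm _ a⟩ : ↥(Subgroup.center P)))
    intro e₁ e₂ h12
    have h1 : ⁅(e₁ : P), a⁆ = ⁅(e₂ : P), a⁆ := congrArg Subtype.val h12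
    rw [commutatorElement_def, commutatorElement_def] at h1
    rw [Subgroup.mem_subgroupOf]
    have h2 : (e₁ : P) * a * (e₁ : P)⁻¹ = e₂ * a * (e₂ : P)⁻¹ := by
      calc (e₁ : P) * a * (e₁ : P)⁻¹ = ((e₁ : P) * a * (e₁ : P)⁻¹ * a⁻¹) * a := by group
        _ = ((e₂ : P) * a * (e₂ : P)⁻¹ * a⁻¹) * a := by rw [h1]
        _ = e₂ * a * (e₂ : P)⁻¹ := by group
    obtain ⟨d, hd⟩ : ∃ d : P, d = (e₁ : P)⁻¹ * e₂ := ⟨_, rfl⟩
    have hdE : d ∈ E := hd ▸ E.mul_mem (E.inv_mem e₁.2) e₂.2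
    have hda : d * a = a * d := by
      calc d * a = (e₁ : P)⁻¹ * (e₂ * a * (e₂ : P)⁻¹) * e₂ := by rw [hd]; group
        _ = (e₁ : P)⁻¹ * ((e₁ : P) * a * (e₁ : P)⁻¹) * e₂ := by rw [h2]
        _ = a * d := by rw [hd]; group
    show ((e₁⁻¹ * e₂ : ↥E) : P) ∈ Subgroup.center P
    have e3 : ((e₁⁻¹ * e₂ : ↥E) : P) = d := by rw [hd]; rfl
    rw [e3, Subgroup.mem_center_iff]
    intro q
    obtain ⟨k, hk⟩ := hgen q
    have hdk : d * a ^ k = a ^ k * d := (Commute.pow_right (show Commute d a from hda) k).eq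
    have hde : d * ((a ^ k)⁻¹ * q) = ((a ^ k)⁻¹ * q) * d := hEab _ hdE _ hk
    calc q * d = a ^ k * (((a ^ k)⁻¹ * q) * d) := by group
      _ = a ^ k * (d * ((a ^ k)⁻¹ * q)) := by rw [hde]
      _ = (a ^ k * d) * (a ^ k)⁻¹ * q := by group
      _ = (d * a ^ k) * (a ^ k)⁻¹ * q := by rw [hdk]
      _ = d * q := by group
  have hc1 := Subgroup.card_mul_index E
  have hc2 := Subgroup.card_mul_index ((Subgroup.center P).subgroupOf E)
  have hc3 : Nat.card ↥((Subgroup.center P).subgroupOf E) = p :=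
    (Nat.card_congr (Subgroup.subgroupOfEquivOfLe hZE).toEquiv).trans hcard
  rw [hc3] at hc2
  calc Nat.card P = Nat.card ↥E * E.index := hc1.symm
    _ = p * ((Subgroup.center P).subgroupOf E).index * E.index := by rw [hc2]
    _ ≤ p * p * p := Nat.mul_le_mul (Nat.mul_le_mul_left _ hidx2) hidx1

/-- An essential subgroup contained in an extraspecial subgroup `Q` of index `p` of `S`, where
`|S| ≥ p⁶`, is `Q` itself. -/
theorem abz_ess_in_extra {Ω : Type*} [Group Ω] {S : Subgroup Ω} [Finite S] (p : ℕ)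
    [Fact p.Prime] (hS : IsPGroup p S) (Q : Subgroup Ω) (hQS : Q ≤ S)
    (hQ : Cfsg.IsExtraspecial p ↥Q) (hQi : (Q.subgroupOf S).index = p)
    (h6 : p ^ 6 ≤ Nat.card S) (F : Cfsg.FusionSystem S) (hF : F.IsSaturated p)
    (E : Subgroup Ω) (hEQ : E ≤ Q) (hE : F.IsEssential p E) : E = Q := by
  have hpr := (Fact.out : p.Prime)
  by_contra hne
  have hES : E ≤ S := hEQ.trans hQS
  haveI hEfin : Finite ↥E := finite_of_le hES
  haveI hQfin : Finite ↥Q := finite_of_le hQS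
  have hcen : centralizerIn S E ≤ E := hE.1.2 E (isConj_refl F hES)
  obtain ⟨⟨hQp, hfr, hcomm⟩, hcardZ⟩ := hQ
  have hcm : ∀ s ∈ Q, ∀ t ∈ Q, ∀ q ∈ Q,
      q * (s * t * s⁻¹ * t⁻¹) = (s * t * s⁻¹ * t⁻¹) * q := by
    intro s hs t ht q hq
    have h1 : ⁅(⟨s, hs⟩ : ↥Q), ⟨t, ht⟩⁆ ∈ commutator ↥Q := by
      rw [commutator_def]
      exact Subgroup.commutator_mem_commutator (Subgroup.mem_top _) (Subgroup.mem_top _)
    rw [hcomm] at h1
    have h2 := Subgroup.mem_center_iff.1 h1 ⟨q, hq⟩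
    rw [commutatorElement_def] at h2
    exact congrArg Subtype.val h2
  obtain ⟨a, haQ, haE⟩ := SetLike.exists_of_lt (lt_of_le_of_ne hEQ hne)
  obtain ⟨Zq, hZqdef⟩ : ∃ Zq : Subgroup Ω, Zq = Q ⊓ Subgroup.centralizer (Q : Set Ω) :=
    ⟨_, rfl⟩
  have hZqmem : ∀ z : Ω, z ∈ Zq ↔ z ∈ Q ∧ ∀ q ∈ Q, q * z = z * q := by
    intro z
    rw [hZqdef, Subgroup.mem_inf, Subgroup.mem_centralizer_iff]
    rfl
  have hcardZq : Nat.card ↥Zq = p := by
    have e : (Subgroup.center ↥Q).map Q.subtype = Zq := by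
      ext z
      rw [hZqmem]
      constructor
      · rintro ⟨w, hw, rfl⟩
        exact ⟨w.2, fun q hq => congrArg Subtype.val (Subgroup.mem_center_iff.1 hw ⟨q, hq⟩)⟩
      · rintro ⟨hzQ, hzc⟩
        exact ⟨⟨z, hzQ⟩, Subgroup.mem_center_iff.2 (fun g => Subtype.ext (hzc g g.2)), rfl⟩
    rw [← e, Subgroup.card_subtype]
    exact hcardZ
  have hZqE : Zq ≤ E := by
    intro z hz
    obtain ⟨hzQ, hzc⟩ := (hZqmem z).1 hz
    exact hcen (mem_centralizerIn.2 ⟨hQS hzQ, fun y hy => hzc y (hEQ hy)⟩)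
  have hcomZ : ∀ s ∈ Q, ∀ t ∈ Q, s * t * s⁻¹ * t⁻¹ ∈ Zq := fun s hs t ht =>
    (hZqmem _).2 ⟨Q.mul_mem (Q.mul_mem (Q.mul_mem hs ht) (Q.inv_mem hs)) (Q.inv_mem ht),
      fun q hq => hcm s hs t ht q hq⟩
  have hnorm : ∀ s ∈ Q, s ∈ Subgroup.normalizer (E : Set Ω) := by
    intro s hs
    apply Subgroup.mem_normalizer_fintype
    intro y hy
    have e : s * y * s⁻¹ = (s * y * s⁻¹ * y⁻¹) * y := by group
    rw [e]
    exact E.mul_mem (hZqE (hcomZ s hs y (hEQ hy))) hy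
  obtain ⟨cj, hcj⟩ : ∃ cj : ∀ s, s ∈ Q → MulAut ↥E,
      ∀ s hs (y : ↥E), ((cj s hs y : ↥E) : Ω) = s * y * s⁻¹ :=
    ⟨fun s hs => E.normalizerMonoidHom ⟨s, hnorm s hs⟩, fun s hs y => rfl⟩
  obtain ⟨g, hgG, hK⟩ := aby_fusK p hS F hF hE
  obtain ⟨Z₀', hZ₀'⟩ : ∃ Z₀' : Subgroup ↥E, Z₀' = Zq.subgroupOf E := ⟨_, rfl⟩
  have hmem : ∀ e : ↥E, e ∈ Z₀' ↔ (e : Ω) ∈ Zq := fun e => by
    rw [hZ₀', Subgroup.mem_subgroupOf]
  have hcard' : Nat.card ↥Z₀' = p := by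
    rw [hZ₀']
    exact (Nat.card_congr (Subgroup.subgroupOfEquivOfLe hZqE).toEquiv).trans hcardZq
  obtain ⟨c₀, hc₀, hc₀1⟩ := aby_exists_ne_one hcard'
  have hcenZ : ∀ c ∈ Z₀', ∀ y : ↥E, c * y = y * c := fun c hc y =>
    Subtype.ext (((hZqmem _).1 ((hmem c).1 hc)).2 y (hEQ y.2)).symm
  have hfixZ : ∀ s hs, ∀ c ∈ Z₀', cj s hs c = c := by
    intro s hs c hc
    apply Subtype.ext
    rw [hcj, ((hZqmem _).1 ((hmem c).1 hc)).2 s hs]
    group
  have hdisp : ∀ s hs (y : ↥E), cj s hs y * y⁻¹ ∈ Z₀' := by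
    intro s hs y
    rw [hmem]
    show ((cj s hs y : ↥E) : Ω) * (y : Ω)⁻¹ ∈ Zq
    rw [hcj]
    exact hcomZ s hs y (hEQ y.2)
  have hK1 : ∀ s (hs : s ∈ Q) s' (hs' : s' ∈ Q), s ∉ E → s' ∉ E →
      cj s hs (g c₀) = g c₀ → cj s' hs' (g⁻¹ c₀) = g⁻¹ c₀ → False := by
    intro s hs s' hs' hsE hs'E h1 h2
    obtain ⟨t, ht⟩ : ∃ t, t = cj s hs := ⟨_, rfl⟩
    obtain ⟨t', ht'⟩ : ∃ t', t' = cj s' hs' := ⟨_, rfl⟩
    apply hK t t' ⟨s, hQS hs, hsE, fun y => by rw [ht]; exact hcj s hs y⟩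
      ⟨s', hQS hs', hs'E, fun y => by rw [ht']; exact hcj s' hs' y⟩
    have hcenC : ∀ c ∈ Z₀'.map g.toMonoidHom, ∀ y : ↥E, c * y = y * c := by
      rintro _ ⟨c, hc, rfl⟩ y
      have e1 : g.toMonoidHom c * y = g (c * g⁻¹ y) := by
        show g c * y = g (c * g⁻¹ y)
        rw [map_mul, MulAut.apply_inv_self]
      have e2 : y * g.toMonoidHom c = g (g⁻¹ y * c) := by
        show y * g c = g (g⁻¹ y * c)
        rw [map_mul, MulAut.apply_inv_self]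
      rw [e1, e2, hcenZ c hc]
    refine abx_commute {d : ↥E | d ∈ Z₀' ∨ d ∈ Z₀'.map g.toMonoidHom} ?_ t (g * t' * g⁻¹)
      ?_ ?_ ?_ ?_
    · rintro u (hu | hu) v _
      · exact hcenZ u hu v
      · exact hcenC u hu v
    · intro y
      exact Or.inl (by rw [ht]; exact hdisp s hs y)
    · intro y
      rw [abx_conj_apply]
      exact Or.inr ⟨_, (by rw [ht']; exact hdisp s' hs' _), rfl⟩
    · rintro u (hu | hu)
      · rw [ht]; exact hfixZ s hs u hu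
      · obtain ⟨c, hc, rfl⟩ := hu
        obtain ⟨n, rfl⟩ := aby_gen hcard' hc₀ hc₀1 c hc
        show t (g (c₀ ^ n)) = g (c₀ ^ n)
        rw [map_pow, map_pow, ht, h1]
    · rintro u (hu | hu)
      · obtain ⟨n, rfl⟩ := aby_gen hcard' hc₀ hc₀1 u hu
        have e : (g * t' * g⁻¹) c₀ = c₀ := by
          show g (t' (g⁻¹ c₀)) = c₀
          rw [ht', h2, MulAut.apply_inv_self]
        rw [map_pow, e]
      · obtain ⟨c, hc, rfl⟩ := hu
        show g (t' (g⁻¹ (g c))) = g c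
        rw [MulAut.inv_apply_self, ht', hfixZ s' hs' c hc]
  by_cases hab : ∀ e e' : ↥E, e * e' = e' * e
  · have hex : ∀ y : ↥E, ∃ s, ∃ hs : s ∈ Q, s ∉ E ∧ cj s hs y = y := by
      intro y
      by_contra hno
      have hno' : ∀ s : ↥Q, s * ⟨y, hEQ y.2⟩ * s⁻¹ = ⟨y, hEQ y.2⟩ → s ∈ E.subgroupOf Q := by
        intro s hs
        by_contra hsE
        apply hno
        refine ⟨s, s.2, fun h => hsE (Subgroup.mem_subgroupOf.2 h), Subtype.ext ?_⟩
        rw [hcj]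
        exact congrArg Subtype.val hs
      have hcount : Nat.card ↥Q ≤ p * p * p := by
        refine abz_count hcomm hcardZ (E.subgroupOf Q) ?_ (a := ⟨a, haQ⟩) ?_ hno'
        · intro e he e' he'
          have h0 := hab ⟨e, Subgroup.mem_subgroupOf.1 he⟩ ⟨e', Subgroup.mem_subgroupOf.1 he'⟩
          have h1 : ((e : ↥Q) : Ω) * ((e' : ↥Q) : Ω) = ((e' : ↥Q) : Ω) * ((e : ↥Q) : Ω) :=
            congrArg Subtype.val h0
          exact Subtype.ext h1
        · intro h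
          exact haE (Subgroup.mem_subgroupOf.1 h)
      have h7 : Nat.card ↥S ≤ p ^ 4 := by
        rw [← Subgroup.card_mul_index (Q.subgroupOf S), hQi,
          Nat.card_congr (Subgroup.subgroupOfEquivOfLe hQS).toEquiv]
        calc Nat.card ↥Q * p ≤ (p * p * p) * p := Nat.mul_le_mul_right p hcount
          _ = p ^ 4 := by ring
      exact absurd (h6.trans h7) (not_le.2 (Nat.pow_lt_pow_right hpr.one_lt (by norm_num)))
    obtain ⟨s, hs, hsE, h1⟩ := hex (g c₀)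
    obtain ⟨s', hs', hs'E, h2⟩ := hex (g⁻¹ c₀)
    exact hK1 s hs s' hs' hsE hs'E h1 h2
  · have hab' : ∃ e₁ e₂ : ↥E, e₁ * e₂ ≠ e₂ * e₁ := by
      by_contra hcon
      apply hab
      intro e e'
      by_contra hne'
      exact hcon ⟨e, e', hne'⟩
    obtain ⟨e₁, e₂, he⟩ := hab'
    obtain ⟨w, hwdef⟩ : ∃ w : ↥E, w = e₁ * e₂ * e₁⁻¹ * e₂⁻¹ := ⟨_, rfl⟩
    have hw : w ∈ Z₀' := by
      rw [hmem, hwdef]
      exact hcomZ e₁ (hEQ e₁.2) e₂ (hEQ e₂.2)
    have hw1 : w ≠ 1 := by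
      intro h1
      apply he
      calc e₁ * e₂ = (e₁ * e₂ * e₁⁻¹ * e₂⁻¹) * e₂ * e₁ := by group
        _ = e₂ * e₁ := by rw [← hwdef, h1, one_mul]
    have hpres : ∀ γ : MulAut ↥E, ∀ c ∈ Z₀', γ c ∈ Z₀' := by
      intro γ c hc
      obtain ⟨n, rfl⟩ := aby_gen hcard' hw hw1 c hc
      rw [map_pow]
      apply Subgroup.pow_mem
      have e : γ w = γ e₁ * γ e₂ * (γ e₁)⁻¹ * (γ e₂)⁻¹ := by
        rw [hwdef, map_mul, map_mul, map_mul, map_inv, map_inv]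
      rw [e, hmem]
      exact hcomZ _ (hEQ (γ e₁).2) _ (hEQ (γ e₂).2)
    exact hK1 a haQ a haQ haE haE (hfixZ a haQ _ (hpres g c₀ hc₀))
      (hfixZ a haQ _ (hpres g⁻¹ c₀ hc₀))

end AbzExtra

end Cfsg.Agent.Helper26
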