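import Mathlib
import Cfsg.Agent.Helper26.StronglyEmbedded

set_option autoImplicit false

namespace Cfsg.Agent.Helper26

open Cfsg

/-- An element of finite order conjugating `c` to a power of `c` normalises `⟨c⟩`. -/
theorem mem_normalizer_zpowers_of_conj {G : Type*} [Group G] (a c : G) (n : ℕ) (hn : 0 < n)
    (han : a ^ n = 1) (k : ℕ) (hconj : a * c * a⁻¹ = c ^ k) :
    a ∈ Subgroup.normalizer (Subgroup.zpowers c : Set G) := by
  have hfwd : ∀ h ∈ Subgroup.zpowers c, a * h * a⁻¹ ∈ Subgroup.zpowers c := by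
    intro h hh
    obtain ⟨m, rfl⟩ := Subgroup.mem_zpowers_iff.1 hh
    rw [← conj_zpow, hconj]
    exact Subgroup.zpow_mem _ (Subgroup.pow_mem _ (Subgroup.mem_zpowers c) k) m
  have hpow : ∀ (t : ℕ) (h : G), h ∈ Subgroup.zpowers c →
      a ^ t * h * (a ^ t)⁻¹ ∈ Subgroup.zpowers c := by
    intro t
    induction t with
    | zero =>
      intro h hh
      have e : a ^ 0 * h * (a ^ 0)⁻¹ = h := by simp
      rw [e]
      exact hh
    | succ t ih =>
      intro h hh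
      have e : a ^ (t + 1) * h * (a ^ (t + 1))⁻¹ = a * (a ^ t * h * (a ^ t)⁻¹) * a⁻¹ := by
        rw [pow_succ', mul_inv_rev]
        simp only [mul_assoc]
      rw [e]
      exact hfwd _ (ih h hh)
  have hainv : a ^ (n - 1) = a⁻¹ := by
    have hpos : 1 ≤ n := hn
    have h1 : a ^ (n - 1) * a = 1 := by
      rw [← pow_succ, Nat.sub_add_cancel hpos, han]
    exact eq_inv_of_mul_eq_one_left h1
  rw [Subgroup.mem_normalizer_iff]
  intro h
  refine ⟨hfwd h, fun hh => ?_⟩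
  have h2 := hpow (n - 1) _ hh
  rw [hainv] at h2
  have e : a⁻¹ * (a * h * a⁻¹) * a⁻¹⁻¹ = h := by group
  rw [e] at h2
  exact h2

section EssP2

variable {V : Type*} [CommGroup V] {p : ℕ} [Fact p.Prime]

theorem ep_pow_mod {x : V} (hx : x ^ p = 1) (m : ℕ) : x ^ (m % p) = x ^ m := by
  conv_rhs => rw [← Nat.mod_add_div m p]
  rw [pow_add, pow_mul, hx, one_pow, mul_one]

theorem ep_val_add (hV : ∀ v : V, v ^ p = 1) (x : V) (a b : ZMod p) :
    x ^ (a + b).val = x ^ a.val * x ^ b.val := by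
  have hne : NeZero p := ⟨(Fact.out : p.Prime).ne_zero⟩
  rw [ZMod.val_add, ep_pow_mod (hV x), pow_add]

theorem ep_val_mul (hV : ∀ v : V, v ^ p = 1) (x : V) (a b : ZMod p) :
    x ^ (a * b).val = (x ^ a.val) ^ b.val := by
  rw [ZMod.val_mul, ep_pow_mod (hV x), pow_mul]

theorem ep_val_one (x : V) : x ^ (1 : ZMod p).val = x := by
  rw [ZMod.val_one, pow_one]

theorem ep_val_natCast (hV : ∀ v : V, v ^ p = 1) (x : V) (n : ℕ) :
    x ^ ((n : ZMod p)).val = x ^ n := by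
  rw [ZMod.val_natCast, ep_pow_mod (hV x)]

/-- coordinates with respect to a pair `x, y` in an elementary abelian `p`-group -/
def coordHom (hV : ∀ v : V, v ^ p = 1) (x y : V) : Multiplicative (Fin 2 → ZMod p) →* V where
  toFun w := x ^ (Multiplicative.toAdd w 0).val * y ^ (Multiplicative.toAdd w 1).val
  map_one' := by
    show x ^ ((0 : Fin 2 → ZMod p) 0).val * y ^ ((0 : Fin 2 → ZMod p) 1).val = 1
    simp
  map_mul' w₁ w₂ := by
    show x ^ ((Multiplicative.toAdd w₁ + Multiplicative.toAdd w₂) 0).val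
        * y ^ ((Multiplicative.toAdd w₁ + Multiplicative.toAdd w₂) 1).val
      = (x ^ (Multiplicative.toAdd w₁ 0).val * y ^ (Multiplicative.toAdd w₁ 1).val)
        * (x ^ (Multiplicative.toAdd w₂ 0).val * y ^ (Multiplicative.toAdd w₂ 1).val)
    rw [Pi.add_apply, Pi.add_apply, ep_val_add hV, ep_val_add hV]
    exact mul_mul_mul_comm _ _ _ _

theorem coordHom_apply (hV : ∀ v : V, v ^ p = 1) (x y : V)
    (w : Multiplicative (Fin 2 → ZMod p)) :
    coordHom hV x y w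
      = x ^ (Multiplicative.toAdd w 0).val * y ^ (Multiplicative.toAdd w 1).val := rfl

theorem coordHom_ofAdd (hV : ∀ v : V, v ^ p = 1) (x y : V) (a b : ZMod p) :
    coordHom hV x y (Multiplicative.ofAdd ![a, b]) = x ^ a.val * y ^ b.val := rfl

theorem ep_inv_pow (hV : ∀ v : V, v ^ p = 1) {u w : V} {n : ℕ} (h : u = w ^ n) (hu : u ≠ 1) :
    ∃ m : ℕ, w = u ^ m := by
  have hn : ((n : ZMod p)) ≠ 0 := by
    intro h0
    apply hu
    rw [h, ← ep_val_natCast hV w n, h0, ZMod.val_zero, pow_zero]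
  refine ⟨((n : ZMod p))⁻¹.val, ?_⟩
  rw [h, ← ep_val_natCast hV w n, ← ep_val_mul hV, mul_inv_cancel₀ hn, ep_val_one]

theorem coordHom_bijective (hV : ∀ v : V, v ^ p = 1) (hcard : Nat.card V = p ^ 2) {x y : V}
    (hx : x ≠ 1) (hy : ∀ n : ℕ, y ≠ x ^ n) : Function.Bijective (coordHom hV x y) := by
  have hne : NeZero p := ⟨(Fact.out : p.Prime).ne_zero⟩
  have hfin : Finite V := Nat.finite_of_card_ne_zero (by
    rw [hcard]; exact pow_ne_zero 2 (Fact.out : p.Prime).ne_zero)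
  have hinj : Function.Injective (coordHom hV x y) := by
    rw [injective_iff_map_eq_one]
    intro w hw
    rw [coordHom_apply] at hw
    have h1 : Multiplicative.toAdd w 1 = 0 := by
      by_contra hne1
      have h2 : y ^ (Multiplicative.toAdd w 1).val = x ^ (-(Multiplicative.toAdd w 0)).val := by
        have h3 : x ^ (Multiplicative.toAdd w 0).val * x ^ (-(Multiplicative.toAdd w 0)).val
            = 1 := by
          rw [← ep_val_add hV, add_neg_cancel, ZMod.val_zero, pow_zero]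
        exact mul_left_cancel (hw.trans h3.symm)
      have h4 : y = (x ^ (-(Multiplicative.toAdd w 0)).val)
          ^ ((Multiplicative.toAdd w 1)⁻¹).val := by
        rw [← h2, ← ep_val_mul hV, mul_inv_cancel₀ hne1, ep_val_one]
      rw [← pow_mul] at h4
      exact hy _ h4
    have h0 : Multiplicative.toAdd w 0 = 0 := by
      by_contra hne0
      rw [h1, ZMod.val_zero, pow_zero, mul_one] at hw
      apply hx
      calc x = (x ^ (Multiplicative.toAdd w 0).val) ^ ((Multiplicative.toAdd w 0)⁻¹).val := by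
            rw [← ep_val_mul hV, mul_inv_cancel₀ hne0, ep_val_one]
        _ = 1 := by rw [hw, one_pow]
    have h5 : Multiplicative.toAdd w = 0 := by
      funext i
      fin_cases i
      · exact h0
      · exact h1
    exact h5
  have h6 : Nat.card (Multiplicative (Fin 2 → ZMod p)) = p ^ 2 := by
    rw [Nat.card_congr (Multiplicative.toAdd : Multiplicative (Fin 2 → ZMod p) ≃ (Fin 2 → ZMod p)),
      Nat.card_eq_fintype_card, Fintype.card_fun, ZMod.card, Fintype.card_fin]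
  exact hinj.bijective_of_nat_card_le (hcard.trans h6.symm).le

theorem ep_exists_fixed (hcard : Nat.card V = p ^ 2) (σ : MulAut V) (hσ : σ ^ p = 1) :
    ∃ x : V, x ≠ 1 ∧ σ x = x := by
  have hfin : Finite V := Nat.finite_of_card_ne_zero (by
    rw [hcard]; exact pow_ne_zero 2 (Fact.out : p.Prime).ne_zero)
  have hG : IsPGroup p ↥(Subgroup.zpowers σ) := by
    intro g
    obtain ⟨m, hm⟩ := Subgroup.mem_zpowers_iff.1 g.2
    refine ⟨1, Subtype.ext ?_⟩
    rw [Subgroup.coe_pow, Subgroup.coe_one, ← hm, pow_one, ← zpow_natCast, ← zpow_mul, mul_comm,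
      zpow_mul, zpow_natCast, hσ, one_zpow]
  have hdvd : p ∣ Nat.card V := by rw [hcard]; exact dvd_pow_self p two_ne_zero
  have h1 : (1 : V) ∈ MulAction.fixedPoints ↥(Subgroup.zpowers σ) V := by
    rw [MulAction.mem_fixedPoints]
    intro m
    exact map_one (m : MulAut V)
  obtain ⟨b, hb, hb1⟩ := hG.exists_fixed_point_of_prime_dvd_card_of_fixed_point V hdvd h1
  refine ⟨b, fun h => hb1 h.symm, ?_⟩
  rw [MulAction.mem_fixedPoints] at hb
  exact hb ⟨σ, Subgroup.mem_zpowers σ⟩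

theorem ep_exists_off_line (hV : ∀ v : V, v ^ p = 1) (hcard : Nat.card V = p ^ 2) (x : V) :
    ∃ z : V, ∀ n : ℕ, z ≠ x ^ n := by
  have hp := (Fact.out : p.Prime)
  by_contra hcon
  have hcon' : ∀ z : V, ∃ n : ℕ, z = x ^ n := by
    intro z
    by_contra h
    exact hcon ⟨z, fun n hn => h ⟨n, hn⟩⟩
  have hsurj : Function.Surjective (fun i : Fin p => x ^ (i : ℕ)) := by
    intro z
    obtain ⟨n, hn⟩ := hcon' z
    refine ⟨⟨n % p, Nat.mod_lt _ hp.pos⟩, ?_⟩
    show x ^ (n % p) = z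
    rw [ep_pow_mod (hV x), hn]
  have h1 := Nat.card_le_card_of_surjective _ hsurj
  rw [hcard, Nat.card_eq_fintype_card, Fintype.card_fin] at h1
  have h2 : p * 2 ≤ p * p := Nat.mul_le_mul_left p hp.two_le
  have h3 := hp.two_le
  rw [pow_two] at h1
  omega

theorem ep_pow_apply (α : MulAut V) {z u : V} (hu : α u = u) (hz : α z = z * u) (n : ℕ) :
    (α ^ n) z = z * u ^ n := by
  induction n with
  | zero => rw [pow_zero, pow_zero, mul_one, MulAut.one_apply]
  | succ n ih =>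
    rw [pow_succ' α n, MulAut.mul_apply, ih, map_mul, map_pow, hu, hz, pow_succ' u n, mul_assoc]

theorem ep_pow_fix (α : MulAut V) {x : V} (hx : α x = x) (n : ℕ) : (α ^ n) x = x := by
  induction n with
  | zero => rw [pow_zero, MulAut.one_apply]
  | succ n ih => rw [pow_succ', MulAut.mul_apply, ih, hx]

theorem ep_ext (hV : ∀ v : V, v ^ p = 1) {x y : V}
    (hb : Function.Bijective (coordHom hV x y)) {α β : MulAut V} (hx : α x = β x)
    (hy : α y = β y) : α = β := by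
  refine MulEquiv.ext fun v => ?_
  obtain ⟨w, rfl⟩ := hb.2 v
  rw [coordHom_apply, map_mul, map_pow, map_pow, map_mul, map_pow, map_pow, hx, hy]

theorem ep_fix_structure (hV : ∀ v : V, v ^ p = 1) {x z : V}
    (hb : Function.Bijective (coordHom hV x z)) (α : MulAut V) (hαp : α ^ p = 1)
    (hαx : α x = x) : ∃ a : ZMod p, α z = z * x ^ a.val := by
  obtain ⟨w, hw⟩ := hb.2 (α z)
  rw [coordHom_apply] at hw
  obtain ⟨a, ha⟩ : ∃ a : ZMod p, a = Multiplicative.toAdd w 0 := ⟨_, rfl⟩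
  obtain ⟨c, hc⟩ : ∃ c : ZMod p, c = Multiplicative.toAdd w 1 := ⟨_, rfl⟩
  rw [← ha, ← hc] at hw
  have hpow : ∀ n : ℕ, ∃ s : ZMod p, (α ^ n) z = x ^ s.val * z ^ (c ^ n).val := by
    intro n
    induction n with
    | zero =>
      refine ⟨0, ?_⟩
      rw [pow_zero, pow_zero, MulAut.one_apply, ZMod.val_zero, pow_zero, one_mul, ep_val_one]
    | succ n ih =>
      obtain ⟨s, hs⟩ := ih
      refine ⟨s + a * c ^ n, ?_⟩
      have e1 : (α ^ (n + 1)) z = α ((α ^ n) z) := by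
        rw [pow_succ', MulAut.mul_apply]
      rw [e1, hs, map_mul, map_pow, map_pow, hαx, ← hw, mul_pow, ← ep_val_mul hV,
        ← ep_val_mul hV, ← mul_assoc, ← ep_val_add hV, pow_succ' c n]
  obtain ⟨s, hs⟩ := hpow p
  rw [hαp, ZMod.pow_card] at hs
  have h1 : coordHom hV x z (Multiplicative.ofAdd ![0, 1])
      = coordHom hV x z (Multiplicative.ofAdd ![s, c]) := by
    rw [coordHom_ofAdd, coordHom_ofAdd, ZMod.val_zero, pow_zero, one_mul, ep_val_one]
    exact hs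
  have h2 : (![0, 1] : Fin 2 → ZMod p) = ![s, c] := Multiplicative.ofAdd.injective (hb.1 h1)
  have h3 : (1 : ZMod p) = c := congrFun h2 1
  refine ⟨a, ?_⟩
  rw [← hw, ← h3, ep_val_one, mul_comm]

/-! ### The action of `SL(2, p)` -/

/-- The action of `SL(2, p)` on an elementary abelian group of order `p²` with coordinates `e`. -/
noncomputable def sl2Hom (e : Multiplicative (Fin 2 → ZMod p) ≃* V) :
    Matrix.SpecialLinearGroup (Fin 2) (ZMod p) →* MulAut V :=
  (MulAut.congr e).toMonoidHom.comp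
    ((MulAutMultiplicative (Fin 2 → ZMod p)).symm.toMonoidHom.comp
      ((DistribMulAction.toAddAut ((Fin 2 → ZMod p) ≃ₗ[ZMod p] (Fin 2 → ZMod p))
        (Fin 2 → ZMod p)).comp Matrix.SpecialLinearGroup.toLin'))

theorem sl2Hom_apply (e : Multiplicative (Fin 2 → ZMod p) ≃* V)
    (g : Matrix.SpecialLinearGroup (Fin 2) (ZMod p)) (w : Multiplicative (Fin 2 → ZMod p)) :
    sl2Hom e g (e w) = e (Multiplicative.ofAdd (g.1.mulVec (Multiplicative.toAdd w))) := by
  have h : sl2Hom e g (e w)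
      = e (Multiplicative.ofAdd (g.1.mulVec (Multiplicative.toAdd (e.symm (e w))))) := rfl
  rw [h, e.symm_apply_apply]

theorem mulVec_two (M : Matrix (Fin 2) (Fin 2) (ZMod p)) (a b : ZMod p) (i : Fin 2) :
    M.mulVec ![a, b] i = M i 0 * a + M i 1 * b := by
  simp [Matrix.mulVec, dotProduct, Fin.sum_univ_two]

theorem sl2Hom_coord (hV : ∀ v : V, v ^ p = 1) {x y : V}
    (hb : Function.Bijective (coordHom hV x y))
    (g : Matrix.SpecialLinearGroup (Fin 2) (ZMod p)) (a b : ZMod p) :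
    sl2Hom (MulEquiv.ofBijective (coordHom hV x y) hb) g (x ^ a.val * y ^ b.val)
      = x ^ (g.1 0 0 * a + g.1 0 1 * b).val * y ^ (g.1 1 0 * a + g.1 1 1 * b).val := by
  have h1 : x ^ a.val * y ^ b.val
      = MulEquiv.ofBijective (coordHom hV x y) hb (Multiplicative.ofAdd ![a, b]) := rfl
  have h2 : MulEquiv.ofBijective (coordHom hV x y) hb
        (Multiplicative.ofAdd (g.1.mulVec (Multiplicative.toAdd (Multiplicative.ofAdd ![a, b]))))
      = x ^ (g.1.mulVec ![a, b] 0).val * y ^ (g.1.mulVec ![a, b] 1).val := rfl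
  rw [h1, sl2Hom_apply, h2, mulVec_two, mulVec_two]

/-- upper unitriangular matrices -/
def sl2U (t : ZMod p) : Matrix.SpecialLinearGroup (Fin 2) (ZMod p) :=
  ⟨!![1, t; 0, 1], by rw [Matrix.det_fin_two_of]; ring⟩

/-- lower unitriangular matrices -/
def sl2L (t : ZMod p) : Matrix.SpecialLinearGroup (Fin 2) (ZMod p) :=
  ⟨!![1, 0; t, 1], by rw [Matrix.det_fin_two_of]; ring⟩

theorem sl2Hom_U (hV : ∀ v : V, v ^ p = 1) {x y : V}
    (hb : Function.Bijective (coordHom hV x y)) {σ : MulAut V} (hσx : σ x = x)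
    (hσy : σ y = y * x) (t : ZMod p) :
    sl2Hom (MulEquiv.ofBijective (coordHom hV x y) hb) (sl2U t) = σ ^ t.val := by
  apply ep_ext hV hb
  · have h1 := sl2Hom_coord hV hb (sl2U t) 1 0
    have e1 : ((sl2U t).1 0 0 * 1 + (sl2U t).1 0 1 * 0 : ZMod p) = 1 := by
      show (1 : ZMod p) * 1 + t * 0 = 1
      ring
    have e2 : ((sl2U t).1 1 0 * 1 + (sl2U t).1 1 1 * 0 : ZMod p) = 0 := by
      show (0 : ZMod p) * 1 + 1 * 0 = 0
      ring
    rw [e1, e2, ZMod.val_zero, pow_zero, mul_one, ep_val_one] at h1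
    rw [h1, ep_pow_fix σ hσx]
  · have h1 := sl2Hom_coord hV hb (sl2U t) 0 1
    have e1 : ((sl2U t).1 0 0 * 0 + (sl2U t).1 0 1 * 1 : ZMod p) = t := by
      show (1 : ZMod p) * 0 + t * 1 = t
      ring
    have e2 : ((sl2U t).1 1 0 * 0 + (sl2U t).1 1 1 * 1 : ZMod p) = 1 := by
      show (0 : ZMod p) * 0 + 1 * 1 = 1
      ring
    rw [e1, e2, ZMod.val_zero, pow_zero, one_mul, ep_val_one] at h1
    rw [h1, ep_pow_apply σ hσx hσy, mul_comm]

theorem sl2Hom_L (hV : ∀ v : V, v ^ p = 1) {x y : V}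
    (hb : Function.Bijective (coordHom hV x y)) {τ : MulAut V} (hτy : τ y = y)
    (hτx : τ x = x * y) (t : ZMod p) :
    sl2Hom (MulEquiv.ofBijective (coordHom hV x y) hb) (sl2L t) = τ ^ t.val := by
  apply ep_ext hV hb
  · have h1 := sl2Hom_coord hV hb (sl2L t) 1 0
    have e1 : ((sl2L t).1 0 0 * 1 + (sl2L t).1 0 1 * 0 : ZMod p) = 1 := by
      show (1 : ZMod p) * 1 + 0 * 0 = 1
      ring
    have e2 : ((sl2L t).1 1 0 * 1 + (sl2L t).1 1 1 * 0 : ZMod p) = t := by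
      show t * 1 + (1 : ZMod p) * 0 = t
      ring
    rw [e1, e2, ZMod.val_zero, pow_zero, mul_one, ep_val_one] at h1
    rw [h1, ep_pow_apply τ hτy hτx]
  · have h1 := sl2Hom_coord hV hb (sl2L t) 0 1
    have e1 : ((sl2L t).1 0 0 * 0 + (sl2L t).1 0 1 * 1 : ZMod p) = 0 := by
      show (1 : ZMod p) * 0 + 0 * 1 = 0
      ring
    have e2 : ((sl2L t).1 1 0 * 0 + (sl2L t).1 1 1 * 1 : ZMod p) = 1 := by
      show t * 0 + (1 : ZMod p) * 1 = 1
      ring
    rw [e1, e2, ZMod.val_zero, pow_zero, one_mul, ep_val_one] at h1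
    rw [h1, ep_pow_fix τ hτy]

theorem sl2_mul_entries (s c r : ZMod p) :
    (sl2U s * sl2L c * sl2U r).1 0 0 = 1 + s * c ∧
    (sl2U s * sl2L c * sl2U r).1 0 1 = (1 + s * c) * r + s ∧
    (sl2U s * sl2L c * sl2U r).1 1 0 = c ∧
    (sl2U s * sl2L c * sl2U r).1 1 1 = c * r + 1 := by
  have h : (sl2U s * sl2L c * sl2U r).1
      = !![1, s; 0, 1] * !![1, 0; c, 1] * !![1, r; 0, 1] := rfl
  rw [h, Matrix.mul_fin_two, Matrix.mul_fin_two]
  refine ⟨?_, ?_, ?_, ?_⟩
  · show (1 * 1 + s * c) * 1 + (1 * 0 + s * 1) * 0 = 1 + s * c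
    ring
  · show (1 * 1 + s * c) * r + (1 * 0 + s * 1) * 1 = (1 + s * c) * r + s
    ring
  · show (0 * 1 + 1 * c) * 1 + (0 * 0 + 1 * 1) * 0 = c
    ring
  · show (0 * 1 + 1 * c) * r + (0 * 0 + 1 * 1) * 1 = c * r + 1
    ring

theorem sl2Hom_mem (hV : ∀ v : V, v ^ p = 1) {x y : V}
    (hb : Function.Bijective (coordHom hV x y)) (A : Subgroup (MulAut V)) {σ τ : MulAut V}
    (hσA : σ ∈ A) (hτA : τ ∈ A) (hσx : σ x = x) (hσy : σ y = y * x) (hτy : τ y = y)
    (hτx : τ x = x * y) (g : Matrix.SpecialLinearGroup (Fin 2) (ZMod p)) :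
    sl2Hom (MulEquiv.ofBijective (coordHom hV x y) hb) g ∈ A := by
  have hU : ∀ t, sl2Hom (MulEquiv.ofBijective (coordHom hV x y) hb) (sl2U t) ∈ A := by
    intro t
    rw [sl2Hom_U hV hb hσx hσy t]
    exact Subgroup.pow_mem A hσA _
  have hL : ∀ t, sl2Hom (MulEquiv.ofBijective (coordHom hV x y) hb) (sl2L t) ∈ A := by
    intro t
    rw [sl2Hom_L hV hb hτy hτx t]
    exact Subgroup.pow_mem A hτA _
  have key : ∀ g : Matrix.SpecialLinearGroup (Fin 2) (ZMod p), g.1 1 0 ≠ 0 →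
      sl2Hom (MulEquiv.ofBijective (coordHom hV x y) hb) g ∈ A := by
    intro g hc
    have hdet : g.1 0 0 * g.1 1 1 - g.1 0 1 * g.1 1 0 = 1 := by
      rw [← Matrix.det_fin_two]
      exact g.2
    obtain ⟨s, hs⟩ : ∃ s : ZMod p, s * g.1 1 0 = g.1 0 0 - 1 :=
      ⟨(g.1 0 0 - 1) * (g.1 1 0)⁻¹, by rw [mul_assoc, inv_mul_cancel₀ hc, mul_one]⟩
    obtain ⟨r, hr⟩ : ∃ r : ZMod p, g.1 1 0 * r = g.1 1 1 - 1 :=
      ⟨(g.1 1 0)⁻¹ * (g.1 1 1 - 1), by rw [← mul_assoc, mul_inv_cancel₀ hc, one_mul]⟩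
    have e00 : 1 + s * g.1 1 0 = g.1 0 0 := by rw [hs]; ring
    have e11 : g.1 1 0 * r + 1 = g.1 1 1 := by rw [hr]; ring
    have e01 : (1 + s * g.1 1 0) * r + s = g.1 0 1 := by
      have h1 : ((1 + s * g.1 1 0) * r + s - g.1 0 1) * g.1 1 0 = 0 := by
        linear_combination g.1 1 1 * hs + (s * g.1 1 0 + 1) * hr + hdet
      exact sub_eq_zero.1 ((mul_eq_zero.1 h1).resolve_right hc)
    obtain ⟨h00, h01, h10, h11⟩ := sl2_mul_entries s (g.1 1 0) r
    have hprod : sl2U s * sl2L (g.1 1 0) * sl2U r = g :=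
      Matrix.SpecialLinearGroup.ext _ _ (Fin.forall_fin_two.2
        ⟨Fin.forall_fin_two.2 ⟨h00.trans e00, h01.trans e01⟩,
          Fin.forall_fin_two.2 ⟨h10, h11.trans e11⟩⟩)
    have h2 : sl2Hom (MulEquiv.ofBijective (coordHom hV x y) hb) g
        = sl2Hom (MulEquiv.ofBijective (coordHom hV x y) hb) (sl2U s)
          * sl2Hom (MulEquiv.ofBijective (coordHom hV x y) hb) (sl2L (g.1 1 0))
          * sl2Hom (MulEquiv.ofBijective (coordHom hV x y) hb) (sl2U r) := by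
      rw [← map_mul, ← map_mul, hprod]
    rw [h2]
    exact A.mul_mem (A.mul_mem (hU _) (hL _)) (hU _)
  by_cases hc : g.1 1 0 = 0
  · have hdet : g.1 0 0 * g.1 1 1 - g.1 0 1 * g.1 1 0 = 1 := by
      rw [← Matrix.det_fin_two]
      exact g.2
    have h00 : g.1 0 0 ≠ 0 := by
      intro h0
      rw [h0, hc, zero_mul, mul_zero, sub_zero] at hdet
      exact zero_ne_one hdet
    have h1 : (sl2L 1 * g).1 1 0 ≠ 0 := by
      have e : (sl2L 1 * g).1 1 0 = g.1 0 0 + g.1 1 0 := by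
        have h : (sl2L 1 * g).1 = !![1, 0; 1, 1] * g.1 := rfl
        rw [h, Matrix.mul_apply, Fin.sum_univ_two]
        show (1 : ZMod p) * g.1 0 0 + 1 * g.1 1 0 = g.1 0 0 + g.1 1 0
        rw [one_mul, one_mul]
      rw [e, hc, add_zero]
      exact h00
    have h2 := key _ h1
    rw [map_mul] at h2
    have h3 := A.mul_mem (A.inv_mem (hL 1)) h2
    rw [inv_mul_cancel_left] at h3
    exact h3
  · exact key g hc

theorem sl2Hom_injective (e : Multiplicative (Fin 2 → ZMod p) ≃* V) :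
    Function.Injective (sl2Hom e) := by
  intro g g' h
  apply Matrix.SpecialLinearGroup.toLin'_injective
  apply LinearEquiv.ext
  intro v
  have h1 : sl2Hom e g (e (Multiplicative.ofAdd v)) = sl2Hom e g' (e (Multiplicative.ofAdd v)) := by
    rw [h]
  rw [sl2Hom_apply, sl2Hom_apply] at h1
  exact Multiplicative.ofAdd.injective (e.injective h1)

theorem ep_exists_sl2 (hV : ∀ v : V, v ^ p = 1) {x y : V}
    (hb : Function.Bijective (coordHom hV x y)) (A : Subgroup (MulAut V)) {σ τ : MulAut V}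
    (hσA : σ ∈ A) (hτA : τ ∈ A) (hσx : σ x = x) (hσy : σ y = y * x) (hτy : τ y = y)
    (hτx : τ x = x * y) :
    ∃ Φ : Matrix.SpecialLinearGroup (Fin 2) (ZMod p) →* MulAut V,
      Function.Injective Φ ∧ ∀ g, Φ g ∈ A :=
  ⟨sl2Hom (MulEquiv.ofBijective (coordHom hV x y) hb), sl2Hom_injective _,
    sl2Hom_mem hV hb A hσA hτA hσx hσy hτy hτx⟩

theorem ep_core (hcard : Nat.card V = p ^ 2) (A : Subgroup (MulAut V)) {σ γ : MulAut V}
    (hσA : σ ∈ A) (hγA : γ ∈ A) (hσp : σ ^ p = 1) (hne : ∀ k : ℕ, γ * σ * γ⁻¹ ≠ σ ^ k) :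
    (∀ v : V, v ^ p = 1) ∧ ∃ Φ : Matrix.SpecialLinearGroup (Fin 2) (ZMod p) →* MulAut V,
      Function.Injective Φ ∧ ∀ g, Φ g ∈ A := by
  have hp := (Fact.out : p.Prime)
  have hfin : Finite V := Nat.finite_of_card_ne_zero (by
    rw [hcard]; exact pow_ne_zero 2 hp.ne_zero)
  have hV : ∀ v : V, v ^ p = 1 := by
    intro v
    by_contra hv
    have hdvd : orderOf v ∣ p ^ 2 := by
      rw [← hcard]
      exact orderOf_dvd_natCard v
    obtain ⟨j, hj, hjv⟩ := (Nat.dvd_prime_pow hp).1 hdvd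
    have hj2 : j = 2 := by
      by_contra hj2
      have hj1 : j ≤ 1 := by omega
      apply hv
      have h5 : p ^ j ∣ p ^ 1 := pow_dvd_pow p hj1
      rw [pow_one] at h5
      rw [← hjv] at h5
      exact orderOf_dvd_iff_pow_eq_one.1 h5
    have hord : orderOf v = Nat.card V := by rw [hjv, hj2, hcard]
    have hcyc : IsCyclic V := isCyclic_of_orderOf_eq_card v hord
    obtain ⟨m, hm⟩ := MonoidHom.map_cyclic σ.toMonoidHom
    obtain ⟨n, hn⟩ := MonoidHom.map_cyclic γ.toMonoidHom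
    have hcomm : γ * σ = σ * γ := by
      refine MulEquiv.ext fun w => ?_
      show γ (σ w) = σ (γ w)
      have h1 : σ w = w ^ m := hm w
      have h2 : γ w = w ^ n := hn w
      have h3 : γ (w ^ m) = (w ^ m) ^ n := hn (w ^ m)
      have h4 : σ (w ^ n) = (w ^ n) ^ m := hm (w ^ n)
      rw [h1, h2, h3, h4, ← zpow_mul, ← zpow_mul, mul_comm]
    apply hne 1
    rw [hcomm, mul_assoc, mul_inv_cancel, mul_one, pow_one]
  refine ⟨hV, ?_⟩
  have hσ1 : σ ≠ 1 := by
    intro h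
    apply hne 0
    rw [h, mul_one, mul_inv_cancel, pow_zero]
  obtain ⟨x, hx1, hσx⟩ := ep_exists_fixed hcard σ hσp
  obtain ⟨τ, hτ⟩ : ∃ τ : MulAut V, τ = γ * σ * γ⁻¹ := ⟨_, rfl⟩
  have hτA : τ ∈ A := by
    rw [hτ]
    exact A.mul_mem (A.mul_mem hγA hσA) (A.inv_mem hγA)
  have hτp : τ ^ p = 1 := by rw [hτ, conj_pow, hσp, mul_one, mul_inv_cancel]
  obtain ⟨y, hy⟩ : ∃ y : V, y = γ x := ⟨_, rfl⟩
  have hy1 : y ≠ 1 := by
    intro h
    apply hx1
    rw [hy] at h
    exact γ.injective (h.trans (map_one γ).symm)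
  have hτy : τ y = y := by
    rw [hτ, hy]
    show γ (σ (γ⁻¹ (γ x))) = γ x
    rw [MulAut.inv_apply_self, hσx]
  have hτne : ∀ k : ℕ, τ ≠ σ ^ k := by
    intro k h
    rw [hτ] at h
    exact hne k h
  have hB : ∀ n : ℕ, y ≠ x ^ n := by
    intro n hn
    obtain ⟨m, hm⟩ := ep_inv_pow hV hn hy1
    have hτx : τ x = x := by
      have h1 : τ (y ^ m) = y ^ m := by rw [map_pow, hτy]
      rw [← hm] at h1
      exact h1
    obtain ⟨z, hz⟩ := ep_exists_off_line hV hcard x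
    have hb := coordHom_bijective hV hcard hx1 hz
    obtain ⟨a, ha⟩ := ep_fix_structure hV hb σ hσp hσx
    obtain ⟨b, hb'⟩ := ep_fix_structure hV hb τ hτp hτx
    have ha0 : a ≠ 0 := by
      intro h0
      apply hσ1
      apply ep_ext hV hb
      · rw [hσx, MulAut.one_apply]
      · rw [ha, h0, ZMod.val_zero, pow_zero, mul_one, MulAut.one_apply]
    apply hτne (b * a⁻¹).val
    apply ep_ext hV hb
    · rw [hτx, ep_pow_fix σ hσx]
    · rw [hb', ep_pow_apply σ (u := x ^ a.val) (by rw [map_pow, hσx]) ha, ← ep_val_mul hV,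
        mul_comm a, mul_assoc, inv_mul_cancel₀ ha0, mul_one]
  have hb : Function.Bijective (coordHom hV x y) := coordHom_bijective hV hcard hx1 hB
  have hB' : ∀ n : ℕ, x ≠ y ^ n := by
    intro n hn
    obtain ⟨m, hm⟩ := ep_inv_pow hV hn hx1
    exact hB m hm
  have hb' : Function.Bijective (coordHom hV y x) := coordHom_bijective hV hcard hy1 hB'
  obtain ⟨a, ha⟩ := ep_fix_structure hV hb σ hσp hσx
  obtain ⟨b, hbb⟩ := ep_fix_structure hV hb' τ hτp hτy
  have ha0 : a ≠ 0 := by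
    intro h0
    apply hσ1
    apply ep_ext hV hb
    · rw [hσx, MulAut.one_apply]
    · rw [ha, h0, ZMod.val_zero, pow_zero, mul_one, MulAut.one_apply]
  have hb0 : b ≠ 0 := by
    intro h0
    apply hτne 0
    rw [pow_zero]
    apply ep_ext hV hb
    · rw [hbb, h0, ZMod.val_zero, pow_zero, mul_one, MulAut.one_apply]
    · rw [hτy, MulAut.one_apply]
  have hσ'x : (σ ^ (a⁻¹).val) x = x := ep_pow_fix σ hσx _
  have hσ'y : (σ ^ (a⁻¹).val) y = y * x := by
    rw [ep_pow_apply σ (u := x ^ a.val) (by rw [map_pow, hσx]) ha, ← ep_val_mul hV,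
      mul_inv_cancel₀ ha0, ep_val_one]
  have hτ'y : (τ ^ (b⁻¹).val) y = y := ep_pow_fix τ hτy _
  have hτ'x : (τ ^ (b⁻¹).val) x = x * y := by
    rw [ep_pow_apply τ (u := y ^ b.val) (by rw [map_pow, hτy]) hbb, ← ep_val_mul hV,
      mul_inv_cancel₀ hb0, ep_val_one]
  exact ep_exists_sl2 hV hb A (A.pow_mem hσA _) (A.pow_mem hτA _) hσ'x hσ'y hτ'y hτ'x

end EssP2

/-- Group-theoretic core of the statement on essential subgroups of order `p²`. -/
theorem ess_p2_group {H : Type*} [Group H] {p : ℕ} [Fact p.Prime] (hcard : Nat.card H = p ^ 2)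
    (A : Subgroup (MulAut H)) [hI : ((Inn H).subgroupOf A).Normal]
    (E : Subgroup (↥A ⧸ (Inn H).subgroupOf A)) (hE : IsStronglyPEmbedded p E) :
    (∀ a b : H, a * b = b * a) ∧ (∀ a : H, a ^ p = 1) ∧
      ∃ K : Subgroup ↥A, Nonempty (↥K ≃* Matrix.SpecialLinearGroup (Fin 2) (ZMod p)) := by
  have hp := (Fact.out : p.Prime)
  have hcomm : ∀ a b : H, a * b = b * a := IsPGroup.commutative_of_card_eq_prime_sq hcard
  have hfin : Finite H := Nat.finite_of_card_ne_zero (by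
    rw [hcard]; exact pow_ne_zero 2 hp.ne_zero)
  have hInn : ∀ a : ↥A, a ∈ (Inn H).subgroupOf A → a = 1 := by
    intro a ha
    rw [Subgroup.mem_subgroupOf] at ha
    obtain ⟨h, hh⟩ := MonoidHom.mem_range.1 ha
    apply Subtype.ext
    rw [← hh]
    refine MulEquiv.ext fun v => ?_
    show h * v * h⁻¹ = v
    rw [hcomm h v, mul_assoc, mul_inv_cancel, mul_one]
  obtain ⟨hdvd, hEtop, T₀, hT₀⟩ := hE
  have hT0 : (T₀ : Subgroup (↥A ⧸ (Inn H).subgroupOf A)) ≠ ⊥ := T₀.ne_bot_of_dvd_card hdvd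
  have hTp : IsPGroup p ↥(T₀ : Subgroup (↥A ⧸ (Inn H).subgroupOf A)) := T₀.isPGroup'
  have hpT : p ∣ Nat.card ↥(T₀ : Subgroup (↥A ⧸ (Inn H).subgroupOf A)) := by
    rcases hTp.card_eq_or_dvd with h1 | h1
    · exact absurd (Subgroup.card_eq_one.1 h1) hT0
    · exact h1
  obtain ⟨u₀, hu₀⟩ := exists_prime_orderOf_dvd_card' p hpT
  have hu₀p : u₀ ^ p = 1 := orderOf_dvd_iff_pow_eq_one.1 (dvd_of_eq hu₀)
  obtain ⟨u, hu⟩ : ∃ u : ↥A ⧸ (Inn H).subgroupOf A,
      u = ((u₀ : ↥(T₀ : Subgroup (↥A ⧸ (Inn H).subgroupOf A))) : ↥A ⧸ (Inn H).subgroupOf A) :=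
    ⟨_, rfl⟩
  have huT : u ∈ (T₀ : Subgroup (↥A ⧸ (Inn H).subgroupOf A)) := by
    rw [hu]
    exact u₀.2
  have hup : u ^ p = 1 := by
    rw [hu, ← Subgroup.coe_pow, hu₀p, Subgroup.coe_one]
  have hu1 : u ≠ 1 := by
    intro h
    rw [hu] at h
    have h2 : u₀ = 1 := Subtype.ext h
    rw [h2, orderOf_one] at hu₀
    exact hp.one_lt.ne hu₀
  have hD : Subgroup.zpowers u ≤ (T₀ : Subgroup (↥A ⧸ (Inn H).subgroupOf A)) :=
    Subgroup.zpowers_le.2 huT
  have hDne : Subgroup.zpowers u ≠ ⊥ := fun h => hu1 (Subgroup.zpowers_eq_bot.1 h)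
  have hN := normalizer_le_of_kGeneratedCore_le hTp hT₀ hD hDne
  obtain ⟨g, hg⟩ : ∃ g, g ∉ E := by
    by_contra hcon
    apply hEtop
    rw [Subgroup.eq_top_iff']
    intro g
    by_contra hg
    exact hcon ⟨g, hg⟩
  have hgN : g ∉ Subgroup.normalizer
      (Subgroup.zpowers u : Set (↥A ⧸ (Inn H).subgroupOf A)) := fun h => hg (hN h)
  obtain ⟨σ, hσ⟩ := QuotientGroup.mk_surjective u
  obtain ⟨γ, hγ⟩ := QuotientGroup.mk_surjective g
  have hσp : σ ^ p = 1 := by
    apply hInn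
    rw [← QuotientGroup.eq_one_iff, QuotientGroup.mk_pow, hσ, hup]
  have hne : ∀ k : ℕ, γ * σ * γ⁻¹ ≠ σ ^ k := by
    intro k h
    apply hgN
    have hX : 0 < Nat.card (↥A ⧸ (Inn H).subgroupOf A) := Nat.card_pos
    refine mem_normalizer_zpowers_of_conj g u _ hX pow_card_eq_one' k ?_
    rw [← hσ, ← hγ, ← QuotientGroup.mk_inv, ← QuotientGroup.mk_mul, ← QuotientGroup.mk_mul, h,
      QuotientGroup.mk_pow]
  have hσp' : (σ : MulAut H) ^ p = 1 := by
    rw [← Subgroup.coe_pow, hσp, Subgroup.coe_one]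
  have hne' : ∀ k : ℕ,
      (γ : MulAut H) * (σ : MulAut H) * (γ : MulAut H)⁻¹ ≠ (σ : MulAut H) ^ k := by
    intro k h
    apply hne k
    apply Subtype.ext
    rw [Subgroup.coe_mul, Subgroup.coe_mul, Subgroup.coe_inv, Subgroup.coe_pow]
    exact h
  have key : (∀ v : H, v ^ p = 1) ∧
      ∃ Φ : Matrix.SpecialLinearGroup (Fin 2) (ZMod p) →* MulAut H,
        Function.Injective Φ ∧ ∀ g, Φ g ∈ A :=
    @ep_core H ({ (inferInstance : Group H) with mul_comm := hcomm } : CommGroup H) p _ hcard A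
      (σ : MulAut H) (γ : MulAut H) σ.2 γ.2 hσp' hne'
  obtain ⟨hV, Φ, hΦinj, hΦA⟩ := key
  refine ⟨hcomm, hV, (Φ.codRestrict A hΦA).range, ⟨(MonoidHom.ofInjective ?_).symm⟩⟩
  intro g g' h
  exact hΦinj (congrArg Subtype.val h)

/-- An essential subgroup of order `p²` is elementary abelian and its automizer contains
`SL(2, p)`. -/
theorem ess_p2_fusion {Ω : Type*} [Group Ω] {S : Subgroup Ω} (p : ℕ) [Fact p.Prime]
    (F : Cfsg.FusionSystem S) (H : Subgroup Ω) (hH : F.IsEssential p H)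
    (hcard : Nat.card H = p ^ 2) :
    Cfsg.IsElementaryAbelian p H ∧
      ∃ K : Subgroup ↥(F.autGroup H),
        Nonempty (↥K ≃* Matrix.SpecialLinearGroup (Fin 2) (ZMod p)) := by
  obtain ⟨_, _, hI, E, hE⟩ := hH
  obtain ⟨hcomm, hV, hK⟩ := ess_p2_group hcard (F.autGroup H) E hE
  refine ⟨⟨isMulCommutative_iff.2 hcomm, fun a ha => ?_⟩, hK⟩
  exact congrArg Subtype.val (hV ⟨a, ha⟩)

end Cfsg.Agent.Helper26
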