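import Mathlib
import Cfsg.Prelude.Def_FusionSystem
import Cfsg.Agent.Helper26.Stability

set_option autoImplicit false

namespace Cfsg.Agent.Helper26

open Cfsg

section P3Chain

/-- An automorphism of `p`-power order normalising a subgroup of index `p` acts trivially on
its cosets. -/
theorem aut_quot_fixed {L : Type*} [Group L] [Finite L] {p : ℕ} [Fact p.Prime] (K : Subgroup L)
    (hidx : K.index = p) (τ : MulAut L) {a : ℕ} (hτ : τ ^ p ^ a = 1)
    (hK : ∀ x ∈ K, τ x ∈ K) : ∀ x : L, x⁻¹ * τ x ∈ K := by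
  have hp := (Fact.out : p.Prime)
  have hpow : ∀ ρ : MulAut L, (∀ x ∈ K, ρ x ∈ K) → ∀ n : ℕ, ∀ x ∈ K, (ρ ^ n) x ∈ K := by
    intro ρ hρ n
    induction n with
    | zero =>
      intro x hx
      rw [pow_zero, MulAut.one_apply]
      exact hx
    | succ n ih =>
      intro x hx
      rw [pow_succ, MulAut.mul_apply]
      exact ih _ (hρ x hx)
  have hinv : τ⁻¹ = τ ^ (p ^ a - 1) := by
    apply inv_eq_of_mul_eq_one_right
    rw [← pow_succ', Nat.sub_add_cancel (Nat.succ_le_of_lt (pow_pos hp.pos a))]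
    exact hτ
  have hK' : ∀ x ∈ K, τ⁻¹ x ∈ K := by
    intro x hx
    rw [hinv]
    exact hpow τ hK _ x hx
  have hZK : ∀ b ∈ Subgroup.zpowers τ, ∀ x ∈ K, b x ∈ K := by
    intro b hb x hx
    obtain ⟨m, rfl⟩ := Subgroup.mem_zpowers_iff.1 hb
    obtain ⟨n, rfl | rfl⟩ := Int.eq_nat_or_neg m
    · rw [zpow_natCast]
      exact hpow τ hK n x hx
    · rw [zpow_neg, zpow_natCast, ← inv_pow]
      exact hpow τ⁻¹ hK' n x hx
  have hZ : IsPGroup p ↥(Subgroup.zpowers τ) := by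
    intro g
    obtain ⟨m, hm⟩ := Subgroup.mem_zpowers_iff.1 g.2
    refine ⟨a, Subtype.ext ?_⟩
    rw [Subgroup.coe_pow, Subgroup.coe_one, ← hm, ← zpow_natCast, ← zpow_mul, mul_comm,
      zpow_mul, zpow_natCast, hτ, one_zpow]
  have hQA : MulAction.QuotientAction ↥(Subgroup.zpowers τ) K := ⟨by
    intro b x y h
    have e : (b • x)⁻¹ * b • y = (b : MulAut L) (x⁻¹ * y) := by
      show ((b : MulAut L) x)⁻¹ * (b : MulAut L) y = (b : MulAut L) (x⁻¹ * y)
      rw [map_mul, map_inv]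
    rw [e]
    exact hZK b b.2 _ h⟩
  have h1 : (QuotientGroup.mk (1 : L) : L ⧸ K) ∈
      MulAction.fixedPoints ↥(Subgroup.zpowers τ) (L ⧸ K) := by
    rw [MulAction.mem_fixedPoints]
    intro b
    rw [MulAction.Quotient.smul_mk]
    have e : b • (1 : L) = 1 := map_one (b : MulAut L)
    rw [e]
  have hmod := hZ.card_modEq_card_fixedPoints (L ⧸ K)
  have hcardQ : Nat.card (L ⧸ K) = p := hidx
  have hdvd : p ∣ Nat.card ↥(MulAction.fixedPoints ↥(Subgroup.zpowers τ) (L ⧸ K)) := by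
    have h' : Nat.card (L ⧸ K) % p =
        Nat.card ↥(MulAction.fixedPoints ↥(Subgroup.zpowers τ) (L ⧸ K)) % p := hmod
    rw [hcardQ, Nat.mod_self] at h'
    exact Nat.dvd_of_mod_eq_zero h'.symm
  have hpos : 0 < Nat.card ↥(MulAction.fixedPoints ↥(Subgroup.zpowers τ) (L ⧸ K)) :=
    Nat.card_pos_iff.2 ⟨⟨⟨_, h1⟩⟩, inferInstance⟩
  have hle : Nat.card (L ⧸ K) ≤
      Nat.card ↥(MulAction.fixedPoints ↥(Subgroup.zpowers τ) (L ⧸ K)) := by
    rw [hcardQ]
    exact Nat.le_of_dvd hpos hdvd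
  have hbij : Function.Bijective
      (Subtype.val : ↥(MulAction.fixedPoints ↥(Subgroup.zpowers τ) (L ⧸ K)) → L ⧸ K) :=
    Subtype.val_injective.bijective_of_nat_card_le hle
  intro x
  obtain ⟨q, hq⟩ := hbij.2 (QuotientGroup.mk x : L ⧸ K)
  have hfix : (QuotientGroup.mk x : L ⧸ K) ∈
      MulAction.fixedPoints ↥(Subgroup.zpowers τ) (L ⧸ K) := by
    rw [← hq]
    exact q.2
  rw [MulAction.mem_fixedPoints] at hfix
  have h2 := hfix ⟨τ, Subgroup.mem_zpowers τ⟩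
  rw [MulAction.Quotient.smul_mk] at h2
  have h3 : (QuotientGroup.mk (τ x) : L ⧸ K) = QuotientGroup.mk x := h2
  exact QuotientGroup.eq.1 h3.symm

/-- Restriction of an automorphism to an invariant subgroup. -/
def restrictAut {G : Type*} [Group G] (σ : MulAut G) (L : Subgroup G) (h : ∀ x ∈ L, σ x ∈ L)
    (h' : ∀ x ∈ L, σ⁻¹ x ∈ L) : MulAut ↥L where
  toFun x := ⟨σ x, h x x.2⟩
  invFun x := ⟨σ⁻¹ x, h' x x.2⟩
  left_inv x := Subtype.ext (show σ⁻¹ (σ x.1) = x.1 from σ.symm_apply_apply x.1)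
  right_inv x := Subtype.ext (show σ (σ⁻¹ x.1) = x.1 from σ.apply_symm_apply x.1)
  map_mul' x y := Subtype.ext (map_mul σ x.1 y.1)

theorem restrictAut_apply {G : Type*} [Group G] (σ : MulAut G) (L : Subgroup G)
    (h : ∀ x ∈ L, σ x ∈ L) (h' : ∀ x ∈ L, σ⁻¹ x ∈ L) (x : ↥L) :
    ((restrictAut σ L h h') x : G) = σ x := rfl

theorem restrictAut_pow {G : Type*} [Group G] (σ : MulAut G) (L : Subgroup G)
    (h : ∀ x ∈ L, σ x ∈ L) (h' : ∀ x ∈ L, σ⁻¹ x ∈ L) (n : ℕ) (x : ↥L) :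
    (((restrictAut σ L h h') ^ n) x : G) = (σ ^ n) x := by
  induction n generalizing x with
  | zero => simp
  | succ n ih =>
    rw [pow_succ, pow_succ, MulAut.mul_apply, MulAut.mul_apply, ih, restrictAut_apply]

/-- An automorphism of `p`-power order acts trivially on an invariant section of order `p`. -/
theorem aut_step_mem {G : Type*} [Group G] [Finite G] {p : ℕ} [Fact p.Prime] (σ : MulAut G)
    {a : ℕ} (hσ : σ ^ p ^ a = 1) (K L : Subgroup G) (hKL : K ≤ L)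
    (hcard : Nat.card L = p * Nat.card K) (hK : ∀ x ∈ K, σ x ∈ K) (hL : ∀ x ∈ L, σ x ∈ L) :
    ∀ x ∈ L, x⁻¹ * σ x ∈ K := by
  have hp := (Fact.out : p.Prime)
  have hinv : σ⁻¹ = σ ^ (p ^ a - 1) := by
    apply inv_eq_of_mul_eq_one_right
    rw [← pow_succ', Nat.sub_add_cancel (Nat.succ_le_of_lt (pow_pos hp.pos a))]
    exact hσ
  have hpowL : ∀ n : ℕ, ∀ x ∈ L, (σ ^ n) x ∈ L := by
    intro n
    induction n with
    | zero =>
      intro x hx
      rw [pow_zero, MulAut.one_apply]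
      exact hx
    | succ n ih =>
      intro x hx
      rw [pow_succ, MulAut.mul_apply]
      exact ih _ (hL x hx)
  have hL' : ∀ x ∈ L, σ⁻¹ x ∈ L := by
    intro x hx
    rw [hinv]
    exact hpowL _ x hx
  have hτpow : (restrictAut σ L hL hL') ^ p ^ a = 1 := by
    refine MulEquiv.ext fun x => Subtype.ext ?_
    exact (restrictAut_pow σ L hL hL' (p ^ a) x).trans (DFunLike.congr_fun hσ (x : G))
  have hidx : (K.subgroupOf L).index = p := by
    have h1 := Subgroup.card_mul_index (K.subgroupOf L)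
    have h2 : Nat.card ↥(K.subgroupOf L) = Nat.card ↥K :=
      Nat.card_congr (Subgroup.subgroupOfEquivOfLe hKL).toEquiv
    rw [h2, hcard, mul_comm p] at h1
    exact Nat.eq_of_mul_eq_mul_left Nat.card_pos h1
  have hτK : ∀ x ∈ K.subgroupOf L, (restrictAut σ L hL hL') x ∈ K.subgroupOf L := by
    intro x hx
    rw [Subgroup.mem_subgroupOf] at hx ⊢
    rw [restrictAut_apply]
    exact hK _ hx
  intro x hx
  have h := aut_quot_fixed (K.subgroupOf L) hidx (restrictAut σ L hL hL') hτpow hτK ⟨x, hx⟩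
  rw [Subgroup.mem_subgroupOf] at h
  exact h

/-- The chain `⊤ ≥ H₂ ≥ H₁ ≥ ⊥ ≥ ⊥ ≥ …`. -/
def chain3 {G : Type*} [Group G] (H₁ H₂ : Subgroup G) : ℕ → Subgroup G
  | 0 => ⊤
  | 1 => H₂
  | 2 => H₁
  | _ + 3 => ⊥

/-- A group of order `p³` whose automorphism group `A` has `O_p(A) = Inn` and contains a
non-inner `p`-element has no `A`-invariant chain with factors of order `p`. -/
theorem no_char_chain {H : Type*} [Group H] {p : ℕ} [Fact p.Prime] (hcard : Nat.card H = p ^ 3)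
    (A : Subgroup (MulAut H)) (hrad : (pCore p ↥A).map A.subtype = Inn H)
    {σ : MulAut H} (hσA : σ ∈ A) {a : ℕ} (hσ : σ ^ p ^ a = 1) (hσI : σ ∉ Inn H)
    (H₁ H₂ : Subgroup H) (h12 : H₁ ≤ H₂) (hc1 : Nat.card H₁ = p) (hc2 : Nat.card H₂ = p ^ 2)
    (hinv1 : ∀ α : MulAut H, ∀ x ∈ H₁, α x ∈ H₁)
    (hinv2 : ∀ α : MulAut H, ∀ x ∈ H₂, α x ∈ H₂) : False := by
  have hp := (Fact.out : p.Prime)
  have hfin : Finite H := Nat.finite_of_card_ne_zero (by
    rw [hcard]; exact pow_ne_zero 3 hp.ne_zero)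
  have hG : IsPGroup p H := IsPGroup.of_card hcard
  have hanti : ∀ j, chain3 H₁ H₂ (j + 1) ≤ chain3 H₁ H₂ j := by
    intro j
    match j with
    | 0 => exact le_top
    | 1 => exact h12
    | 2 => exact bot_le
    | (j + 3) => exact le_refl _
  have hinvD : ∀ α : MulAut H, ∀ j, ∀ x ∈ chain3 H₁ H₂ j, α x ∈ chain3 H₁ H₂ j := by
    intro α j
    match j with
    | 0 =>
      intro x _
      exact Subgroup.mem_top _
    | 1 => exact hinv2 α
    | 2 => exact hinv1 α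
    | (j + 3) =>
      intro x hx
      have hx1 : x = 1 := Subgroup.mem_bot.1 hx
      rw [hx1, map_one]
      exact Subgroup.one_mem _
  have hstab : ∀ γ : MulAut H, (∃ b : ℕ, γ ^ p ^ b = 1) → StabChain (chain3 H₁ H₂) γ := by
    rintro γ ⟨b, hγ⟩ j
    match j with
    | 0 =>
      intro x _
      exact aut_step_mem γ hγ H₂ ⊤ le_top (by rw [Subgroup.card_top, hcard, hc2]; ring)
        (hinv2 γ) (fun y _ => Subgroup.mem_top _) x (Subgroup.mem_top x)
    | 1 => exact aut_step_mem γ hγ H₁ H₂ h12 (by rw [hc1, hc2]; ring) (hinv1 γ) (hinv2 γ)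
    | 2 =>
      exact aut_step_mem γ hγ ⊥ H₁ bot_le (by rw [Subgroup.card_bot, hc1, mul_one])
        (fun y hy => by rw [Subgroup.mem_bot.1 hy, map_one]; exact Subgroup.one_mem _) (hinv1 γ)
    | (j + 3) =>
      intro x hx
      have hx1 : x = 1 := Subgroup.mem_bot.1 hx
      rw [hx1, map_one, inv_one, one_mul]
      exact Subgroup.one_mem _
  have hσs : σ ∈ stabSubgroup (chain3 H₁ H₂) hanti := by
    rw [mem_stabSubgroup]
    refine ⟨hstab σ ⟨a, hσ⟩, hstab σ⁻¹ ⟨a, ?_⟩⟩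
    rw [inv_pow, hσ, inv_one]
  obtain ⟨N, hN⟩ : ∃ N : Subgroup ↥A,
      N = (stabSubgroup (chain3 H₁ H₂) hanti).subgroupOf A := ⟨_, rfl⟩
  have hNn : N.Normal := by
    rw [hN]
    refine ⟨fun n hn g => ?_⟩
    rw [Subgroup.mem_subgroupOf] at hn ⊢
    rw [mem_stabSubgroup] at hn ⊢
    have e1 : ((g * n * g⁻¹ : ↥A) : MulAut H) =
        (g : MulAut H) * (n : MulAut H) * (g : MulAut H)⁻¹ := rfl
    have e2 : ((g * n * g⁻¹ : ↥A) : MulAut H)⁻¹ =
        (g : MulAut H) * (n : MulAut H)⁻¹ * (g : MulAut H)⁻¹ := by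
      rw [e1]; group
    rw [e2, e1]
    exact ⟨stabChain_conj (hinvD _) (hinvD _) hn.1, stabChain_conj (hinvD _) (hinvD _) hn.2⟩
  have hNp : IsPGroup p ↥N := by
    rw [hN]
    intro g
    have hg : ((g : ↥A) : MulAut H) ∈ stabSubgroup (chain3 H₁ H₂) hanti :=
      Subgroup.mem_subgroupOf.1 g.2
    obtain ⟨k, hk⟩ := stab_pow_eq_one hG _ (chain3 H₁ H₂) hanti rfl 3 ⟨0, fun x hx => by
      have hx1 : x = 1 := Subgroup.mem_bot.1 hx
      rw [hx1, map_one]⟩ (mem_stabSubgroup.1 hg).1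
    refine ⟨k, Subtype.ext (Subtype.ext ?_)⟩
    exact hk
  have hle : N ≤ pCore p ↥A := le_sSup ⟨hNn, hNp⟩
  have hmem : (⟨σ, hσA⟩ : ↥A) ∈ N := by
    rw [hN]
    exact Subgroup.mem_subgroupOf.2 hσs
  apply hσI
  rw [← hrad]
  exact Subgroup.mem_map.2 ⟨⟨σ, hσA⟩, hle hmem, rfl⟩

end P3Chain

end Cfsg.Agent.Helper26
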