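import Mathlib
import Cfsg.Prelude.Def_Transfer

set_option autoImplicit false

namespace Cfsg.Agent.Helper26

open Cfsg

open scoped commutatorElement

section P3Struct

/-- A chain of characteristic subgroups of orders `p` and `p²`. -/
def CharChain (p : ℕ) (H : Type*) [Group H] : Prop :=
  ∃ H₁ H₂ : Subgroup H, H₁ ≤ H₂ ∧ Nat.card H₁ = p ∧ Nat.card H₂ = p ^ 2 ∧
    (∀ α : MulAut H, ∀ x ∈ H₁, α x ∈ H₁) ∧ (∀ α : MulAut H, ∀ x ∈ H₂, α x ∈ H₂)

theorem p3_finite {H : Type*} [Group H] {p : ℕ} [Fact p.Prime] (hcard : Nat.card H = p ^ 3) :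
    Finite H :=
  Nat.finite_of_card_ne_zero (by
    rw [hcard]; exact pow_ne_zero 3 (Fact.out : p.Prime).ne_zero)

theorem p3_center_aut_mem {H : Type*} [Group H] (α : MulAut H) {z : H}
    (hz : z ∈ Subgroup.center H) : α z ∈ Subgroup.center H := by
  rw [Subgroup.mem_center_iff] at hz ⊢
  intro g
  have h := congrArg α (hz (α⁻¹ g))
  rw [map_mul, map_mul] at h
  have e : α (α⁻¹ g) = g := α.apply_symm_apply g
  rw [e] at h
  exact h

theorem p3_center_pow {H : Type*} [Group H] {p : ℕ} (hZ : Nat.card (Subgroup.center H) = p)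
    {z : H} (hz : z ∈ Subgroup.center H) : z ^ p = 1 := by
  have h : (⟨z, hz⟩ : ↥(Subgroup.center H)) ^ Nat.card ↥(Subgroup.center H) = 1 :=
    pow_card_eq_one'
  rw [hZ] at h
  exact congrArg Subtype.val h

/-- The abelian groups of order `p³`. -/
theorem p3_abelian {H : Type*} [Group H] {p : ℕ} [Fact p.Prime] (hcard : Nat.card H = p ^ 3)
    (hcomm : ∀ a b : H, a * b = b * a) : (∀ a : H, a ^ p = 1) ∨ CharChain p H := by
  have hp := (Fact.out : p.Prime)
  have hfin : Finite H := p3_finite hcard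
  obtain ⟨φ, hφ⟩ : ∃ φ : H →* H, ∀ x, φ x = x ^ p :=
    ⟨MonoidHom.mk' (fun x => x ^ p) (fun a b => Commute.mul_pow (hcomm a b) p), fun x => rfl⟩
  have hprod : Nat.card ↥φ.ker * Nat.card ↥φ.range = p ^ 3 := by
    rw [← Subgroup.index_ker, Subgroup.card_mul_index, hcard]
  have hkinv : ∀ α : MulAut H, ∀ x ∈ φ.ker, α x ∈ φ.ker := by
    intro α x hx
    rw [MonoidHom.mem_ker, hφ] at hx ⊢
    rw [← map_pow, hx, map_one]
  have hrinv : ∀ α : MulAut H, ∀ x ∈ φ.range, α x ∈ φ.range := by
    intro α x hx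
    obtain ⟨y, rfl⟩ := MonoidHom.mem_range.1 hx
    refine MonoidHom.mem_range.2 ⟨α y, ?_⟩
    rw [hφ, hφ, map_pow]
  obtain ⟨j, hj3, hj⟩ := (Nat.dvd_prime_pow hp).1 (Dvd.intro _ hprod)
  have hr : Nat.card ↥φ.range = p ^ (3 - j) := by
    apply Nat.eq_of_mul_eq_mul_left (pow_pos hp.pos j)
    rw [← pow_add, Nat.add_sub_of_le hj3, ← hprod, hj]
  have hjc : j = 0 ∨ j = 1 ∨ j = 2 ∨ j = 3 := by omega
  rcases hjc with rfl | rfl | rfl | rfl
  · exfalso
    have hdvd : p ∣ Nat.card H := by
      rw [hcard]; exact dvd_pow_self p (by norm_num)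
    obtain ⟨x, hx⟩ := exists_prime_orderOf_dvd_card' p hdvd
    have hxk : x ∈ φ.ker := by
      rw [MonoidHom.mem_ker, hφ, ← hx]
      exact pow_orderOf_eq_one x
    rw [pow_zero] at hj
    rw [Subgroup.card_eq_one.1 hj, Subgroup.mem_bot] at hxk
    rw [hxk, orderOf_one] at hx
    exact hp.one_lt.ne hx
  · right
    have hr2 : Nat.card ↥φ.range = p ^ 2 := hr
    have hk1 : Nat.card ↥φ.ker = p := hj.trans (pow_one p)
    have hI2k : φ.range.map φ ≤ φ.ker := by
      intro w hw
      obtain ⟨y, hy, rfl⟩ := Subgroup.mem_map.1 hw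
      obtain ⟨x, rfl⟩ := MonoidHom.mem_range.1 hy
      rw [MonoidHom.mem_ker, hφ, hφ, hφ]
      have e : ((x ^ p) ^ p) ^ p = x ^ p ^ 3 := by
        rw [← pow_mul, ← pow_mul]
        congr 1
        ring
      rw [e, ← hcard]
      exact pow_card_eq_one'
    have hI2ne : φ.range.map φ ≠ ⊥ := by
      intro h
      have hle : φ.range ≤ φ.ker := by
        intro y hy
        rw [MonoidHom.mem_ker]
        have h' : φ y ∈ φ.range.map φ := Subgroup.mem_map_of_mem φ hy
        rw [h, Subgroup.mem_bot] at h'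
        exact h'
      have hd := Subgroup.card_dvd_of_le hle
      rw [hr2, hk1] at hd
      have h21 : 2 ≤ 1 :=
        (Nat.pow_dvd_pow_iff_le_right hp.one_lt).1 (by rw [pow_one]; exact hd)
      omega
    have hI2c : Nat.card ↥(φ.range.map φ) = p := by
      have hd := Subgroup.card_dvd_of_le hI2k
      rw [hk1] at hd
      rcases (Nat.dvd_prime hp).1 hd with h1 | h1
      · exact absurd (Subgroup.card_eq_one.1 h1) hI2ne
      · exact h1
    refine ⟨φ.range.map φ, φ.range, ?_, hI2c, hr2, ?_, hrinv⟩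
    · intro w hw
      obtain ⟨y, -, rfl⟩ := Subgroup.mem_map.1 hw
      exact MonoidHom.mem_range.2 ⟨y, rfl⟩
    · intro α w hw
      obtain ⟨y, hy, rfl⟩ := Subgroup.mem_map.1 hw
      refine Subgroup.mem_map.2 ⟨α y, hrinv α y hy, ?_⟩
      rw [hφ, hφ, map_pow]
  · right
    have hr1 : Nat.card ↥φ.range = p := hr.trans (pow_one p)
    refine ⟨φ.range, φ.ker, ?_, hr1, hj, hrinv, hkinv⟩
    intro y hy
    rw [MonoidHom.mem_ker, hφ]
    have h : (⟨y, hy⟩ : ↥φ.range) ^ Nat.card ↥φ.range = 1 := pow_card_eq_one'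
    rw [hr1] at h
    exact congrArg Subtype.val h
  · left
    intro x
    have htop : φ.ker = ⊤ := Subgroup.eq_top_of_card_eq _ (by rw [hj, hcard])
    have hx : x ∈ φ.ker := by rw [htop]; exact Subgroup.mem_top x
    rw [MonoidHom.mem_ker, hφ] at hx
    exact hx

/-- The centre of a non-abelian group of order `p³` has order `p`. -/
theorem p3_center_card {H : Type*} [Group H] {p : ℕ} [Fact p.Prime] (hcard : Nat.card H = p ^ 3)
    (hnc : ¬ ∀ a b : H, a * b = b * a) : Nat.card (Subgroup.center H) = p := by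
  have hp := (Fact.out : p.Prime)
  have hfin : Finite H := p3_finite hcard
  obtain ⟨k, hk0, hk⟩ := IsPGroup.card_center_eq_prime_pow hcard (by norm_num : 0 < 3)
  have hprod := Subgroup.card_mul_index (Subgroup.center H)
  rw [hk, hcard] at hprod
  have hk3 : k ≤ 3 := (Nat.pow_dvd_pow_iff_le_right hp.one_lt).1 (Dvd.intro _ hprod)
  have hidx : (Subgroup.center H).index = p ^ (3 - k) := by
    apply Nat.eq_of_mul_eq_mul_left (pow_pos hp.pos k)
    rw [hprod, ← pow_add, Nat.add_sub_of_le hk3]
  have hkc : k = 1 ∨ k = 2 ∨ k = 3 := by omega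
  rcases hkc with rfl | rfl | rfl
  · rw [hk, pow_one]
  · exfalso
    have hq : Nat.card (H ⧸ Subgroup.center H) = p := hidx.trans (pow_one p)
    have : IsCyclic (H ⧸ Subgroup.center H) := isCyclic_of_prime_card hq
    exact hnc (commutative_of_cyclic_center_quotient (QuotientGroup.mk' (Subgroup.center H))
      (le_of_eq (by rw [QuotientGroup.ker_mk'])))
  · exfalso
    have htop : Subgroup.center H = ⊤ := Subgroup.eq_top_of_card_eq _ (by rw [hk, hcard])
    apply hnc
    intro a b
    have hb : b ∈ Subgroup.center H := by rw [htop]; exact Subgroup.mem_top b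
    exact Subgroup.mem_center_iff.1 hb a

/-- In a non-abelian group of order `p³`, commutators and `p`-th powers are central. -/
theorem p3_quot_facts {H : Type*} [Group H] {p : ℕ} [Fact p.Prime] (hcard : Nat.card H = p ^ 3)
    (hnc : ¬ ∀ a b : H, a * b = b * a) :
    (∀ x y : H, x * y * x⁻¹ * y⁻¹ ∈ Subgroup.center H) ∧
      ∀ x : H, x ^ p ∈ Subgroup.center H := by
  have hp := (Fact.out : p.Prime)
  have hfin : Finite H := p3_finite hcard
  have hZ := p3_center_card hcard hnc
  have hq : Nat.card (H ⧸ Subgroup.center H) = p ^ 2 := by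
    have hprod := Subgroup.card_mul_index (Subgroup.center H)
    rw [hZ, hcard] at hprod
    have h2 : (Subgroup.center H).index = p ^ 2 := by
      apply Nat.eq_of_mul_eq_mul_left hp.pos
      rw [hprod]
      ring
    exact h2
  have hQc : ∀ a b : H ⧸ Subgroup.center H, a * b = b * a :=
    IsPGroup.commutative_of_card_eq_prime_sq hq
  refine ⟨fun x y => ?_, fun x => ?_⟩
  · refine (QuotientGroup.eq_one_iff (N := Subgroup.center H) _).1 ?_
    have e : ((x * y * x⁻¹ * y⁻¹ : H) : H ⧸ Subgroup.center H) =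
        (x : H ⧸ Subgroup.center H) * (y : H ⧸ Subgroup.center H) *
          (x : H ⧸ Subgroup.center H)⁻¹ * (y : H ⧸ Subgroup.center H)⁻¹ := rfl
    rw [e, hQc (x : H ⧸ Subgroup.center H) (y : H ⧸ Subgroup.center H), mul_inv_cancel_right,
      mul_inv_cancel]
  · refine (QuotientGroup.eq_one_iff (N := Subgroup.center H) _).1 ?_
    have e : ((x ^ p : H) : H ⧸ Subgroup.center H) = (x : H ⧸ Subgroup.center H) ^ p := rfl
    rw [e]
    have hdvd : orderOf (x : H ⧸ Subgroup.center H) ∣ p ^ 2 := by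
      rw [← hq]; exact orderOf_dvd_natCard _
    obtain ⟨j, hj, hjq⟩ := (Nat.dvd_prime_pow hp).1 hdvd
    by_cases hj2 : j = 2
    · exfalso
      have hord : orderOf (x : H ⧸ Subgroup.center H) = Nat.card (H ⧸ Subgroup.center H) := by
        rw [hjq, hj2, hq]
      have : IsCyclic (H ⧸ Subgroup.center H) := isCyclic_of_orderOf_eq_card _ hord
      exact hnc (commutative_of_cyclic_center_quotient (QuotientGroup.mk' (Subgroup.center H))
        (le_of_eq (by rw [QuotientGroup.ker_mk'])))
    · have hj1 : j ≤ 1 := by omega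
      have h5 : orderOf (x : H ⧸ Subgroup.center H) ∣ p := by
        rw [hjq]
        have h6 : p ^ j ∣ p ^ 1 := pow_dvd_pow p hj1
        rw [pow_one] at h6
        exact h6
      exact orderOf_dvd_iff_pow_eq_one.1 h5

/-- Subgroups of order `p²` of a group of order `p³` are maximal. -/
theorem p3_coatom {H : Type*} [Group H] {p : ℕ} [Fact p.Prime] (hcard : Nat.card H = p ^ 3)
    (C : Subgroup H) (hC : Nat.card C = p ^ 2) : IsCoatom C := by
  have hp := (Fact.out : p.Prime)
  have hfin : Finite H := p3_finite hcard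
  refine ⟨?_, fun B hB => ?_⟩
  · intro h
    have h2 : Nat.card ↥C = Nat.card H := by rw [h, Subgroup.card_top]
    rw [hC, hcard] at h2
    have h3 : (2 : ℕ) = 3 := Nat.pow_right_injective hp.two_le h2
    omega
  · have hdvd : Nat.card ↥B ∣ p ^ 3 := by
      rw [← hcard]; exact Subgroup.card_subgroup_dvd_card B
    obtain ⟨i, hi3, hi⟩ := (Nat.dvd_prime_pow hp).1 hdvd
    have hCB : Nat.card ↥C ∣ Nat.card ↥B := Subgroup.card_dvd_of_le hB.le
    rw [hC, hi] at hCB
    have h2i : 2 ≤ i := (Nat.pow_dvd_pow_iff_le_right hp.one_lt).1 hCB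
    have hi2 : i ≠ 2 := by
      intro h
      have heq : C = B := Subgroup.eq_of_le_of_card_ge hB.le (le_of_eq (by rw [hC, hi, h]))
      exact hB.ne heq
    have hi3' : i = 3 := by omega
    exact Subgroup.eq_top_of_card_eq B (by rw [hi, hi3', hcard])

/-- Centralizers of non-central elements of a non-abelian group of order `p³` have order
`p²`. -/
theorem p3_centralizer_card {H : Type*} [Group H] {p : ℕ} [Fact p.Prime]
    (hcard : Nat.card H = p ^ 3) (hnc : ¬ ∀ a b : H, a * b = b * a) {y : H}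
    (hy : y ∉ Subgroup.center H) : Nat.card ↥(Subgroup.centralizer ({y} : Set H)) = p ^ 2 := by
  have hp := (Fact.out : p.Prime)
  have hfin : Finite H := p3_finite hcard
  have hZ := p3_center_card hcard hnc
  have hle : Subgroup.center H ≤ Subgroup.centralizer ({y} : Set H) :=
    Subgroup.center_le_centralizer _
  have hyC : y ∈ Subgroup.centralizer ({y} : Set H) := by
    rw [Subgroup.mem_centralizer_iff]
    intro h hh
    rw [Set.mem_singleton_iff.1 hh]
  have hdvd : Nat.card ↥(Subgroup.centralizer ({y} : Set H)) ∣ p ^ 3 := by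
    rw [← hcard]; exact Subgroup.card_subgroup_dvd_card _
  obtain ⟨j, hj3, hj⟩ := (Nat.dvd_prime_pow hp).1 hdvd
  have hj3' : j ≠ 3 := by
    intro h
    apply hy
    have htop : Subgroup.centralizer ({y} : Set H) = ⊤ :=
      Subgroup.eq_top_of_card_eq _ (by rw [hj, h, hcard])
    rw [Subgroup.mem_center_iff]
    intro g
    have hg : g ∈ Subgroup.centralizer ({y} : Set H) := by rw [htop]; exact Subgroup.mem_top g
    exact ((Subgroup.mem_centralizer_iff.1 hg) y (Set.mem_singleton y)).symm
  have hj1 : 2 ≤ j := by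
    by_contra hcon
    have hj1 : j ≤ 1 := by omega
    apply hy
    have heq : Subgroup.center H = Subgroup.centralizer ({y} : Set H) := by
      apply Subgroup.eq_of_le_of_card_ge hle
      rw [hZ, hj]
      calc p ^ j ≤ p ^ 1 := Nat.pow_le_pow_right hp.pos hj1
        _ = p := pow_one p
    rw [heq]
    exact hyC
  have hj2 : j = 2 := by omega
  rw [hj, hj2]

theorem p3_comm_central_left {G : Type*} [Group G] (g h c : G) (hc : ∀ x : G, x * c = c * x) :
    (g * c) * h * (g * c)⁻¹ * h⁻¹ = g * h * g⁻¹ * h⁻¹ := by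
  have e : (g * c) * h * (g * c)⁻¹ * h⁻¹ = g * (c * h * c⁻¹) * g⁻¹ * h⁻¹ := by group
  rw [e, ← hc h, mul_inv_cancel_right]

theorem p3_comm_central_right {G : Type*} [Group G] (g h c : G) (hc : ∀ x : G, x * c = c * x) :
    g * (h * c) * g⁻¹ * (h * c)⁻¹ = g * h * g⁻¹ * h⁻¹ := by
  have e : g * (h * c) * g⁻¹ * (h * c)⁻¹ = g * h * (c * g⁻¹ * c⁻¹) * h⁻¹ := by group
  rw [e, ← hc g⁻¹, mul_inv_cancel_right]

/-- Central commutators lie in every maximal subgroup. -/
theorem p3_mem_coatom {G : Type*} [Group G] {M : Subgroup G} (hM : IsCoatom M) {z : G}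
    (hz : z ∈ Subgroup.center G) (hzc : z ∈ commutator G) : z ∈ M := by
  by_contra hzM
  have hlt : M < M ⊔ Subgroup.center G := by
    refine lt_of_le_of_ne le_sup_left (fun h => hzM ?_)
    rw [h]
    exact (le_sup_right : Subgroup.center G ≤ M ⊔ Subgroup.center G) hz
  have htop : M ⊔ Subgroup.center G = ⊤ := hM.2 _ hlt
  have hdec : ∀ g : G, ∃ m ∈ M, ∃ c ∈ Subgroup.center G, g = m * c := by
    intro g
    have hg : g ∈ ((M ⊔ Subgroup.center G : Subgroup G) : Set G) := by
      rw [htop]; exact Subgroup.mem_top g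
    rw [Subgroup.mul_normal] at hg
    obtain ⟨m, hm, c, hc, rfl⟩ := Set.mem_mul.1 hg
    exact ⟨m, hm, c, hc, rfl⟩
  have hle : commutator G ≤ M := by
    show ⁅(⊤ : Subgroup G), ⊤⁆ ≤ M
    rw [Subgroup.commutator_le]
    intro g₁ _ g₂ _
    obtain ⟨m₁, hm₁, c₁, hc₁, rfl⟩ := hdec g₁
    obtain ⟨m₂, hm₂, c₂, hc₂, rfl⟩ := hdec g₂
    rw [commutatorElement_def, p3_comm_central_left _ _ _ (Subgroup.mem_center_iff.1 hc₁),
      p3_comm_central_right _ _ _ (Subgroup.mem_center_iff.1 hc₂)]
    exact M.mul_mem (M.mul_mem (M.mul_mem hm₁ hm₂) (M.inv_mem hm₁)) (M.inv_mem hm₂)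
  exact hzM (hle hzc)

/-- A non-abelian group of order `p³` is extraspecial. -/
theorem p3_extraspecial {H : Type*} [Group H] {p : ℕ} [Fact p.Prime]
    (hcard : Nat.card H = p ^ 3) (hnc : ¬ ∀ a b : H, a * b = b * a) : IsExtraspecial p H := by
  have hp := (Fact.out : p.Prime)
  have hfin : Finite H := p3_finite hcard
  have hZ := p3_center_card hcard hnc
  obtain ⟨hcommZ, -⟩ := p3_quot_facts hcard hnc
  have hcomm_le : commutator H ≤ Subgroup.center H := by
    show ⁅(⊤ : Subgroup H), ⊤⁆ ≤ Subgroup.center H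
    rw [Subgroup.commutator_le]
    intro g₁ _ g₂ _
    rw [commutatorElement_def]
    exact hcommZ g₁ g₂
  have hcomm_ne : commutator H ≠ ⊥ := by
    intro h
    apply hnc
    intro a b
    have hab : ⁅a, b⁆ ∈ commutator H :=
      Subgroup.commutator_mem_commutator (Subgroup.mem_top a) (Subgroup.mem_top b)
    rw [h, Subgroup.mem_bot] at hab
    exact commutatorElement_eq_one_iff_mul_comm.1 hab
  have hcomm_eq : commutator H = Subgroup.center H := by
    apply Subgroup.eq_of_le_of_card_ge hcomm_le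
    have hdvd : Nat.card ↥(commutator H) ∣ Nat.card ↥(Subgroup.center H) :=
      Subgroup.card_dvd_of_le hcomm_le
    rw [hZ] at hdvd ⊢
    rcases (Nat.dvd_prime hp).1 hdvd with h1 | h1
    · exact absurd (Subgroup.card_eq_one.1 h1) hcomm_ne
    · exact h1.ge
  have hZ_le : Subgroup.center H ≤ frattini H := by
    intro z hz
    unfold frattini Order.radical
    simp only [Subgroup.mem_iInf]
    intro M hM
    exact p3_mem_coatom hM hz (by rw [hcomm_eq]; exact hz)
  have hfr_le : frattini H ≤ Subgroup.center H := by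
    intro x hx
    by_contra hxZ
    rw [Subgroup.mem_center_iff] at hxZ
    obtain ⟨y, hy⟩ : ∃ y : H, y * x ≠ x * y := by
      by_contra hcon
      apply hxZ
      intro g
      by_contra hg
      exact hcon ⟨g, hg⟩
    have hyZ : y ∉ Subgroup.center H := by
      intro h
      exact hy ((Subgroup.mem_center_iff.1 h x).symm)
    have hC := p3_centralizer_card hcard hnc hyZ
    have hxC : x ∈ Subgroup.centralizer ({y} : Set H) :=
      frattini_le_coatom (p3_coatom hcard _ hC) hx
    rw [Subgroup.mem_centralizer_iff] at hxC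
    exact hy (hxC y (Set.mem_singleton y))
  exact ⟨⟨IsPGroup.of_card hcard, le_antisymm hfr_le hZ_le, hcomm_eq⟩, hZ⟩

/-- Collection formula in a group of class two. -/
theorem class2_collect {G : Type*} [Group G] {x y c : G} (hc : ∀ g : G, c * g = g * c)
    (hyx : y * x = c * (x * y)) :
    ∀ n : ℕ, ∃ k : ℕ, 2 * k + n = n * n ∧ (x * y) ^ n = x ^ n * y ^ n * c ^ k := by
  have hcp : ∀ (k : ℕ) (g : G), c ^ k * g = g * c ^ k := fun k g =>
    (Commute.pow_left (hc g) k).eq
  have hcl : ∀ (k : ℕ) (g₁ g₂ : G), c ^ k * (g₁ * g₂) = g₁ * (c ^ k * g₂) := fun k g₁ g₂ => by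
    rw [← mul_assoc, hcp k g₁, mul_assoc]
  have hA : ∀ n : ℕ, y ^ n * x = c ^ n * (x * y ^ n) := by
    intro n
    induction n with
    | zero => simp
    | succ n ih =>
      calc y ^ (n + 1) * x = y ^ n * (y * x) := by rw [pow_succ, mul_assoc]
        _ = y ^ n * (c * (x * y)) := by rw [hyx]
        _ = c * ((y ^ n * x) * y) := by
            rw [← mul_assoc (y ^ n) c, ← hc (y ^ n)]
            simp only [mul_assoc]
        _ = c * ((c ^ n * (x * y ^ n)) * y) := by rw [ih]
        _ = c ^ (n + 1) * (x * y ^ (n + 1)) := by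
            rw [pow_succ' c n, pow_succ y n]
            simp only [mul_assoc]
  intro n
  induction n with
  | zero => exact ⟨0, rfl, by simp⟩
  | succ n ih =>
    obtain ⟨k, hk, hk2⟩ := ih
    refine ⟨k + n, ?_, ?_⟩
    · have e : 2 * (k + n) + (n + 1) = (2 * k + n) + (2 * n + 1) := by ring
      rw [e, hk]
      ring
    · calc (x * y) ^ (n + 1) = (x * y) ^ n * (x * y) := pow_succ _ _
        _ = x ^ n * y ^ n * c ^ k * (x * y) := by rw [hk2]
        _ = x ^ n * (y ^ n * x) * y * c ^ k := by
            rw [mul_assoc (x ^ n * y ^ n) (c ^ k), hcp k (x * y)]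
            simp only [mul_assoc]
        _ = x ^ n * (c ^ n * (x * y ^ n)) * y * c ^ k := by rw [hA n]
        _ = x ^ (n + 1) * y ^ (n + 1) * c ^ (k + n) := by
            rw [add_comm k n, pow_add c n k, pow_succ x n, pow_succ y n, hcp n (x * y ^ n)]
            simp only [mul_assoc]
            rw [hcl n y (c ^ k)]

/-- For odd `p`, the `p`-th power map of a non-abelian group of order `p³` is multiplicative. -/
theorem p3_pow_mul {H : Type*} [Group H] {p : ℕ} [Fact p.Prime] (hcard : Nat.card H = p ^ 3)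
    (hnc : ¬ ∀ a b : H, a * b = b * a) (hodd : Odd p) (x y : H) :
    (x * y) ^ p = x ^ p * y ^ p := by
  have hp := (Fact.out : p.Prime)
  have hZ := p3_center_card hcard hnc
  obtain ⟨hcommZ, -⟩ := p3_quot_facts hcard hnc
  obtain ⟨c, hcdef⟩ : ∃ c : H, c = y * x * y⁻¹ * x⁻¹ := ⟨_, rfl⟩
  have hcZ : c ∈ Subgroup.center H := by rw [hcdef]; exact hcommZ y x
  have hc : ∀ g : H, c * g = g * c := fun g => (Subgroup.mem_center_iff.1 hcZ g).symm
  have hyx : y * x = c * (x * y) := by rw [hcdef]; group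
  have hcp : c ^ p = 1 := p3_center_pow hZ hcZ
  obtain ⟨k, hk, hk2⟩ := class2_collect hc hyx p
  have hpk : p ∣ k := by
    have h1 : p ∣ 2 * k + p := ⟨p, hk⟩
    have h2 : p ∣ 2 * k := (Nat.dvd_add_left (dvd_refl p)).1 h1
    rcases (Nat.Prime.dvd_mul hp).1 h2 with h | h
    · exfalso
      have h3 : p ≤ 2 := Nat.le_of_dvd (by norm_num) h
      have h4 := hp.two_le
      have h5 : p % 2 = 1 := Nat.odd_iff.1 hodd
      omega
    · exact h
  obtain ⟨m, rfl⟩ := hpk
  rw [hk2, pow_mul, hcp, one_pow, mul_one]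

/-- Non-abelian groups of order `p³`, `p` odd. -/
theorem p3_odd {H : Type*} [Group H] {p : ℕ} [Fact p.Prime] (hcard : Nat.card H = p ^ 3)
    (hnc : ¬ ∀ a b : H, a * b = b * a) (hodd : Odd p) :
    (∀ x : H, x ^ p = 1) ∨ CharChain p H := by
  have hp := (Fact.out : p.Prime)
  have hfin : Finite H := p3_finite hcard
  have hZ := p3_center_card hcard hnc
  obtain ⟨-, hpowZ⟩ := p3_quot_facts hcard hnc
  obtain ⟨φ, hφ⟩ : ∃ φ : H →* H, ∀ x, φ x = x ^ p :=
    ⟨MonoidHom.mk' (fun x => x ^ p) (fun a b => p3_pow_mul hcard hnc hodd a b), fun x => rfl⟩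
  have hprod : Nat.card ↥φ.ker * Nat.card ↥φ.range = p ^ 3 := by
    rw [← Subgroup.index_ker, Subgroup.card_mul_index, hcard]
  have hrZ : φ.range ≤ Subgroup.center H := by
    intro w hw
    obtain ⟨x, rfl⟩ := MonoidHom.mem_range.1 hw
    rw [hφ]
    exact hpowZ x
  have hdvd : Nat.card ↥φ.range ∣ Nat.card ↥(Subgroup.center H) := Subgroup.card_dvd_of_le hrZ
  rw [hZ] at hdvd
  rcases (Nat.dvd_prime hp).1 hdvd with h1 | h1
  · left
    intro x
    have hx : φ x ∈ φ.range := MonoidHom.mem_range.2 ⟨x, rfl⟩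
    rw [Subgroup.card_eq_one.1 h1, Subgroup.mem_bot, hφ] at hx
    exact hx
  · right
    have hk : Nat.card ↥φ.ker = p ^ 2 := by
      rw [h1] at hprod
      apply Nat.eq_of_mul_eq_mul_right hp.pos
      rw [hprod]
      ring
    refine ⟨Subgroup.center H, φ.ker, ?_, hZ, hk, fun α z hz => p3_center_aut_mem α hz, ?_⟩
    · intro z hz
      rw [MonoidHom.mem_ker, hφ]
      exact p3_center_pow hZ hz
    · intro α x hx
      rw [MonoidHom.mem_ker, hφ] at hx ⊢
      rw [← map_pow, hx, map_one]

/-- The map `Q₈ → H` attached to a pair of elements. -/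
def q8Fun {H : Type*} [Group H] (x y : H) : QuaternionGroup 2 → H
  | QuaternionGroup.a i => x ^ i.val
  | QuaternionGroup.xa i => y * x ^ i.val

theorem q8_pow_add {H : Type*} [Group H] {x : H} (hx4 : x ^ 4 = 1) (i j : ZMod (2 * 2)) :
    x ^ (i + j).val = x ^ i.val * x ^ j.val := by
  have : NeZero (2 * 2) := ⟨by norm_num⟩
  rw [ZMod.val_add, ← pow_add]
  exact (pow_eq_pow_mod _ hx4).symm

theorem q8_pow_neg {H : Type*} [Group H] {x : H} (hx4 : x ^ 4 = 1) (i : ZMod (2 * 2)) :
    x ^ (-i).val = (x ^ i.val)⁻¹ := by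
  apply eq_inv_of_mul_eq_one_left
  rw [← q8_pow_add hx4, neg_add_cancel, ZMod.val_zero, pow_zero]

theorem q8_pow_two {H : Type*} [Group H] (x : H) :
    x ^ ((2 : ℕ) : ZMod (2 * 2)).val = x ^ 2 := by
  have e : ((2 : ℕ) : ZMod (2 * 2)).val = 2 := by decide
  rw [e]

theorem q8_conj_pow {H : Type*} [Group H] {x y : H} (hrel : x * y = y * x⁻¹) (n : ℕ) :
    x ^ n * y = y * (x ^ n)⁻¹ := by
  induction n with
  | zero => simp
  | succ n ih =>
    calc x ^ (n + 1) * y = x ^ n * (x * y) := by rw [pow_succ, mul_assoc]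
      _ = (x ^ n * y) * x⁻¹ := by rw [hrel, mul_assoc]
      _ = y * ((x ^ n)⁻¹ * x⁻¹) := by rw [ih, mul_assoc]
      _ = y * (x ^ (n + 1))⁻¹ := by rw [pow_succ' x n, mul_inv_rev]

theorem q8Fun_mul {H : Type*} [Group H] {x y : H} (hx4 : x ^ 4 = 1) (hyy : y ^ 2 = x ^ 2)
    (hrel : x * y = y * x⁻¹) (u v : QuaternionGroup 2) :
    q8Fun x y (u * v) = q8Fun x y u * q8Fun x y v := by
  rcases u with i | i <;> rcases v with j | j
  · rw [QuaternionGroup.a_mul_a]
    show x ^ (i + j).val = x ^ i.val * x ^ j.val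
    exact q8_pow_add hx4 i j
  · rw [QuaternionGroup.a_mul_xa]
    show y * x ^ (j - i).val = x ^ i.val * (y * x ^ j.val)
    rw [sub_eq_neg_add, q8_pow_add hx4 (-i) j, q8_pow_neg hx4 i, ← mul_assoc (x ^ i.val),
      q8_conj_pow hrel, mul_assoc]
  · rw [QuaternionGroup.xa_mul_a]
    show y * x ^ (i + j).val = y * x ^ i.val * x ^ j.val
    rw [q8_pow_add hx4 i j, mul_assoc]
  · rw [QuaternionGroup.xa_mul_xa]
    show x ^ (((2 : ℕ) : ZMod (2 * 2)) + j - i).val = y * x ^ i.val * (y * x ^ j.val)
    have e : ((2 : ℕ) : ZMod (2 * 2)) + j - i = ((2 : ℕ) : ZMod (2 * 2)) + (-i + j) := by ring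
    have e2 : y * x ^ i.val * (y * x ^ j.val) = y * (x ^ i.val * y) * x ^ j.val := by
      simp only [mul_assoc]
    rw [e, q8_pow_add hx4 _ (-i + j), q8_pow_add hx4 (-i) j, q8_pow_neg hx4 i, q8_pow_two, e2,
      q8_conj_pow hrel, ← hyy, pow_two]
    simp only [mul_assoc]

/-- A group of order `8` generated by `x` of order `4` and `y ∉ ⟨x⟩` with `y² = x²` and
`x y = y x⁻¹` is the quaternion group. -/
theorem q8_iso {H : Type*} [Group H] (hcard : Nat.card H = 2 ^ 3) {x y : H}
    (hord : orderOf x = 4) (hyy : y ^ 2 = x ^ 2) (hrel : x * y = y * x⁻¹)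
    (hy : y ∉ Subgroup.zpowers x) : Nonempty (H ≃* QuaternionGroup 2) := by
  have : NeZero (2 * 2) := ⟨by norm_num⟩
  have hfin : Finite H := p3_finite hcard
  have hx4 : x ^ 4 = 1 := by rw [← hord]; exact pow_orderOf_eq_one x
  obtain ⟨f, hf⟩ : ∃ f : QuaternionGroup 2 →* H, ∀ u, f u = q8Fun x y u :=
    ⟨MonoidHom.mk' (q8Fun x y) (q8Fun_mul hx4 hyy hrel), fun u => rfl⟩
  have hinj : Function.Injective f := by
    rw [injective_iff_map_eq_one]
    intro u hu
    rw [hf] at hu
    rcases u with i | i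
    · have hu' : x ^ i.val = 1 := hu
      have hdvd : orderOf x ∣ i.val := orderOf_dvd_of_pow_eq_one hu'
      rw [hord] at hdvd
      have hlt : i.val < 2 * 2 := ZMod.val_lt i
      have h0 : i.val = 0 := by
        obtain ⟨d, hd⟩ := hdvd
        omega
      have hi : i = 0 := (ZMod.val_eq_zero i).1 h0
      exact (congrArg QuaternionGroup.a hi).trans QuaternionGroup.a_zero
    · exfalso
      have hu' : y * x ^ i.val = 1 := hu
      apply hy
      have e : y = (x ^ i.val)⁻¹ := eq_inv_of_mul_eq_one_left hu'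
      rw [e]
      exact Subgroup.inv_mem _ (Subgroup.pow_mem _ (Subgroup.mem_zpowers x) _)
  have h8 : Nat.card (QuaternionGroup 2) = 8 :=
    (Nat.card_eq_fintype_card.trans QuaternionGroup.card).trans (by norm_num)
  have hH8 : Nat.card H = 8 := hcard.trans (by norm_num)
  have hbij : Function.Bijective f :=
    hinj.bijective_of_nat_card_le (le_of_eq (hH8.trans h8.symm))
  exact ⟨(MulEquiv.ofBijective f hbij).symm⟩

/-- Non-abelian groups of order `8`. -/
theorem p3_two {H : Type*} [Group H] (hcard : Nat.card H = 2 ^ 3)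
    (hnc : ¬ ∀ a b : H, a * b = b * a) : CharChain 2 H ∨ Nonempty (H ≃* QuaternionGroup 2) := by
  have hfin : Finite H := p3_finite hcard
  have hZ : Nat.card (Subgroup.center H) = 2 := p3_center_card hcard hnc
  obtain ⟨hcommZ, hpowZ⟩ := p3_quot_facts hcard hnc
  obtain ⟨x, hx⟩ : ∃ x : H, x ^ 2 ≠ 1 := by
    by_contra hcon
    have hall : ∀ x : H, x * x = 1 := by
      intro x
      by_contra h
      exact hcon ⟨x, by rw [pow_two]; exact h⟩
    apply hnc
    intro a b
    have h1 : a * b = (a * b)⁻¹ := eq_inv_of_mul_eq_one_left (hall (a * b))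
    rw [mul_inv_rev, inv_eq_of_mul_eq_one_left (hall a), inv_eq_of_mul_eq_one_left (hall b)] at h1
    exact h1
  have hxZ : x ^ 2 ∈ Subgroup.center H := hpowZ x
  have hZelts : ∀ w ∈ Subgroup.center H, w = 1 ∨ w = x ^ 2 := by
    intro w hw
    by_contra hcon
    have hw1 : w ≠ 1 := fun h => hcon (Or.inl h)
    have hw2 : w ≠ x ^ 2 := fun h => hcon (Or.inr h)
    obtain ⟨y, -, huniq⟩ := (Nat.card_eq_two_iff' (1 : ↥(Subgroup.center H))).1 hZ
    have h1 : (⟨w, hw⟩ : ↥(Subgroup.center H)) = y :=
      huniq _ (fun h => hw1 (congrArg Subtype.val h))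
    have h2 : (⟨x ^ 2, hxZ⟩ : ↥(Subgroup.center H)) = y :=
      huniq _ (fun h => hx (congrArg Subtype.val h))
    exact hw2 (congrArg Subtype.val (h1.trans h2.symm))
  have hx4 : x ^ 4 = 1 := by
    have h := p3_center_pow hZ hxZ
    rw [← pow_mul] at h
    exact h
  have hord : orderOf x = 4 := by
    have e4 : (2 : ℕ) ^ (1 + 1) = 4 := by norm_num
    have h := orderOf_eq_prime_pow (p := 2) (n := 1) (x := x) (by rw [pow_one]; exact hx)
      (by rw [e4]; exact hx4)
    rw [e4] at h
    exact h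
  have hRcard : Nat.card ↥(Subgroup.zpowers x) = 4 := (Nat.card_zpowers x).trans hord
  have hZR : Subgroup.center H ≤ Subgroup.zpowers x := by
    intro w hw
    rcases hZelts w hw with rfl | rfl
    · exact Subgroup.one_mem _
    · exact Subgroup.pow_mem _ (Subgroup.mem_zpowers x) 2
  by_cases hinv : ∃ t : H, t * t = 1 ∧ t ∉ Subgroup.center H
  · left
    obtain ⟨t, ht, htZ⟩ := hinv
    have hRidx : (Subgroup.zpowers x).index = 2 := by
      have h := Subgroup.card_mul_index (Subgroup.zpowers x)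
      rw [hRcard, hcard] at h
      have h8 : (2 : ℕ) ^ 3 = 8 := by norm_num
      rw [h8] at h
      omega
    have htR : t ∉ Subgroup.zpowers x := by
      intro h
      obtain ⟨k, hk⟩ := Subgroup.mem_zpowers_iff.1 h
      have h2 : x ^ (k + k) = 1 := by
        rw [zpow_add, hk]
        exact ht
      have h3 : (orderOf x : ℤ) ∣ k + k := orderOf_dvd_iff_zpow_eq_one.2 h2
      rw [hord] at h3
      obtain ⟨d, hd⟩ := h3
      have hk2 : k = ((2 : ℕ) : ℤ) * d := by
        push_cast at hd ⊢
        omega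
      apply htZ
      rw [← hk, hk2, zpow_mul, zpow_natCast]
      exact Subgroup.zpow_mem _ hxZ d
    have htinv : t⁻¹ = t := inv_eq_of_mul_eq_one_left ht
    have hconj : t * x * t⁻¹ = x⁻¹ := by
      rcases hZelts _ (hcommZ t x) with h | h
      · exfalso
        have htx : t * x = x * t := by
          have e : t * x = (t * x * t⁻¹ * x⁻¹) * (x * t) := by group
          rw [e, h, one_mul]
        have hRC : Subgroup.zpowers x ≤ Subgroup.centralizer ({x} : Set H) := by
          rw [Subgroup.zpowers_le, Subgroup.mem_centralizer_iff]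
          intro g hg
          rw [Set.mem_singleton_iff.1 hg]
        have htC : t ∈ Subgroup.centralizer ({x} : Set H) := by
          rw [Subgroup.mem_centralizer_iff]
          intro g hg
          rw [Set.mem_singleton_iff.1 hg]
          exact htx.symm
        have hlt : Subgroup.zpowers x < Subgroup.centralizer ({x} : Set H) := by
          refine lt_of_le_of_ne hRC (fun h' => htR ?_)
          rw [h']
          exact htC
        have hco : IsCoatom (Subgroup.zpowers x) :=
          p3_coatom hcard _ (hRcard.trans (by norm_num))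
        have htop := hco.2 _ hlt
        have hxc : x ∈ Subgroup.center H := by
          rw [Subgroup.mem_center_iff]
          intro g
          have hg : g ∈ Subgroup.centralizer ({x} : Set H) := by
            rw [htop]; exact Subgroup.mem_top g
          exact ((Subgroup.mem_centralizer_iff.1 hg) x (Set.mem_singleton x)).symm
        rcases hZelts x hxc with h1 | h1
        · exact hx (by rw [h1, one_pow])
        · have h2 : x = 1 := by
            have e : x * 1 = x * x := by
              rw [mul_one, ← pow_two]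
              exact h1
            exact (mul_left_cancel e).symm
          exact hx (by rw [h2, one_pow])
      · have e : t * x * t⁻¹ = (t * x * t⁻¹ * x⁻¹) * x := by group
        rw [e, h]
        apply eq_inv_of_mul_eq_one_left
        have e' : x ^ 2 * x * x = x ^ 4 := by group
        rw [e', hx4]
    have hout : ∀ y : H, y ∉ Subgroup.zpowers x → y * y = 1 := by
      intro y hy
      have hty : t * y ∈ Subgroup.zpowers x := by
        rw [Subgroup.mul_mem_iff_of_index_two hRidx]
        exact ⟨fun h => absurd h htR, fun h => absurd h hy⟩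
      obtain ⟨k, hk⟩ := Subgroup.mem_zpowers_iff.1 hty
      have hy' : y = t * x ^ k := by
        rw [hk, ← mul_assoc, ht, one_mul]
      have hconjk : t * x ^ k * t⁻¹ = (x ^ k)⁻¹ := by
        have h1 : (MulAut.conj t) (x ^ k) = ((MulAut.conj t) x) ^ k := map_zpow _ _ _
        rw [MulAut.conj_apply, MulAut.conj_apply, hconj, inv_zpow] at h1
        exact h1
      rw [hy']
      calc t * x ^ k * (t * x ^ k) = (t * x ^ k * t⁻¹) * x ^ k := by
            rw [htinv]
            simp only [mul_assoc]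
        _ = 1 := by rw [hconjk, inv_mul_cancel]
    have hRinv : ∀ α : MulAut H, ∀ w ∈ Subgroup.zpowers x, α w ∈ Subgroup.zpowers x := by
      intro α w hw
      have hαx : α x ∈ Subgroup.zpowers x := by
        by_contra h
        have h1 := hout _ h
        rw [← map_mul, ← pow_two] at h1
        exact hx ((map_eq_one_iff α α.injective).1 h1)
      obtain ⟨k, rfl⟩ := Subgroup.mem_zpowers_iff.1 hw
      rw [map_zpow]
      exact Subgroup.zpow_mem _ hαx k
    exact ⟨Subgroup.center H, Subgroup.zpowers x, hZR, hZ, hRcard.trans (by norm_num),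
      fun α z hz => p3_center_aut_mem α hz, hRinv⟩
  · right
    have hinv' : ∀ t : H, t * t = 1 → t ∈ Subgroup.center H := by
      intro t ht
      by_contra h
      exact hinv ⟨t, ht, h⟩
    obtain ⟨y, hy⟩ : ∃ y : H, y ∉ Subgroup.zpowers x := by
      by_contra hcon
      have htop : Subgroup.zpowers x = ⊤ := by
        rw [Subgroup.eq_top_iff']
        intro g
        by_contra hg
        exact hcon ⟨g, hg⟩
      have h := hRcard
      rw [htop, Subgroup.card_top, hcard] at h
      norm_num at h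
    have hyy : y ^ 2 = x ^ 2 := by
      rcases hZelts _ (hpowZ y) with h | h
      · exfalso
        apply hy
        apply hZR
        apply hinv'
        rw [← pow_two]
        exact h
      · exact h
    have hconj : y * x * y⁻¹ * x⁻¹ = x ^ 2 := by
      rcases hZelts _ (hcommZ y x) with h | h
      · exfalso
        have hyx : y * x = x * y := by
          have e : y * x = (y * x * y⁻¹ * x⁻¹) * (x * y) := by group
          rw [e, h, one_mul]
        have hxy' : x⁻¹ * y = y * x⁻¹ := by
          have e : x⁻¹ * y = x⁻¹ * (y * x) * x⁻¹ := by group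
          rw [e, hyx]
          group
        have h2 : (y * x⁻¹) * (y * x⁻¹) = 1 := by
          calc (y * x⁻¹) * (y * x⁻¹) = y * (x⁻¹ * y) * x⁻¹ := by simp only [mul_assoc]
            _ = y * (y * x⁻¹) * x⁻¹ := by rw [hxy']
            _ = y ^ 2 * (x ^ 2)⁻¹ := by
                rw [pow_two, pow_two, mul_inv_rev]
                simp only [mul_assoc]
            _ = 1 := by rw [hyy, mul_inv_cancel]
        have h3 : y * x⁻¹ ∈ Subgroup.zpowers x := hZR (hinv' _ h2)
        apply hy
        have e : y = (y * x⁻¹) * x := by group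
        rw [e]
        exact Subgroup.mul_mem _ h3 (Subgroup.mem_zpowers x)
      · exact h
    have hrel : x * y = y * x⁻¹ := by
      have h1 : y * x = x ^ 2 * (x * y) := by
        have e : y * x = (y * x * y⁻¹ * x⁻¹) * (x * y) := by group
        rw [e, hconj]
      have h2 : x * (y * x) = y := by
        calc x * (y * x) = x * (x ^ 2 * (x * y)) := by rw [h1]
          _ = x ^ 4 * y := by group
          _ = y := by rw [hx4, one_mul]
      calc x * y = x * (y * x) * x⁻¹ := by group
        _ = y * x⁻¹ := by rw [h2]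
    exact q8_iso hcard hord hyy hrel hy

/-- The groups of order `p³`: either there is a chain of characteristic subgroups with factors
of order `p`, or the group is elementary abelian, extraspecial of exponent `p` (`p` odd), or
quaternion. -/
theorem p3_trichotomy {H : Type*} [Group H] {p : ℕ} [Fact p.Prime] (hcard : Nat.card H = p ^ 3) :
    CharChain p H ∨ ((∀ a b : H, a * b = b * a) ∧ ∀ a : H, a ^ p = 1) ∨
      (Odd p ∧ IsExtraspecial p H ∧ ∀ x : H, x ^ p = 1) ∨
      (p = 2 ∧ Nonempty (H ≃* QuaternionGroup 2)) := by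
  have hp := (Fact.out : p.Prime)
  by_cases hc : ∀ a b : H, a * b = b * a
  · rcases p3_abelian hcard hc with h | h
    · exact Or.inr (Or.inl ⟨hc, h⟩)
    · exact Or.inl h
  · rcases hp.eq_two_or_odd' with h2 | hodd
    · subst h2
      rcases p3_two hcard hc with h | h
      · exact Or.inl h
      · exact Or.inr (Or.inr (Or.inr ⟨rfl, h⟩))
    · rcases p3_odd hcard hc hodd with h | h
      · exact Or.inr (Or.inr (Or.inl ⟨hodd, p3_extraspecial hcard hc, h⟩))
      · exact Or.inl h

end P3Struct

end Cfsg.Agent.Helper26
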