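import Mathlib
import Cfsg.Agent.Helper26.P3Chain
import Cfsg.Agent.Helper26.P3Struct
import Cfsg.Agent.Helper26.FusionEss

set_option autoImplicit false

namespace Cfsg.Agent.Helper26

open Cfsg

/-- Group-theoretic core of the statement on essential subgroups of order `p³`. -/
theorem ess_p3_group {H : Type*} [Group H] {p : ℕ} [Fact p.Prime] (hcard : Nat.card H = p ^ 3)
    (A : Subgroup (MulAut H)) [hI : ((Inn H).subgroupOf A).Normal]
    (E : Subgroup (↥A ⧸ (Inn H).subgroupOf A)) (hE : IsStronglyPEmbedded p E)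
    (hrad : (pCore p ↥A).map A.subtype = Inn H) :
    ((∀ a b : H, a * b = b * a) ∧ ∀ a : H, a ^ p = 1) ∨
      (Odd p ∧ IsExtraspecial p H ∧ ∀ x : H, x ^ p = 1) ∨
      (p = 2 ∧ Nonempty (H ≃* QuaternionGroup 2)) := by
  have hp := (Fact.out : p.Prime)
  have hfin : Finite H := p3_finite hcard
  rcases p3_trichotomy hcard with hch | h
  · exfalso
    obtain ⟨H₁, H₂, h12, hc1, hc2, hinv1, hinv2⟩ := hch
    obtain ⟨u, hu⟩ := exists_prime_orderOf_dvd_card' p hE.1
    obtain ⟨σ, hσ⟩ := QuotientGroup.mk_surjective u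
    have hup : u ^ p = 1 := by
      rw [← hu]
      exact pow_orderOf_eq_one u
    have hu1 : u ≠ 1 := by
      intro h
      rw [h, orderOf_one] at hu
      exact hp.one_lt.ne hu
    have hσI : (σ : MulAut H) ∉ Inn H := by
      intro h
      apply hu1
      rw [← hσ]
      exact (QuotientGroup.eq_one_iff σ).2 (Subgroup.mem_subgroupOf.2 h)
    have hσp : (σ : MulAut H) ^ p ∈ Inn H := by
      have h1 : σ ^ p ∈ (Inn H).subgroupOf A := by
        rw [← QuotientGroup.eq_one_iff, QuotientGroup.mk_pow, hσ, hup]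
      exact Subgroup.mem_subgroupOf.1 h1
    obtain ⟨h, hh⟩ := MonoidHom.mem_range.1 hσp
    have hσ4 : (σ : MulAut H) ^ p ^ 4 = 1 := by
      have e : p ^ 4 = p * p ^ 3 := by ring
      rw [e, pow_mul, ← hh, ← map_pow, ← hcard, pow_card_eq_one', map_one]
    exact no_char_chain hcard A hrad σ.2 hσ4 hσI H₁ H₂ h12 hc1 hc2 hinv1 hinv2
  · exact h

/-- An essential subgroup of order `p³` is elementary abelian, extraspecial of exponent `p`
(`p` odd) or quaternion of order `8`. -/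
theorem ess_p3_fusion {Ω : Type*} [Group Ω] {S : Subgroup Ω} [Finite S] (p : ℕ) [Fact p.Prime]
    (hS : IsPGroup p S) (F : Cfsg.FusionSystem S) (H : Subgroup Ω) (hH : F.IsEssential p H)
    (hcard : Nat.card H = p ^ 3) :
    Cfsg.IsElementaryAbelian p H ∨ (Odd p ∧ Cfsg.IsExtraspecial p ↥H ∧ ∀ x ∈ H, x ^ p = 1) ∨
      (p = 2 ∧ Nonempty (↥H ≃* QuaternionGroup 2)) := by
  have hrad := (radical_of_essential p hS F hH).2
  obtain ⟨_, _, hI, E, hE⟩ := hH
  rcases ess_p3_group hcard (F.autGroup H) E hE hrad with ⟨hcomm, hV⟩ | ⟨hodd, hex, hV⟩ | h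
  · exact Or.inl ⟨isMulCommutative_iff.2 hcomm, fun a ha => congrArg Subtype.val (hV ⟨a, ha⟩)⟩
  · exact Or.inr (Or.inl ⟨hodd, hex, fun a ha => congrArg Subtype.val (hV ⟨a, ha⟩)⟩)
  · exact Or.inr (Or.inr h)

end Cfsg.Agent.Helper26
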