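import Mathlib
import Cfsg.Agent.Helper26.P3Ess
import Cfsg.Agent.Helper26.EssP2

set_option autoImplicit false

namespace Cfsg.Agent.Helper26

open Cfsg

section EssRank2

/-- `x ^ (m % n) = x ^ m` when `x ^ n = 1`. -/
theorem r2_pow_mod {M : Type*} [Monoid M] {x : M} {n : ℕ} (h : x ^ n = 1) (m : ℕ) :
    x ^ (m % n) = x ^ m := by
  conv_rhs => rw [← Nat.mod_add_div m n]
  rw [pow_add, pow_mul, h, one_pow, mul_one]

theorem r2_exists_inv {p : ℕ} [Fact p.Prime] {j : ℕ} (hj : ¬ p ∣ j) :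
    ∃ j' : ℕ, j * j' % p = 1 := by
  have hne : NeZero p := ⟨(Fact.out : p.Prime).ne_zero⟩
  have hj0 : (j : ZMod p) ≠ 0 := fun h => hj ((ZMod.natCast_eq_zero_iff j p).1 h)
  refine ⟨((j : ZMod p)⁻¹).val, ?_⟩
  have h1 : ((j * ((j : ZMod p)⁻¹).val : ℕ) : ZMod p) = 1 := by
    rw [Nat.cast_mul, ZMod.natCast_zmod_val, mul_inv_cancel₀ hj0]
  have h2 := congrArg ZMod.val h1
  rw [ZMod.val_natCast, ZMod.val_one] at h2
  exact h2

theorem r2_shuffle {M : Type*} [CommMonoid M] (h a b c : M) (n c2 c3 : ℕ) :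
    h * a * (a * b) ^ n * (b * c) ^ c2 * c ^ c3
      = h * a ^ (n + 1) * b ^ (n + c2) * c ^ (c2 + c3) := by
  rw [mul_pow, mul_pow, pow_succ, pow_add, pow_add]
  ac_rfl

/-- independence of two elements of order `p` -/
theorem r2_indep {M : Type*} [CommGroup M] {p : ℕ} [Fact p.Prime] {u v : M} (hu : u ^ p = 1)
    (hv : v ^ p = 1) (hu1 : u ≠ 1) (hv' : ∀ n : ℕ, v ≠ u ^ n) (i j : ℕ)
    (h : u ^ i * v ^ j = 1) : p ∣ i ∧ p ∣ j := by
  have hp := (Fact.out : p.Prime)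
  have hpj : p ∣ j := by
    by_contra hj
    obtain ⟨j', hj'⟩ := r2_exists_inv hj
    obtain ⟨r, hr⟩ : ∃ r, p = r + 1 := ⟨p - 1, by have := hp.pos; omega⟩
    have e : i + i * r = i * p := by rw [hr]; ring
    have h1 : u ^ i * u ^ (i * r) = 1 := by
      rw [← pow_add, e, pow_mul', hu, one_pow]
    have hvj : v ^ j = u ^ (i * r) := mul_left_cancel (h.trans h1.symm)
    apply hv' (i * r * j')
    calc v = v ^ (j * j' % p) := by rw [hj', pow_one]
      _ = v ^ (j * j') := r2_pow_mod hv _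
      _ = (v ^ j) ^ j' := pow_mul v j j'
      _ = u ^ (i * r * j') := by rw [hvj, ← pow_mul]
  refine ⟨?_, hpj⟩
  by_contra hi
  obtain ⟨i', hi'⟩ := r2_exists_inv hi
  obtain ⟨j₀, hj₀⟩ := hpj
  have hvj : v ^ j = 1 := by rw [hj₀, pow_mul, hv, one_pow]
  rw [hvj, mul_one] at h
  apply hu1
  calc u = u ^ (i * i' % p) := by rw [hi', pow_one]
    _ = u ^ (i * i') := r2_pow_mod hu _
    _ = (u ^ i) ^ i' := pow_mul u i i'
    _ = 1 := by rw [h, one_pow]

/-- A `p`-automorphism group without normal `p`-subgroups has no nontrivial element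
stabilising a characteristic chain down from a subgroup on which it acts faithfully. -/
theorem r2_stab_trivial {H : Type*} [Group H] [Finite H] {p : ℕ} [Fact p.Prime]
    (hG : IsPGroup p H) (A : Subgroup (MulAut H))
    (hA : ∀ N : Subgroup ↥A, N.Normal → IsPGroup p ↥N → N = ⊥)
    (D : ℕ → Subgroup H) (hanti : ∀ j, D (j + 1) ≤ D j) (m : ℕ) (hm : D m = ⊥)
    (hfix : ∀ δ : MulAut H, δ ∈ A → (∀ x ∈ D 0, δ x = x) → δ = 1)
    (hinvD : ∀ α : MulAut H, ∀ j, ∀ x ∈ D j, α x ∈ D j)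
    {γ : MulAut H} (hγA : γ ∈ A) (hγ : StabChain D γ) : γ = 1 := by
  have hp := (Fact.out : p.Prime)
  obtain ⟨c, hc⟩ : ∃ c, ∀ g : H, g ^ p ^ c = 1 := by
    obtain ⟨c, hcard⟩ := IsPGroup.iff_card.1 hG
    exact ⟨c, fun g => by rw [← hcard]; exact pow_card_eq_one'⟩
  have hkey : ∀ δ : MulAut H, δ ∈ A → StabChain D δ → ∃ k, δ ^ p ^ k = 1 := by
    intro δ hδA hδ
    have hbase : ∃ k, ∀ x ∈ D m, (δ ^ p ^ k) x = x := by
      refine ⟨0, fun x hx => ?_⟩
      rw [hm] at hx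
      rw [Subgroup.mem_bot.1 hx, map_one]
    obtain ⟨k, hk⟩ := stab_pow_fix hc δ D hanti m hbase hδ m le_rfl
    rw [Nat.sub_self] at hk
    exact ⟨k, hfix _ (A.pow_mem hδA _) hk⟩
  have hinvS : ∀ δ : MulAut H, δ ∈ A → StabChain D δ → StabChain D δ⁻¹ := by
    intro δ hδA hδ
    obtain ⟨k, hk⟩ := hkey δ hδA hδ
    have hinv : δ⁻¹ = δ ^ (p ^ k - 1) := by
      apply inv_eq_of_mul_eq_one_right
      rw [← pow_succ', Nat.sub_add_cancel (Nat.succ_le_of_lt (pow_pos hp.pos k))]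
      exact hk
    rw [hinv]
    exact stabChain_pow hanti hδ _
  obtain ⟨N, hN⟩ : ∃ N : Subgroup ↥A, N = (stabSubgroup D hanti).subgroupOf A := ⟨_, rfl⟩
  have hNn : N.Normal := by
    rw [hN]
    refine ⟨fun n hn g => ?_⟩
    rw [Subgroup.mem_subgroupOf] at hn ⊢
    rw [mem_stabSubgroup] at hn ⊢
    have e1 : ((g * n * g⁻¹ : ↥A) : MulAut H) =
        (g : MulAut H) * (n : MulAut H) * (g : MulAut H)⁻¹ := rfl
    have e2 : ((g * n * g⁻¹ : ↥A) : MulAut H)⁻¹ =
        (g : MulAut H) * (n : MulAut H)⁻¹ * (g : MulAut H)⁻¹ := by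
      rw [e1]; group
    rw [e2, e1]
    exact ⟨stabChain_conj (hinvD _) (hinvD _) hn.1, stabChain_conj (hinvD _) (hinvD _) hn.2⟩
  have hNp : IsPGroup p ↥N := by
    rw [hN]
    intro g
    have hg : ((g : ↥A) : MulAut H) ∈ stabSubgroup D hanti := Subgroup.mem_subgroupOf.1 g.2
    obtain ⟨k, hk⟩ := hkey _ (g : ↥A).2 (mem_stabSubgroup.1 hg).1
    refine ⟨k, Subtype.ext (Subtype.ext ?_)⟩
    exact hk
  have hbot := hA N hNn hNp
  have hmem : (⟨γ, hγA⟩ : ↥A) ∈ N := by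
    rw [hN]
    exact Subgroup.mem_subgroupOf.2 (mem_stabSubgroup.2 ⟨hγ, hinvS γ hγA hγ⟩)
  rw [hbot] at hmem
  exact congrArg Subtype.val (Subgroup.mem_bot.1 hmem)

/-- The subgroup of elements killed by `p ^ i`. -/
def r2Om (H : Type*) [CommGroup H] (p i : ℕ) : Subgroup H :=
  (powMonoidHom (p ^ i) : H →* H).ker

/-- The subgroup of `p ^ i`-th powers. -/
def r2Ag (H : Type*) [CommGroup H] (p i : ℕ) : Subgroup H :=
  (powMonoidHom (p ^ i) : H →* H).range

variable {H : Type*} [CommGroup H] {p : ℕ}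

theorem mem_r2Om {x : H} {i : ℕ} : x ∈ r2Om H p i ↔ x ^ p ^ i = 1 := by
  constructor
  · intro h
    exact MonoidHom.mem_ker.1 h
  · intro h
    exact MonoidHom.mem_ker.2 h

theorem mem_r2Ag {y : H} {i : ℕ} : y ∈ r2Ag H p i ↔ ∃ x : H, x ^ p ^ i = y := by
  constructor
  · intro h
    obtain ⟨x, hx⟩ := MonoidHom.mem_range.1 h
    exact ⟨x, hx⟩
  · rintro ⟨x, hx⟩
    exact MonoidHom.mem_range.2 ⟨x, hx⟩

theorem r2Om_mono {i j : ℕ} (h : i ≤ j) : r2Om H p i ≤ r2Om H p j := by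
  intro x hx
  rw [mem_r2Om] at hx ⊢
  obtain ⟨d, rfl⟩ := Nat.exists_eq_add_of_le h
  rw [pow_add, pow_mul, hx, one_pow]

theorem r2Ag_anti (i : ℕ) : r2Ag H p (i + 1) ≤ r2Ag H p i := by
  intro y hy
  obtain ⟨x, rfl⟩ := mem_r2Ag.1 hy
  exact mem_r2Ag.2 ⟨x ^ p, by rw [← pow_mul, ← pow_succ']⟩

theorem r2Om_inv (α : MulAut H) (i : ℕ) {x : H} (hx : x ∈ r2Om H p i) : α x ∈ r2Om H p i := by
  rw [mem_r2Om] at hx ⊢
  rw [← map_pow α x (p ^ i), hx, map_one]

theorem r2Ag_inv (α : MulAut H) (i : ℕ) {x : H} (hx : x ∈ r2Ag H p i) : α x ∈ r2Ag H p i := by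
  obtain ⟨z, rfl⟩ := mem_r2Ag.1 hx
  exact mem_r2Ag.2 ⟨α z, (map_pow α z _).symm⟩

theorem r2_card_om [Finite H] (i : ℕ) : Nat.card ↥(r2Om H p i) = (r2Ag H p i).index := by
  have h1 := Subgroup.card_mul_index (powMonoidHom (p ^ i) : H →* H).ker
  have h2 := Subgroup.card_mul_index (powMonoidHom (p ^ i) : H →* H).range
  rw [Subgroup.index_ker] at h1
  have h3 : Nat.card ↥(powMonoidHom (p ^ i) : H →* H).range
        * Nat.card ↥(powMonoidHom (p ^ i) : H →* H).ker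
      = Nat.card ↥(powMonoidHom (p ^ i) : H →* H).range
        * (powMonoidHom (p ^ i) : H →* H).range.index := by
    rw [h2, mul_comm, h1]
  exact Nat.eq_of_mul_eq_mul_left Nat.card_pos h3

/-- an automorphism in `A` fixing the elements of order `p` is trivial -/
theorem r2_fix_om [Fact p.Prime] [Finite H] (hG : IsPGroup p H) (A : Subgroup (MulAut H))
    (hA : ∀ N : Subgroup ↥A, N.Normal → IsPGroup p ↥N → N = ⊥)
    {γ : MulAut H} (hγA : γ ∈ A) (hγ : ∀ x : H, x ^ p = 1 → γ x = x) : γ = 1 := by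
  obtain ⟨m, hcard⟩ := IsPGroup.iff_card.1 hG
  have hm : ∀ x : H, x ^ p ^ m = 1 := fun x => by rw [← hcard]; exact pow_card_eq_one'
  obtain ⟨D, hD⟩ : ∃ D : ℕ → Subgroup H, D = fun j => r2Om H p (m - j) := ⟨_, rfl⟩
  have hDj : ∀ j, D j = r2Om H p (m - j) := fun j => by rw [hD]
  have hanti : ∀ j, D (j + 1) ≤ D j := by
    intro j
    rw [hDj, hDj]
    exact r2Om_mono (by omega)
  have hDm : D m = ⊥ := by
    rw [hDj, Nat.sub_self]
    refine (Subgroup.eq_bot_iff_forall _).2 (fun x hx => ?_)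
    have h := mem_r2Om.1 hx
    rw [pow_zero, pow_one] at h
    exact h
  have hfix : ∀ δ : MulAut H, δ ∈ A → (∀ x ∈ D 0, δ x = x) → δ = 1 := by
    intro δ _ h
    refine MulEquiv.ext fun x => ?_
    have hx : x ∈ D 0 := by
      rw [hDj, Nat.sub_zero]
      exact mem_r2Om.2 (hm x)
    rw [h x hx, MulAut.one_apply]
  have hinvD : ∀ α : MulAut H, ∀ j, ∀ x ∈ D j, α x ∈ D j := by
    intro α j x hx
    rw [hDj] at hx ⊢
    exact r2Om_inv α _ hx
  have hstab : StabChain D γ := by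
    intro j x hx
    rw [hDj] at hx ⊢
    rw [mem_r2Om] at hx ⊢
    obtain ⟨t, ht⟩ : ∃ t, t = m - (j + 1) := ⟨_, rfl⟩
    rw [← ht]
    by_cases hjm : j < m
    · have e : m - j = t + 1 := by omega
      rw [e] at hx
      have h1 : (x ^ p ^ t) ^ p = 1 := by
        rw [← pow_mul, ← pow_succ]
        exact hx
      rw [mul_pow, inv_pow, ← map_pow γ x (p ^ t), hγ _ h1, inv_mul_cancel]
    · have e : m - j = 0 := by omega
      rw [e, pow_zero, pow_one] at hx
      rw [hx, map_one, inv_one, one_mul, one_pow]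
  exact r2_stab_trivial hG A hA D hanti m hDm hfix hinvD hγA hstab

/-- The Frattini subgroup of a finite abelian group lies in the subgroup of `p`-th powers. -/
theorem r2_frattini_le [Fact p.Prime] [Finite H] : frattini H ≤ r2Ag H p 1 := by
  have hp := (Fact.out : p.Prime)
  intro h hh
  by_contra hcon
  obtain ⟨M, hRM, hM⟩ := Finite.exists_le_maximal
    (p := fun K : Subgroup H => r2Ag H p 1 ≤ K ∧ h ∉ K) (a := r2Ag H p 1) ⟨le_refl _, hcon⟩
  have hM1 : r2Ag H p 1 ≤ M ∧ h ∉ M := hM.1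
  have hM2 : ∀ K : Subgroup H, r2Ag H p 1 ≤ K ∧ h ∉ K → M ≤ K → K ≤ M :=
    fun K hK hMK => hM.2 hK hMK
  have hpow : ∀ g : H, g ^ p ∈ M := fun g => hM1.1 (mem_r2Ag.2 ⟨g, by rw [pow_one]⟩)
  have hco : IsCoatom M := by
    refine ⟨fun htop => hM1.2 (by rw [htop]; exact Subgroup.mem_top h), fun K hMK => ?_⟩
    have hhK : h ∈ K := by
      by_contra hhK
      exact (lt_irrefl M) (lt_of_lt_of_le hMK (hM2 K ⟨hM1.1.trans hMK.le, hhK⟩ hMK.le))
    refine (Subgroup.eq_top_iff' K).2 (fun g => ?_)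
    by_cases hgM : g ∈ M
    · exact hMK.le hgM
    have hhJ : h ∈ M ⊔ Subgroup.zpowers g := by
      by_contra hhJ
      have h1 := hM2 (M ⊔ Subgroup.zpowers g) ⟨hM1.1.trans le_sup_left, hhJ⟩ le_sup_left
      exact hgM (h1 (Subgroup.mem_sup_right (Subgroup.mem_zpowers g)))
    obtain ⟨m, hm, z, hz, hmz⟩ := Subgroup.mem_sup.1 hhJ
    obtain ⟨n, hn⟩ : ∃ n : ℕ, g ^ n = z :=
      (Submonoid.mem_powers_iff z g).1 (mem_powers_iff_mem_zpowers.2 hz)
    have hpn : ¬ p ∣ n := by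
      rintro ⟨n', rfl⟩
      apply hM1.2
      rw [← hmz, ← hn, pow_mul']
      exact M.mul_mem hm (hpow _)
    obtain ⟨n', hn'⟩ := r2_exists_inv hpn
    obtain ⟨q, hq⟩ : ∃ q, n * n' = p * q + 1 :=
      ⟨n * n' / p, by have := Nat.div_add_mod (n * n') p; omega⟩
    have hgn : g ^ n ∈ K := by
      have e : g ^ n = m⁻¹ * h := by rw [hn, ← hmz, inv_mul_cancel_left]
      rw [e]
      exact K.mul_mem (K.inv_mem (hMK.le hm)) hhK
    have e : g = (g ^ n) ^ n' * ((g ^ q) ^ p)⁻¹ := by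
      rw [← pow_mul, hq, pow_succ, pow_mul', mul_comm, inv_mul_cancel_left]
    rw [e]
    exact K.mul_mem (K.pow_mem hgn _) (K.inv_mem (hMK.le (hpow _)))
  exact hM1.2 (frattini_le_coatom hco hh)

/-- `σ` of order dividing `p` acts quadratically on the elements of order `p` when these
form a group of order `p²`. -/
theorem r2_quad [Fact p.Prime] [Finite H] {σ : MulAut H} (hσp : σ ^ p = 1)
    (hcV : Nat.card ↥(r2Om H p 1) = p ^ 2) :
    ∀ w : H, w ^ p = 1 → σ (w⁻¹ * σ w) = w⁻¹ * σ w := by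
  have hp := (Fact.out : p.Prime)
  have hσ1 : σ ^ p ^ 1 = 1 := by rw [pow_one]; exact hσp
  have hVinv : ∀ (α : MulAut H), ∀ x ∈ r2Om H p 1, α x ∈ r2Om H p 1 :=
    fun α x hx => r2Om_inv α 1 hx
  obtain ⟨τ, hτ⟩ : ∃ τ : MulAut ↥(r2Om H p 1),
      τ = restrictAut σ (r2Om H p 1) (hVinv σ) (hVinv σ⁻¹) := ⟨_, rfl⟩
  have hτp : τ ^ p = 1 := by
    rw [hτ]
    refine MulEquiv.ext fun x => Subtype.ext ?_
    exact (restrictAut_pow σ (r2Om H p 1) (hVinv σ) (hVinv σ⁻¹) p x).trans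
      (DFunLike.congr_fun hσp (x : H))
  obtain ⟨U, hU1, hUfix⟩ := ep_exists_fixed hcV τ hτp
  obtain ⟨u, hu⟩ : ∃ u : H, u = (U : H) := ⟨_, rfl⟩
  have huV : u ∈ r2Om H p 1 := by rw [hu]; exact U.2
  have hup : u ^ p = 1 := by
    have h := mem_r2Om.1 huV
    rw [pow_one] at h
    exact h
  have hu1 : u ≠ 1 := by
    intro h
    apply hU1
    apply Subtype.ext
    exact (hu.symm.trans h).trans (Subgroup.coe_one _).symm
  have hσu : σ u = u := by
    have h := congrArg Subtype.val hUfix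
    rw [hτ] at h
    rw [hu]
    exact h
  have hKV : Subgroup.zpowers u ≤ r2Om H p 1 := Subgroup.zpowers_le.2 huV
  have hKfix : ∀ x ∈ Subgroup.zpowers u, σ x = x := by
    intro x hx
    obtain ⟨k, rfl⟩ := Subgroup.mem_zpowers_iff.1 hx
    rw [map_zpow, hσu]
  have hcK : Nat.card ↥(Subgroup.zpowers u) = p := by
    rw [Nat.card_zpowers]
    exact orderOf_eq_prime hup hu1
  have hstep := aut_step_mem σ hσ1 (Subgroup.zpowers u) (r2Om H p 1) hKV
    (by rw [hcV, hcK, pow_two]) (fun x hx => by rw [hKfix x hx]; exact hx) (hVinv σ)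
  intro w hw
  exact hKfix _ (hstep w (mem_r2Om.2 (by rw [pow_one]; exact hw)))

/-- iterates of `σ` on an element on which `σ - 1` is nilpotent of order at most `4` -/
theorem r2_pow_formula (σ : MulAut H) {h n₁ n₂ n₃ : H} (h1 : σ h = h * n₁)
    (h2 : σ n₁ = n₁ * n₂) (h3 : σ n₂ = n₂ * n₃) (h4 : σ n₃ = n₃) (n : ℕ) :
    (σ ^ n) h = h * n₁ ^ n * n₂ ^ n.choose 2 * n₃ ^ n.choose 3 := by
  induction n with
  | zero =>
    have e2 : Nat.choose 0 2 = 0 := by decide
    have e3 : Nat.choose 0 3 = 0 := by decide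
    rw [e2, e3, pow_zero, MulAut.one_apply, pow_zero, pow_zero, pow_zero, mul_one, mul_one,
      mul_one]
  | succ n ih =>
    have e2 : (n + 1).choose 2 = n + n.choose 2 := by
      rw [Nat.choose_succ_succ' n 1, Nat.choose_one_right]
    have e3 : (n + 1).choose 3 = n.choose 2 + n.choose 3 := Nat.choose_succ_succ' n 2
    rw [pow_succ' σ n, MulAut.mul_apply, ih, map_mul, map_mul, map_mul, map_pow, map_pow, map_pow,
      h1, h2, h3, h4, r2_shuffle, e2, e3]

/-- For `p > 3` a homocyclic group of exponent at least `p²` and rank two admits no such `A`. -/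
theorem r2_no_big [Fact p.Prime] [Finite H] (hG : IsPGroup p H) (A : Subgroup (MulAut H))
    (hA : ∀ N : Subgroup ↥A, N.Normal → IsPGroup p ↥N → N = ⊥)
    {σ : MulAut H} (hσA : σ ∈ A) (hσp : σ ^ p = 1) (hσ1 : σ ≠ 1)
    (hcV : Nat.card ↥(r2Om H p 1) = p ^ 2) {a : ℕ} (ha : 2 ≤ a)
    (hexp : ∀ x : H, x ^ p ^ a = 1)
    (hPV : r2Ag H p (a - 1) = r2Om H p 1) (hp3 : 3 < p) : False := by
  have hp := (Fact.out : p.Prime)
  have hquad := r2_quad hσp hcV
  have hN : ∀ w : H, w ^ p ^ 2 = 1 → (w⁻¹ * σ w) ^ p = 1 := by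
    intro w hw
    obtain ⟨n₁, hn₁⟩ : ∃ n₁ : H, n₁ = w⁻¹ * σ w := ⟨_, rfl⟩
    obtain ⟨n₂, hn₂⟩ : ∃ n₂ : H, n₂ = n₁⁻¹ * σ n₁ := ⟨_, rfl⟩
    obtain ⟨n₃, hn₃⟩ : ∃ n₃ : H, n₃ = n₂⁻¹ * σ n₂ := ⟨_, rfl⟩
    have h1 : σ w = w * n₁ := by rw [hn₁, mul_inv_cancel_left]
    have h2 : σ n₁ = n₁ * n₂ := by rw [hn₂, mul_inv_cancel_left]
    have h3 : σ n₂ = n₂ * n₃ := by rw [hn₃, mul_inv_cancel_left]
    have hwp : (w ^ p) ^ p = 1 := by
      rw [← pow_mul, ← pow_two]
      exact hw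
    have e1 : n₁ ^ p = (w ^ p)⁻¹ * σ (w ^ p) := by rw [hn₁, mul_pow, inv_pow, map_pow]
    have hn2p : n₂ ^ p = 1 := by
      have e2 : n₂ ^ p = (n₁ ^ p)⁻¹ * σ (n₁ ^ p) := by rw [hn₂, mul_pow, inv_pow, map_pow]
      have hq := hquad (w ^ p) hwp
      rw [e2, e1, hq, inv_mul_cancel]
    have hn3p : n₃ ^ p = 1 := by
      rw [hn₃, mul_pow, inv_pow, ← map_pow σ n₂ p, hn2p, map_one, inv_one, one_mul]
    have h4 : σ n₃ = n₃ := by
      have hq := hquad n₂ hn2p
      rw [hn₃]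
      exact hq
    have hf := r2_pow_formula σ h1 h2 h3 h4 p
    rw [hσp, MulAut.one_apply] at hf
    obtain ⟨c2, hc2⟩ := hp.dvd_choose_self two_ne_zero (by omega : 2 < p)
    obtain ⟨c3, hc3⟩ := hp.dvd_choose_self three_ne_zero hp3
    rw [hc2, hc3, pow_mul n₂, pow_mul n₃, hn2p, hn3p, one_pow, one_pow, mul_one, mul_one] at hf
    have h5 : (1 : H) = n₁ ^ p :=
      mul_left_cancel (a := w) (b := 1) (c := n₁ ^ p) (by rw [mul_one]; exact hf)
    rw [← hn₁]
    exact h5.symm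
  apply hσ1
  apply r2_fix_om hG A hA hσA
  intro v hv
  have hvV : v ∈ r2Ag H p (a - 1) := by
    rw [hPV]
    exact mem_r2Om.2 (by rw [pow_one]; exact hv)
  obtain ⟨x, hx⟩ := mem_r2Ag.1 hvV
  obtain ⟨b, hb⟩ : ∃ b, a = b + 2 := ⟨a - 2, by omega⟩
  have hb1 : a - 1 = b + 1 := by omega
  rw [hb1, pow_succ, pow_mul] at hx
  have hw : (x ^ p ^ b) ^ p ^ 2 = 1 := by
    rw [← pow_mul, ← pow_add, ← hb]
    exact hexp x
  have h5 := hN _ hw
  rw [mul_pow, inv_pow, ← map_pow σ (x ^ p ^ b) p, hx] at h5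
  exact (inv_mul_eq_one.1 h5).symm

theorem r2_val_add {q : ℕ} [NeZero q] {x : H} (hx : x ^ q = 1) (a b : ZMod q) :
    x ^ (a + b).val = x ^ a.val * x ^ b.val := by
  rw [ZMod.val_add, r2_pow_mod hx, pow_add]

/-- coordinates in a homocyclic group of rank two -/
def r2Hom (q : ℕ) [NeZero q] (x y : H) (hx : x ^ q = 1) (hy : y ^ q = 1) :
    Multiplicative (ZMod q × ZMod q) →* H where
  toFun w := x ^ (Multiplicative.toAdd w).1.val * y ^ (Multiplicative.toAdd w).2.val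
  map_one' := by
    show x ^ ((0 : ZMod q × ZMod q)).1.val * y ^ ((0 : ZMod q × ZMod q)).2.val = 1
    rw [Prod.fst_zero, Prod.snd_zero, ZMod.val_zero, pow_zero, pow_zero, mul_one]
  map_mul' w₁ w₂ := by
    show x ^ (Multiplicative.toAdd w₁ + Multiplicative.toAdd w₂).1.val
        * y ^ (Multiplicative.toAdd w₁ + Multiplicative.toAdd w₂).2.val
      = (x ^ (Multiplicative.toAdd w₁).1.val * y ^ (Multiplicative.toAdd w₁).2.val)
        * (x ^ (Multiplicative.toAdd w₂).1.val * y ^ (Multiplicative.toAdd w₂).2.val)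
    rw [Prod.fst_add, Prod.snd_add, r2_val_add hx, r2_val_add hy]
    exact mul_mul_mul_comm _ _ _ _

theorem r2Hom_apply (q : ℕ) [NeZero q] (x y : H) (hx : x ^ q = 1) (hy : y ^ q = 1)
    (w : Multiplicative (ZMod q × ZMod q)) :
    r2Hom q x y hx hy w
      = x ^ (Multiplicative.toAdd w).1.val * y ^ (Multiplicative.toAdd w).2.val := rfl

theorem r2Hom_natCast (q : ℕ) [NeZero q] (x y : H) (hx : x ^ q = 1) (hy : y ^ q = 1)
    (i j : ℕ) :
    r2Hom q x y hx hy (Multiplicative.ofAdd ((i : ZMod q), (j : ZMod q))) = x ^ i * y ^ j := by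
  rw [r2Hom_apply]
  show x ^ ((i : ZMod q)).val * y ^ ((j : ZMod q)).val = x ^ i * y ^ j
  rw [ZMod.val_natCast, ZMod.val_natCast, r2_pow_mod hx, r2_pow_mod hy]

theorem r2_inj_aux [Fact p.Prime] {a : ℕ} {x y u v : H}
    (hxu : x ^ p ^ (a - 1) = u) (hyv : y ^ p ^ (a - 1) = v)
    (hu : u ^ p = 1) (hv : v ^ p = 1) (hu1 : u ≠ 1) (hv' : ∀ n : ℕ, v ≠ u ^ n)
    (i j : ℕ) (h : x ^ i * y ^ j = 1) : ∀ t, t ≤ a → p ^ t ∣ i ∧ p ^ t ∣ j := by
  intro t
  induction t with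
  | zero =>
    intro _
    exact ⟨by rw [pow_zero]; exact one_dvd _, by rw [pow_zero]; exact one_dvd _⟩
  | succ t ih =>
    intro ht
    obtain ⟨⟨i', hi'⟩, ⟨j', hj'⟩⟩ := ih (by omega)
    have e : p ^ t * p ^ (a - 1 - t) = p ^ (a - 1) := by
      rw [← pow_add]
      congr 1
      omega
    have e3 : ∀ (z : H) (k : ℕ),
        (z ^ (p ^ t * k)) ^ p ^ (a - 1 - t) = (z ^ p ^ (a - 1)) ^ k := by
      intro z k
      rw [← pow_mul, ← pow_mul, mul_right_comm, e]
    have h1 : u ^ i' * v ^ j' = 1 := by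
      have h2 : (x ^ i * y ^ j) ^ p ^ (a - 1 - t) = 1 := by rw [h, one_pow]
      rw [mul_pow, hi', hj', e3, e3, hxu, hyv] at h2
      exact h2
    obtain ⟨⟨i'', hi''⟩, ⟨j'', hj''⟩⟩ := r2_indep hu hv hu1 hv' i' j' h1
    exact ⟨⟨i'', by rw [hi', hi'', pow_succ, mul_assoc]⟩,
      ⟨j'', by rw [hj', hj'', pow_succ, mul_assoc]⟩⟩

theorem r2Hom_injective [Fact p.Prime] {a : ℕ} [NeZero (p ^ a)] {x y u v : H}
    (hx : x ^ p ^ a = 1) (hy : y ^ p ^ a = 1)
    (hxu : x ^ p ^ (a - 1) = u) (hyv : y ^ p ^ (a - 1) = v)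
    (hu : u ^ p = 1) (hv : v ^ p = 1) (hu1 : u ≠ 1) (hv' : ∀ n : ℕ, v ≠ u ^ n) :
    Function.Injective (r2Hom (p ^ a) x y hx hy) := by
  rw [injective_iff_map_eq_one]
  intro w hw
  rw [r2Hom_apply] at hw
  obtain ⟨hi, hj⟩ := r2_inj_aux hxu hyv hu hv hu1 hv' _ _ hw a le_rfl
  have h1 : (Multiplicative.toAdd w).1 = 0 :=
    (ZMod.val_eq_zero _).1 (Nat.eq_zero_of_dvd_of_lt hi (ZMod.val_lt _))
  have h2 : (Multiplicative.toAdd w).2 = 0 :=
    (ZMod.val_eq_zero _).1 (Nat.eq_zero_of_dvd_of_lt hj (ZMod.val_lt _))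
  have h3 : Multiplicative.toAdd w = 0 := Prod.ext h1 h2
  exact h3

theorem r2Hom_surjective [Fact p.Prime] {a : ℕ} [NeZero (p ^ a)] {x y u v : H}
    (hx : x ^ p ^ a = 1) (hy : y ^ p ^ a = 1)
    (hxu : x ^ p ^ (a - 1) = u) (hyv : y ^ p ^ (a - 1) = v)
    (hexp : ∀ z : H, z ^ p ^ a = 1)
    (hgen : ∀ w : H, w ^ p = 1 → ∃ i j : ℕ, w = u ^ i * v ^ j) :
    Function.Surjective (r2Hom (p ^ a) x y hx hy) := by
  have key : ∀ t, t ≤ a → ∀ h : H, h ^ p ^ t = 1 →
      h ∈ (r2Hom (p ^ a) x y hx hy).range := by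
    intro t
    induction t with
    | zero =>
      intro _ h hh
      rw [pow_zero, pow_one] at hh
      rw [hh]
      exact Subgroup.one_mem _
    | succ t ih =>
      intro ht h hh
      have h1 : (h ^ p ^ t) ^ p = 1 := by
        rw [← pow_mul, ← pow_succ]
        exact hh
      obtain ⟨i, j, hij⟩ := hgen _ h1
      obtain ⟨g, hg⟩ : ∃ g : H, g = (x ^ i * y ^ j) ^ p ^ (a - 1 - t) := ⟨_, rfl⟩
      have hgr : g ∈ (r2Hom (p ^ a) x y hx hy).range := by
        rw [hg]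
        exact Subgroup.pow_mem _
          (MonoidHom.mem_range.2 ⟨_, r2Hom_natCast (p ^ a) x y hx hy i j⟩) _
      have e : p ^ (a - 1 - t) * p ^ t = p ^ (a - 1) := by
        rw [← pow_add]
        congr 1
        omega
      have hgt : g ^ p ^ t = h ^ p ^ t := by
        rw [hg, ← pow_mul, e, mul_pow, ← pow_mul, ← pow_mul, mul_comm i, mul_comm j, pow_mul,
          pow_mul, hxu, hyv, hij]
      have h2 : (h * g⁻¹) ^ p ^ t = 1 := by
        rw [mul_pow, inv_pow, hgt, mul_inv_cancel]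
      have h3 := ih (by omega) _ h2
      have h4 := Subgroup.mul_mem _ h3 hgr
      rw [inv_mul_cancel_right] at h4
      exact h4
  intro h
  exact MonoidHom.mem_range.1 (key a le_rfl h (hexp h))

/-- The chain `L ≥ P ≥ ⊥ ≥ ⊥ ≥ …`. -/
def r2Chain {G : Type*} [Group G] (L P : Subgroup G) : ℕ → Subgroup G
  | 0 => L
  | 1 => P
  | _ + 2 => ⊥

/-- Abelian `p`-groups of rank at most two with an automorphism group `A` such that
`O_p(A) = 1` and `p ∣ |A|`. -/
theorem ess_rank2_core {H : Type*} [CommGroup H] [Finite H] {p : ℕ} [Fact p.Prime]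
    (hG : IsPGroup p H) (A : Subgroup (MulAut H))
    (hA : ∀ N : Subgroup ↥A, N.Normal → IsPGroup p ↥N → N = ⊥)
    {σ : MulAut H} (hσA : σ ∈ A) (hσp : σ ^ p = 1) (hσ1 : σ ≠ 1)
    (hrk : (frattini H).index ≤ p ^ 2) :
    ((∀ a : H, a ^ p = 1) ∧ Nat.card H = p ^ 2) ∨
      (p ≤ 3 ∧ ∃ k : ℕ, Nonempty (H ≃* Multiplicative (ZMod (p ^ k) × ZMod (p ^ k)))) := by
  have hp := (Fact.out : p.Prime)
  have hσ1' : σ ^ p ^ 1 = 1 := by rw [pow_one]; exact hσp
  have hVinv : ∀ (α : MulAut H) (i : ℕ), ∀ x ∈ r2Om H p i, α x ∈ r2Om H p i :=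
    fun α i x hx => r2Om_inv α i hx
  have hfixall : (∀ x ∈ r2Om H p 1, σ x = x) → False := by
    intro h
    apply hσ1
    exact r2_fix_om hG A hA hσA (fun x hx => h x (mem_r2Om.2 (by rw [pow_one]; exact hx)))
  -- Step 1: `|Ω₁| = p²`
  have hcV : Nat.card ↥(r2Om H p 1) = p ^ 2 := by
    have hle : Nat.card ↥(r2Om H p 1) ≤ p ^ 2 := by
      rw [r2_card_om]
      have hdvd : (r2Ag H p 1).index ∣ (frattini H).index :=
        Subgroup.index_dvd_of_le r2_frattini_le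
      exact (Nat.le_of_dvd (Nat.pos_of_ne_zero Subgroup.index_ne_zero_of_finite) hdvd).trans hrk
    obtain ⟨n, hn⟩ := IsPGroup.iff_card.1 (hG.to_subgroup (r2Om H p 1))
    rw [hn] at hle
    have hn2 : n ≤ 2 := (Nat.pow_le_pow_iff_right hp.one_lt).1 hle
    have hn0 : n ≠ 0 := by
      intro h0
      rw [h0, pow_zero] at hn
      apply hfixall
      intro x hx
      have hbot : r2Om H p 1 = ⊥ := Subgroup.card_eq_one.1 hn
      rw [hbot] at hx
      rw [Subgroup.mem_bot.1 hx, map_one]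
    have hn1 : n ≠ 1 := by
      intro h1
      rw [h1, pow_one] at hn
      apply hfixall
      have hstep := aut_step_mem σ hσ1' ⊥ (r2Om H p 1) bot_le
        (by rw [hn, Subgroup.card_bot, mul_one])
        (fun y hy => by rw [Subgroup.mem_bot.1 hy, map_one]; exact Subgroup.one_mem _)
        (hVinv σ 1)
      intro x hx
      have h2 := Subgroup.mem_bot.1 (hstep x hx)
      exact (inv_mul_eq_one.1 h2).symm
    have hn2' : n = 2 := by omega
    rw [hn, hn2']
  -- Step 2: the exponent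
  have hex : ∃ a, ∀ x : H, x ^ p ^ a = 1 := by
    obtain ⟨m, hcard⟩ := IsPGroup.iff_card.1 hG
    exact ⟨m, fun x => by rw [← hcard]; exact pow_card_eq_one'⟩
  classical
  obtain ⟨a, ha, hamin⟩ : ∃ a, (∀ x : H, x ^ p ^ a = 1) ∧
      ∀ b, b < a → ¬ ∀ x : H, x ^ p ^ b = 1 :=
    ⟨Nat.find hex, Nat.find_spec hex, fun b hb => Nat.find_min hex hb⟩
  have ha1 : 1 ≤ a := by
    by_contra h0
    have h0' : a = 0 := by omega
    rw [h0'] at ha
    apply hσ1
    refine MulEquiv.ext fun x => ?_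
    have h1 := ha x
    have h2 := ha (σ x)
    rw [pow_zero, pow_one] at h1 h2
    rw [MulAut.one_apply]
    exact h2.trans h1.symm
  -- Step 3: `P = ℧_{a-1}`
  have hPle : r2Ag H p (a - 1) ≤ r2Om H p 1 := by
    intro y hy
    obtain ⟨x, rfl⟩ := mem_r2Ag.1 hy
    apply mem_r2Om.2
    have e : a - 1 + 1 = a := by omega
    rw [← pow_mul, ← pow_add, e]
    exact ha x
  have hPne : r2Ag H p (a - 1) ≠ ⊥ := by
    intro hbot
    apply hamin (a - 1) (by omega)
    intro x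
    have hx : x ^ p ^ (a - 1) ∈ r2Ag H p (a - 1) := mem_r2Ag.2 ⟨x, rfl⟩
    rw [hbot] at hx
    exact Subgroup.mem_bot.1 hx
  have hcP : Nat.card ↥(r2Ag H p (a - 1)) = p ^ 2 := by
    obtain ⟨n, hn⟩ := IsPGroup.iff_card.1 (hG.to_subgroup (r2Ag H p (a - 1)))
    have hle : Nat.card ↥(r2Ag H p (a - 1)) ≤ Nat.card ↥(r2Om H p 1) :=
      Subgroup.card_le_of_le hPle
    rw [hn, hcV] at hle
    have hn2 : n ≤ 2 := (Nat.pow_le_pow_iff_right hp.one_lt).1 hle
    have hn0 : n ≠ 0 := by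
      intro h0
      rw [h0, pow_zero] at hn
      exact hPne (Subgroup.card_eq_one.1 hn)
    have hn1 : n ≠ 1 := by
      intro h1
      rw [h1, pow_one] at hn
      apply hσ1
      refine r2_stab_trivial hG A hA (r2Chain (r2Om H p 1) (r2Ag H p (a - 1))) ?_ 2 rfl
        ?_ ?_ hσA ?_
      · intro j
        match j with
        | 0 => exact hPle
        | 1 => exact bot_le
        | (j + 2) => exact le_refl _
      · intro δ hδA h
        exact r2_fix_om hG A hA hδA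
          (fun x hx => h x (mem_r2Om.2 (by rw [pow_one]; exact hx)))
      · intro α j
        match j with
        | 0 => exact hVinv α 1
        | 1 => exact fun x hx => r2Ag_inv α _ hx
        | (j + 2) =>
          intro x hx
          have hx1 : x = 1 := Subgroup.mem_bot.1 hx
          rw [hx1, map_one]
          exact Subgroup.one_mem _
      · intro j
        match j with
        | 0 =>
          exact aut_step_mem σ hσ1' (r2Ag H p (a - 1)) (r2Om H p 1) hPle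
            (by rw [hcV, hn, pow_two]) (fun x hx => r2Ag_inv σ _ hx) (hVinv σ 1)
        | 1 =>
          exact aut_step_mem σ hσ1' ⊥ (r2Ag H p (a - 1)) bot_le
            (by rw [hn, Subgroup.card_bot, mul_one])
            (fun y hy => by rw [Subgroup.mem_bot.1 hy, map_one]; exact Subgroup.one_mem _)
            (fun x hx => r2Ag_inv σ _ hx)
        | (j + 2) =>
          intro x hx
          have hx1 : x = 1 := Subgroup.mem_bot.1 hx
          rw [hx1, map_one, inv_one, one_mul]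
          exact Subgroup.one_mem _
    have hn2' : n = 2 := by omega
    rw [hn, hn2']
  have hPV : r2Ag H p (a - 1) = r2Om H p 1 :=
    Subgroup.eq_of_le_of_card_ge hPle (hcV.trans hcP.symm).le
  by_cases ha2 : a = 1
  · left
    have hall : ∀ x : H, x ^ p = 1 := by
      intro x
      have h := ha x
      rw [ha2, pow_one] at h
      exact h
    refine ⟨hall, ?_⟩
    have htop : r2Om H p 1 = ⊤ :=
      (Subgroup.eq_top_iff' _).2 (fun x => mem_r2Om.2 (by rw [pow_one]; exact hall x))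
    rw [← hcV, htop, Subgroup.card_top]
  · have ha2' : 2 ≤ a := by omega
    by_cases hp3 : p ≤ 3
    · right
      refine ⟨hp3, a, ?_⟩
      haveI : NeZero (p ^ a) := ⟨pow_ne_zero a hp.ne_zero⟩
      have hV : ∀ w : ↥(r2Om H p 1), w ^ p = 1 := by
        intro w
        have h := mem_r2Om.1 w.2
        rw [pow_one] at h
        exact Subtype.ext ((Subgroup.coe_pow _ w p).trans (h.trans (Subgroup.coe_one _).symm))
      obtain ⟨U, hU⟩ := exists_prime_orderOf_dvd_card' (G := ↥(r2Om H p 1)) p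
        (by rw [hcV]; exact dvd_pow_self p two_ne_zero)
      have hU1 : U ≠ 1 := by
        intro h
        rw [h, orderOf_one] at hU
        exact hp.one_lt.ne hU
      obtain ⟨W, hW⟩ := ep_exists_off_line hV hcV U
      have hb := coordHom_bijective hV hcV hU1 hW
      obtain ⟨u, hu⟩ : ∃ u : H, u = (U : H) := ⟨_, rfl⟩
      obtain ⟨v, hv⟩ : ∃ v : H, v = (W : H) := ⟨_, rfl⟩
      have hup : u ^ p = 1 := by
        have h := mem_r2Om.1 U.2
        rw [pow_one] at h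
        rw [hu]
        exact h
      have hvp : v ^ p = 1 := by
        have h := mem_r2Om.1 W.2
        rw [pow_one] at h
        rw [hv]
        exact h
      have hu1 : u ≠ 1 := by
        intro h
        apply hU1
        apply Subtype.ext
        exact (hu.symm.trans h).trans (Subgroup.coe_one _).symm
      have hv' : ∀ n : ℕ, v ≠ u ^ n := by
        intro n h
        apply hW n
        apply Subtype.ext
        rw [Subgroup.coe_pow, ← hu, ← hv]
        exact h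
      have hgen : ∀ w : H, w ^ p = 1 → ∃ i j : ℕ, w = u ^ i * v ^ j := by
        intro w hw
        have hwV : w ∈ r2Om H p 1 := mem_r2Om.2 (by rw [pow_one]; exact hw)
        obtain ⟨c, hc⟩ := hb.2 ⟨w, hwV⟩
        refine ⟨(Multiplicative.toAdd c 0).val, (Multiplicative.toAdd c 1).val, ?_⟩
        have h := congrArg Subtype.val hc
        rw [coordHom_apply] at h
        rw [hu, hv]
        exact h.symm
      have huP : u ∈ r2Ag H p (a - 1) := by
        rw [hPV, hu]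
        exact U.2
      have hvP : v ∈ r2Ag H p (a - 1) := by
        rw [hPV, hv]
        exact W.2
      obtain ⟨x, hxu⟩ := mem_r2Ag.1 huP
      obtain ⟨y, hyv⟩ := mem_r2Ag.1 hvP
      have hinj := r2Hom_injective (ha x) (ha y) hxu hyv hup hvp hu1 hv'
      have hsurj := r2Hom_surjective (ha x) (ha y) hxu hyv ha hgen
      exact ⟨(MulEquiv.ofBijective (r2Hom (p ^ a) x y (ha x) (ha y)) ⟨hinj, hsurj⟩).symm⟩
    · exfalso
      exact r2_no_big hG A hA hσA hσp hσ1 hcV ha2' ha hPV (by omega)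

end EssRank2

/-- Group-theoretic core for abelian essential subgroups of rank at most two. -/
theorem ess_rank2_group {H : Type*} [Group H] [Finite H] {p : ℕ} [Fact p.Prime]
    (hG : IsPGroup p H) (hcomm : ∀ a b : H, a * b = b * a)
    (A : Subgroup (MulAut H)) [hI : ((Inn H).subgroupOf A).Normal]
    (E : Subgroup (↥A ⧸ (Inn H).subgroupOf A)) (hE : IsStronglyPEmbedded p E)
    (hrad : (pCore p ↥A).map A.subtype = Inn H)
    (hrk : (frattini H).index ≤ p ^ 2) :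
    ((∀ a : H, a ^ p = 1) ∧ Nat.card H = p ^ 2) ∨
      (p ≤ 3 ∧ ∃ k : ℕ, Nonempty (H ≃* Multiplicative (ZMod (p ^ k) × ZMod (p ^ k)))) := by
  have hp := (Fact.out : p.Prime)
  have hInn : ∀ a : ↥A, a ∈ (Inn H).subgroupOf A → a = 1 := by
    intro a ha
    rw [Subgroup.mem_subgroupOf] at ha
    obtain ⟨h, hh⟩ := MonoidHom.mem_range.1 ha
    apply Subtype.ext
    rw [← hh]
    refine MulEquiv.ext fun v => ?_
    show h * v * h⁻¹ = v
    rw [hcomm h v, mul_assoc, mul_inv_cancel, mul_one]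
  have hA : ∀ N : Subgroup ↥A, N.Normal → IsPGroup p ↥N → N = ⊥ := by
    intro N hNn hNp
    refine (Subgroup.eq_bot_iff_forall N).2 (fun n hn => hInn n ?_)
    rw [Subgroup.mem_subgroupOf, ← hrad]
    have hle : N ≤ pCore p ↥A := le_sSup ⟨hNn, hNp⟩
    exact Subgroup.mem_map.2 ⟨n, hle hn, rfl⟩
  obtain ⟨u, hu⟩ := exists_prime_orderOf_dvd_card' p hE.1
  obtain ⟨σ, hσ⟩ := QuotientGroup.mk_surjective u
  have hup : u ^ p = 1 := by
    rw [← hu]
    exact pow_orderOf_eq_one u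
  have hu1 : u ≠ 1 := by
    intro h
    rw [h, orderOf_one] at hu
    exact hp.one_lt.ne hu
  have hσp : σ ^ p = 1 := by
    apply hInn
    rw [← QuotientGroup.eq_one_iff, QuotientGroup.mk_pow, hσ, hup]
  have hσp' : (σ : MulAut H) ^ p = 1 := by
    rw [← Subgroup.coe_pow, hσp, Subgroup.coe_one]
  have hσ1 : (σ : MulAut H) ≠ 1 := by
    intro h
    have h2 : σ = 1 := Subtype.ext h
    apply hu1
    rw [← hσ]
    exact (QuotientGroup.eq_one_iff σ).2 (by rw [h2]; exact Subgroup.one_mem _)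
  exact @ess_rank2_core H ({ (inferInstance : Group H) with mul_comm := hcomm } : CommGroup H) _
    p _ hG A hA (σ : MulAut H) σ.2 hσp' hσ1 hrk

/-- An abelian essential subgroup of rank at most two is elementary abelian of order `p²`, or
`p ≤ 3` and it is homocyclic of rank two. -/
theorem ess_rank2_fusion {Ω : Type*} [Group Ω] {S : Subgroup Ω} [Finite S] (p : ℕ)
    [Fact p.Prime] (hS : IsPGroup p S) (F : Cfsg.FusionSystem S) (H : Subgroup Ω)
    (hH : F.IsEssential p H) (hab : IsMulCommutative ↥H)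
    (hrk : (frattini ↥H).index ≤ p ^ 2) :
    (Cfsg.IsElementaryAbelian p H ∧ Nat.card H = p ^ 2) ∨
      (p ≤ 3 ∧ ∃ k : ℕ, Nonempty (↥H ≃* Multiplicative (ZMod (p ^ k) × ZMod (p ^ k)))) := by
  have hrad := (radical_of_essential p hS F hH).2
  have hHS : H ≤ S := hH.2.1.1
  have hHfin : Finite ↥H := finite_of_le hHS
  have hHp : IsPGroup p ↥H := hS.to_le hHS
  obtain ⟨_, _, hI, E, hE⟩ := hH
  rcases ess_rank2_group hHp (isMulCommutative_iff.1 hab) (F.autGroup H) E hE hrad hrk with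
    ⟨hV, hc⟩ | h
  · exact Or.inl ⟨⟨hab, fun a ha => congrArg Subtype.val (hV ⟨a, ha⟩)⟩, hc⟩
  · exact Or.inr h

end Cfsg.Agent.Helper26
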