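import Cfsg.Agent.Helper26.FusionFactor2
import Cfsg.Agent.Helper26.FusionMor3
import Cfsg.Agent.Helper26.FusionSup
import Cfsg.Agent.Helper27.AbelFusion
import Cfsg.Agent.Helper27.InnerSys

set_option autoImplicit false

namespace Cfsg.Agent.Helper26

open Cfsg Cfsg.FusionSystem

variable {Ω : Type*} [Group Ω] {S : Subgroup Ω}

theorem bot_central (F : FusionSystem S) : F.IsCentral ⊥ := by
  refine ⟨bot_le, fun P φ hφ => ?_⟩
  have hle : P ⊔ ⊥ ≤ P := sup_le le_rfl bot_le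
  refine ⟨φ.comp (Subgroup.inclusion hle), restrict_mem F hφ hle (fun _ => rfl), fun _ => rfl, ?_⟩
  rintro ⟨x, hx⟩
  have hx1 : x = 1 := Subgroup.mem_bot.1 hx
  subst hx1
  have e : Subgroup.inclusion (le_sup_right : (⊥ : Subgroup Ω) ≤ P ⊔ ⊥) ⟨1, hx⟩ = 1 :=
    Subtype.ext rfl
  rw [e, map_one]

theorem central_sup (F : FusionSystem S) {Q₁ Q₂ : Subgroup Ω} (h₁ : F.IsCentral Q₁)
    (h₂ : F.IsCentral Q₂) : F.IsCentral (Q₁ ⊔ Q₂) := by
  refine ⟨sup_le h₁.1 h₂.1, fun P φ hφ => ?_⟩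
  obtain ⟨ψ₁, hψ₁, hψ₁P, hψ₁Q⟩ := h₁.2 P φ hφ
  obtain ⟨ψ₂, hψ₂, hψ₂P, hψ₂Q⟩ := h₂.2 (P ⊔ Q₁) ψ₁ hψ₁
  have hle : P ⊔ (Q₁ ⊔ Q₂) ≤ (P ⊔ Q₁) ⊔ Q₂ := by rw [sup_assoc]
  have hfix₁ : ∀ a (ha : a ∈ Q₁) (h : a ∈ (P ⊔ Q₁) ⊔ Q₂), ψ₂ ⟨a, h⟩ = a := by
    intro a ha h
    have h1 := hψ₂P (Subgroup.inclusion le_sup_right ⟨a, ha⟩)
    have e : (⟨a, h⟩ : ↥((P ⊔ Q₁) ⊔ Q₂)) =
        Subgroup.inclusion le_sup_left
          (Subgroup.inclusion (le_sup_right : Q₁ ≤ P ⊔ Q₁) ⟨a, ha⟩) := Subtype.ext rfl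
    rw [e, h1]
    exact hψ₁Q ⟨a, ha⟩
  have hfix₂ : ∀ b (hb : b ∈ Q₂) (h : b ∈ (P ⊔ Q₁) ⊔ Q₂), ψ₂ ⟨b, h⟩ = b := by
    intro b hb h
    exact hψ₂Q ⟨b, hb⟩
  refine ⟨ψ₂.comp (Subgroup.inclusion hle), restrict_mem F hψ₂ hle (fun _ => rfl),
    fun x => ?_, ?_⟩
  · have e : Subgroup.inclusion hle (Subgroup.inclusion le_sup_left x) =
        Subgroup.inclusion le_sup_left (Subgroup.inclusion le_sup_left x) := Subtype.ext rfl
    show ψ₂ (Subgroup.inclusion hle (Subgroup.inclusion le_sup_left x)) = φ x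
    rw [e, hψ₂P, hψ₁P]
  · exact eqOn_sup ((ψ₂.comp (Subgroup.inclusion hle)).comp (Subgroup.inclusion le_sup_right))
      (Q₁ ⊔ Q₂).subtype (fun a ha => hfix₁ a ha _) (fun b hb => hfix₂ b hb _)

theorem center_isCentral [Finite S] (F : FusionSystem S) : F.IsCentral F.center :=
  sSup_mem_of_sup_closed S {Q | F.IsCentral Q} (fun _ hQ => hQ.1) (bot_central F)
    (fun _ h₁ _ h₂ => central_sup F h₁ h₂)

theorem central_fix (F : FusionSystem S) {Z : Subgroup Ω} (hZ : F.IsCentral Z) {R : Subgroup Ω}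
    {φ : R →* Ω} (hφ : φ ∈ F.Hom R) (x : R) (hx : (x : Ω) ∈ Z) : φ x = x := by
  obtain ⟨ψ, -, hψR, hψZ⟩ := hZ.2 R φ hφ
  have h1 := hψR x
  have h2 := hψZ ⟨x, hx⟩
  have e : Subgroup.inclusion (le_sup_left : R ≤ R ⊔ Z) x =
      Subgroup.inclusion (le_sup_right : Z ≤ R ⊔ Z) ⟨x, hx⟩ := Subtype.ext rfl
  rw [e, h2] at h1
  exact h1.symm

theorem central_stronglyClosed (F : FusionSystem S) {Z : Subgroup Ω} (hZ : F.IsCentral Z) :
    F.StronglyClosed Z :=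
  ⟨hZ.1, fun R hR φ hφ x => by rw [central_fix F hZ hφ x (hR x.2)]; exact hR x.2⟩

theorem quasisimple_nonabelian [Finite S] (p : ℕ) [Fact p.Prime] (hS : IsPGroup p S)
    (F : FusionSystem S) (hq : F.Quasisimple p) : ¬ IsMulCommutative S := by
  intro hab
  obtain ⟨hF, hhyp, hsimple⟩ := hq
  have hZc := center_isCentral F
  have hZsc := central_stronglyClosed F hZc
  obtain ⟨D, hD⟩ := exists_factorSystem F F.center hZsc
  obtain ⟨hDsat, hDne, hDmin⟩ := hsimple D hD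
  have hmor := factor_surjective_morphism p hS F hF F.center hZsc _ D hD
  have hcomm : ∀ a b : S, a * b = b * a := fun a b => (isMulCommutative_iff.1 hab) a b
  have hTab : ∀ x ∈ (⊤ : Subgroup (S ⧸ (F.center).subgroupOf S)),
      ∀ y ∈ (⊤ : Subgroup (S ⧸ (F.center).subgroupOf S)), x * y = y * x := by
    intro x _ y _
    obtain ⟨a, rfl⟩ := QuotientGroup.mk_surjective x
    obtain ⟨b, rfl⟩ := QuotientGroup.mk_surjective y
    rw [← QuotientGroup.mk_mul, ← QuotientGroup.mk_mul, hcomm a b]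
  have hTp : IsPGroup p (⊤ : Subgroup (S ⧸ (F.center).subgroupOf S)) :=
    (hS.to_quotient _).to_subgroup ⊤
  have hTsc : D.StronglyClosed ⊤ := ⟨le_rfl, fun R _ φ _ x => Subgroup.mem_top _⟩
  have hinner := Helper27.inner_normal_of_abelian p hTp D hDsat ⊤ hTab hTsc (by
    intro P hPT φ hφ
    obtain ⟨α, hα, h⟩ := Helper27.abelian_extend p hTp D hDsat hTab hφ
    exact ⟨α, hα, fun x => (h x x.2 (hPT x.2)).symm⟩)
  rcases hDmin ⊤ _ hinner with h0 | ⟨-, hHom⟩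
  · exact hDne h0
  · have hle : F.hyperfocalSubgroup p ≤ F.center := by
      unfold hyperfocalSubgroup
      rw [Subgroup.closure_le]
      rintro _ ⟨P, α, x, hPS, -, rfl⟩
      obtain ⟨φ', hφ', hind⟩ := hmor.1.2 P _ ((mem_autGroup_iff F hPS).1 α.2)
      rw [← hHom] at hφ'
      obtain ⟨-, g, -, hg⟩ := hφ'
      obtain ⟨hx, hφx, hx', e⟩ := induced_apply hind x
      rw [hg] at e
      have e2 : QuotientGroup.mk' ((F.center).subgroupOf S) ⟨x, hx⟩ =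
          QuotientGroup.mk' ((F.center).subgroupOf S)
            ⟨(P.subtype.comp (α : MulAut P).toMonoidHom) x, hφx⟩ := by
        rw [← e]
        show _ = g * (QuotientGroup.mk' ((F.center).subgroupOf S) ⟨x, hx⟩) * g⁻¹
        rw [hTab g (Subgroup.mem_top _) _ (Subgroup.mem_top _), mul_inv_cancel_right]
      have e3 : QuotientGroup.mk' ((F.center).subgroupOf S)
          ((⟨x, hx⟩ : S)⁻¹ * ⟨(P.subtype.comp (α : MulAut P).toMonoidHom) x, hφx⟩) = 1 := by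
        rw [map_mul, map_inv, ← e2, inv_mul_cancel]
      exact (hD.2.1 _).1 e3
    have hZS : F.center = S := le_antisymm hZc.1 (hhyp.ge.trans hle)
    apply hDne
    rw [eq_bot_iff]
    intro y _
    obtain ⟨a, rfl⟩ := QuotientGroup.mk_surjective y
    rw [Subgroup.mem_bot]
    have ha : (a : Ω) ∈ F.center := by rw [hZS]; exact a.2
    exact (hD.2.1 a).2 ha

end Cfsg.Agent.Helper26
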