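import Cfsg.Agent.Helper26.FusionHyp

set_option autoImplicit false

namespace Cfsg.Agent.Helper26

open Cfsg Cfsg.FusionSystem

theorem exists_pow_pPrimePart {A B : Type*} [Group A] [Group B] [Finite B] {p : ℕ}
    [Fact p.Prime] (α : A) (β : B) (hα : Nat.Coprime (orderOf α) p) :
    ∃ k : ℕ, Nat.Coprime (orderOf (β ^ k)) p ∧ α ^ k = α := by
  have hp : p.Prime := Fact.out
  have hm : orderOf β ≠ 0 := (orderOf_pos β).ne'
  obtain ⟨a, m', hnd, hm'⟩ := Nat.exists_eq_pow_mul_and_not_dvd hm p hp.ne_one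
  have hcop : (p ^ a).Coprime (orderOf α) := Nat.Coprime.pow_left a hα.symm
  obtain ⟨i, hi⟩ := exists_pow_eq_self_of_coprime hcop
  refine ⟨p ^ a * i, ?_, ?_⟩
  · have h1 : (β ^ (p ^ a * i)) ^ m' = 1 := by
      rw [← pow_mul, mul_right_comm, ← hm', pow_mul, pow_orderOf_eq_one, one_pow]
    exact Nat.Coprime.coprime_dvd_left (orderOf_dvd_of_pow_eq_one h1)
      ((Nat.Prime.coprime_iff_not_dvd hp).2 hnd).symm
  · rw [pow_mul]; exact hi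

variable {Ω : Type*} [Group Ω] {S : Subgroup Ω}

theorem hyperfocal_aut_core [Finite S] (p : ℕ) [Fact p.Prime] (hS : IsPGroup p S)
    (F : FusionSystem S) (hF : F.IsSaturated p) {T : Subgroup Ω} (hT : F.StronglyClosed T)
    {P : Subgroup Ω} (hPS : P ≤ S) (β : F.autGroup P) (hβ : Nat.Coprime (orderOf β) p) (x : P) :
    ∃ α ∈ ((pResidual p (F.autGroup T)).map (F.autGroup T).subtype ⊔ Inn T :
        Subgroup (MulAut T)),
      ∀ t : T, ((α t : T) : Ω) = ((x : Ω)⁻¹ * ((β : MulAut P) x : P)) * t *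
        ((x : Ω)⁻¹ * ((β : MulAut P) x : P))⁻¹ := by
  have hTS : T ≤ S := hT.1
  have hPTS : P ⊔ T ≤ S := sup_le hPS hTS
  have hfin : Finite ↥(P ⊔ T) := finite_of_le hPTS
  have hTfin : Finite T := finite_of_le hTS
  have hSN := le_normalizer_of_stronglyClosed F hT
  have hβF := (mem_autGroup_iff F hPS).1 β.2
  obtain ⟨ψ, hψ, hψβ⟩ := exists_extension_mod p hS F hF hT hβF
  have hψβ' : ∀ x' : P, (((β : MulAut P) x' : P) : Ω)⁻¹ *
      ψ (Subgroup.inclusion le_sup_left x') ∈ T := hψβ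
  have hψPT : ∀ y : ↥(P ⊔ T), ψ y ∈ P ⊔ T := by
    refine forall_mem_sup ((P ⊔ T).comap ψ) (fun x' hx' => ?_) (fun t ht => ?_)
    · rw [Subgroup.mem_comap]
      have e : ψ ⟨x', (le_sup_left : P ≤ P ⊔ T) hx'⟩ =
          (((β : MulAut P) ⟨x', hx'⟩ : P) : Ω) * ((((β : MulAut P) ⟨x', hx'⟩ : P) : Ω)⁻¹ *
            ψ ⟨x', (le_sup_left : P ≤ P ⊔ T) hx'⟩) := by group
      rw [e]
      exact Subgroup.mul_mem _ ((le_sup_left : P ≤ P ⊔ T) ((β : MulAut P) ⟨x', hx'⟩).2)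
        ((le_sup_right : T ≤ P ⊔ T) (hψβ' ⟨x', hx'⟩))
    · rw [Subgroup.mem_comap]
      exact (le_sup_right : T ≤ P ⊔ T) (stronglyClosed_hom_mem F hT hψ ⟨t, _⟩ ht)
  have hrange : ψ.range = P ⊔ T := by
    refine Subgroup.eq_of_le_of_card_ge ?_ ?_
    · rintro _ ⟨y, rfl⟩; exact hψPT y
    · exact (Nat.card_congr (MonoidHom.ofInjective (F.injective_of_mem hψ)).toEquiv).le
  obtain ⟨ψ₁, hψ₁⟩ : ∃ ψ₁ : MulAut ↥(P ⊔ T), ∀ y, ((ψ₁ y : ↥(P ⊔ T)) : Ω) = ψ y :=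
    ⟨isoOfInj ψ (F.injective_of_mem hψ) hrange, fun _ => rfl⟩
  have hψ₁A : ψ₁ ∈ F.autGroup (P ⊔ T) := by
    rw [mem_autGroup_iff F hPTS]; exact mem_of_eq F hψ (fun y => hψ₁ y)
  have hpowA : ∀ j : ℕ, ψ₁ ^ j ∈ F.autGroup (P ⊔ T) := fun j => Subgroup.pow_mem _ hψ₁A j
  have hmod : ∀ j : ℕ, ∀ x' : P, ((((β : MulAut P) ^ j) x' : P) : Ω)⁻¹ *
      (((ψ₁ ^ j) (Subgroup.inclusion le_sup_left x') : ↥(P ⊔ T)) : Ω) ∈ T := by
    intro j
    induction j with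
    | zero =>
      intro x'
      have e : ((((β : MulAut P) ^ 0) x' : P) : Ω)⁻¹ *
          (((ψ₁ ^ 0) (Subgroup.inclusion le_sup_left x') : ↥(P ⊔ T)) : Ω) = 1 := by
        rw [pow_zero, pow_zero]
        exact inv_mul_cancel _
      rw [e]; exact T.one_mem
    | succ j ih =>
      intro x'
      have hu := hψβ' x'
      have e1 : ψ₁ (Subgroup.inclusion le_sup_left x') =
          Subgroup.inclusion le_sup_left ((β : MulAut P) x') *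
            ⟨_, (le_sup_right : T ≤ P ⊔ T) hu⟩ := by
        apply Subtype.ext
        rw [hψ₁, Subgroup.coe_mul]
        show ψ (Subgroup.inclusion le_sup_left x') = (((β : MulAut P) x' : P) : Ω) *
          ((((β : MulAut P) x' : P) : Ω)⁻¹ * ψ (Subgroup.inclusion le_sup_left x'))
        group
      rw [pow_succ, pow_succ, MulAut.mul_apply, MulAut.mul_apply, e1, map_mul, Subgroup.coe_mul,
        ← mul_assoc]
      exact T.mul_mem (ih _) (stronglyClosed_autGroup_maps F hT hPTS (hpowA j) _ hu)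
  have hAfin : Finite (F.autGroup (P ⊔ T)) := inferInstance
  obtain ⟨k, hk, hβk⟩ := exists_pow_pPrimePart β (⟨ψ₁, hψ₁A⟩ : F.autGroup (P ⊔ T)) hβ
  obtain ⟨ψ₂, hψ₂⟩ : ∃ ψ₂ : MulAut ↥(P ⊔ T), ψ₂ = ψ₁ ^ k := ⟨_, rfl⟩
  have hψ₂A : ψ₂ ∈ F.autGroup (P ⊔ T) := by rw [hψ₂]; exact hpowA k
  have hψ₂F := (mem_autGroup_iff F hPTS).1 hψ₂A
  obtain ⟨u, hu_def⟩ : ∃ u : Ω, u = (((β : MulAut P) x : P) : Ω)⁻¹ *
      ((ψ₂ (Subgroup.inclusion le_sup_left x) : ↥(P ⊔ T)) : Ω) := ⟨_, rfl⟩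
  have hu : u ∈ T := by
    have h1 := hmod k x
    have e : ((β : MulAut P) ^ k) = (β : MulAut P) := by
      have h2 := congrArg Subtype.val hβk
      simpa using h2
    rw [e, ← hψ₂] at h1
    rw [hu_def]
    exact h1
  have hTle : T ≤ P ⊔ T := le_sup_right
  have hχ : ((P ⊔ T).subtype.comp ψ₂.toMonoidHom).comp (Subgroup.inclusion hTle) ∈ F.Hom T :=
    restrict_mem F hψ₂F hTle (fun _ => rfl)
  have hχr := (weaklyClosed_of_stronglyClosed F hT).2 _ hχ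
  obtain ⟨τ, hτ⟩ : ∃ τ : MulAut T, ∀ t : T,
      ((τ t : T) : Ω) = ((ψ₂ ⟨t, hTle t.2⟩ : ↥(P ⊔ T)) : Ω) :=
    ⟨isoOfInj _ (F.injective_of_mem hχ) hχr, fun _ => rfl⟩
  have hτA : τ ∈ F.autGroup T := by
    rw [mem_autGroup_iff F hTS]; exact mem_of_eq F hχ (fun t => hτ t)
  have hτres : (⟨τ, hτA⟩ : F.autGroup T) ∈ pResidual p (F.autGroup T) := by
    apply Subgroup.subset_closure
    show Nat.Coprime (orderOf (⟨τ, hτA⟩ : F.autGroup T)) p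
    obtain ⟨n, hn⟩ : ∃ n, n = orderOf ((⟨ψ₁, hψ₁A⟩ : F.autGroup (P ⊔ T)) ^ k) := ⟨_, rfl⟩
    have h1 : ((⟨ψ₁, hψ₁A⟩ : F.autGroup (P ⊔ T)) ^ k) ^ n = 1 := by
      rw [hn]; exact pow_orderOf_eq_one _
    have h2 : ψ₂ ^ n = 1 := by
      have h2' := congrArg Subtype.val h1
      rw [hψ₂]; simpa using h2'
    have h3 : τ ^ n = 1 := by
      refine MulEquiv.ext (fun t => Subtype.ext ?_)
      have h4 := pow_restrict hTle ψ₂ τ (fun t => (hτ t).symm) n t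
      rw [h2] at h4
      exact h4.symm
    have h5 : (⟨τ, hτA⟩ : F.autGroup T) ^ n = 1 := Subtype.ext (by simpa using h3)
    rw [← hn] at hk
    exact Nat.Coprime.coprime_dvd_left (orderOf_dvd_of_pow_eq_one h5) hk
  have hxS : (x : Ω) ∈ S := hPS x.2
  obtain ⟨cx, hcx⟩ : ∃ cx : MulAut T, cx = T.normalizerMonoidHom ⟨x, hSN hxS⟩ := ⟨_, rfl⟩
  have hcxA : cx ∈ F.autGroup T := by
    rw [hcx]
    exact autInducedBy_le_autGroup F hTS (mem_autInducedBy_iff.2 ⟨x, hxS, fun _ => rfl⟩)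
  have hcx1 : ∀ w : T, ((cx w : T) : Ω) = x * w * (x : Ω)⁻¹ := by intro w; rw [hcx]; rfl
  have hcx2 : ∀ w : T, ((cx⁻¹ w : T) : Ω) = (x : Ω)⁻¹ * w * x := by
    intro w
    have h1 := hcx1 (cx⁻¹ w)
    rw [MulAut.apply_inv_self] at h1
    rw [h1]; group
  obtain ⟨cu, hcu⟩ : ∃ cu : MulAut T, cu = MulAut.conj (⟨u, hu⟩ : T) := ⟨_, rfl⟩
  have hcu2 : ∀ w : T, ((cu⁻¹ w : T) : Ω) = u⁻¹ * w * u := by
    intro w
    have h1 : ((cu (cu⁻¹ w) : T) : Ω) = u * ((cu⁻¹ w : T) : Ω) * u⁻¹ := by rw [hcu]; rfl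
    rw [MulAut.apply_inv_self] at h1
    rw [h1]; group
  refine ⟨cx⁻¹ * τ * cx * τ⁻¹ * cu⁻¹, ?_, fun t => ?_⟩
  · apply Subgroup.mul_mem
    · apply (le_sup_left : (pResidual p (F.autGroup T)).map (F.autGroup T).subtype ≤ _)
      have hN := pResidual_normal p (F.autGroup T)
      have h1 := hN.conj_mem _ hτres ((⟨cx, hcxA⟩ : F.autGroup T)⁻¹)
      have h2 := Subgroup.mul_mem _ h1 (Subgroup.inv_mem _ hτres)
      refine ⟨_, h2, ?_⟩
      simp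
    · apply (le_sup_right : Inn T ≤ _)
      rw [hcu, ← map_inv]
      exact ⟨_, rfl⟩
  · obtain ⟨t₂, ht₂⟩ : ∃ t₂ : T, t₂ = τ⁻¹ (cu⁻¹ t) := ⟨_, rfl⟩
    have hτt₂ : ((τ t₂ : T) : Ω) = u⁻¹ * t * u := by
      rw [ht₂, MulAut.apply_inv_self]; exact hcu2 t
    have e1 : (cx⁻¹ * τ * cx * τ⁻¹ * cu⁻¹) t = cx⁻¹ (τ (cx t₂)) := by rw [ht₂]; rfl
    rw [e1, hcx2, hτ]
    have e2 : (⟨((cx t₂ : T) : Ω), hTle (cx t₂).2⟩ : ↥(P ⊔ T)) =
        Subgroup.inclusion le_sup_left x * ⟨t₂, hTle t₂.2⟩ *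
          (Subgroup.inclusion le_sup_left x)⁻¹ := Subtype.ext (hcx1 t₂)
    rw [e2, map_mul, map_mul, map_inv, Subgroup.coe_mul, Subgroup.coe_mul, Subgroup.coe_inv,
      ← hτ t₂, hτt₂]
    have e3 : ((ψ₂ (Subgroup.inclusion le_sup_left x) : ↥(P ⊔ T)) : Ω) =
        (((β : MulAut P) x : P) : Ω) * u := by rw [hu_def]; group
    rw [e3]; group

theorem hyperfocal_aut_gen [Finite S] (p : ℕ) [Fact p.Prime] (hS : IsPGroup p S)
    (F : FusionSystem S) (hF : F.IsSaturated p) {T : Subgroup Ω} (hT : F.StronglyClosed T)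
    {P : Subgroup Ω} (hPS : P ≤ S) (β : F.autGroup P) (hβ : β ∈ pResidual p (F.autGroup P)) :
    ∀ x : P, ∃ α ∈ ((pResidual p (F.autGroup T)).map (F.autGroup T).subtype ⊔ Inn T :
        Subgroup (MulAut T)),
      ∀ t : T, ((α t : T) : Ω) = ((x : Ω)⁻¹ * ((β : MulAut P) x : P)) * t *
        ((x : Ω)⁻¹ * ((β : MulAut P) x : P))⁻¹ := by
  unfold pResidual at hβ
  induction hβ using Subgroup.closure_induction with
  | mem b hb => intro x; exact hyperfocal_aut_core p hS F hF hT hPS b hb x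
  | one =>
    intro x
    refine ⟨1, Subgroup.one_mem _, fun t => ?_⟩
    show (t : Ω) = ((x : Ω)⁻¹ * (x : Ω)) * t * ((x : Ω)⁻¹ * (x : Ω))⁻¹
    group
  | mul a b _ _ iha ihb =>
    intro x
    obtain ⟨α₁, hα₁, h₁⟩ := ihb x
    obtain ⟨α₂, hα₂, h₂⟩ := iha ((b : MulAut P) x)
    refine ⟨α₁ * α₂, Subgroup.mul_mem _ hα₁ hα₂, fun t => ?_⟩
    rw [MulAut.mul_apply, h₁, h₂]
    show _ = ((x : Ω)⁻¹ * (((a : MulAut P) ((b : MulAut P) x) : P) : Ω)) * t *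
      ((x : Ω)⁻¹ * (((a : MulAut P) ((b : MulAut P) x) : P) : Ω))⁻¹
    group
  | inv a _ iha =>
    intro x
    obtain ⟨α, hα, h⟩ := iha ((a : MulAut P)⁻¹ x)
    refine ⟨α⁻¹, Subgroup.inv_mem _ hα, fun t => ?_⟩
    have h1 := h (α⁻¹ t)
    rw [MulAut.apply_inv_self, MulAut.apply_inv_self] at h1
    show ((α⁻¹ t : T) : Ω) = ((x : Ω)⁻¹ * (((a : MulAut P)⁻¹ x : P) : Ω)) * t *
      ((x : Ω)⁻¹ * (((a : MulAut P)⁻¹ x : P) : Ω))⁻¹
    rw [h1]; group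

theorem hyperfocal_aut [Finite S] (p : ℕ) [Fact p.Prime] (hS : IsPGroup p S)
    (F : FusionSystem S) (hF : F.IsSaturated p) (T : Subgroup Ω) (hT : F.StronglyClosed T) :
    ∀ x ∈ F.hyperfocalSubgroup p,
      ∃ α ∈ ((pResidual p ↥(F.autGroup T)).map (F.autGroup T).subtype ⊔ Inn ↥T :
        Subgroup (MulAut ↥T)), ∀ t : ↥T, ((α t : ↥T) : Ω) = x * (t : Ω) * x⁻¹ := by
  intro x hx
  unfold hyperfocalSubgroup at hx
  induction hx using Subgroup.closure_induction with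
  | mem y hy =>
    obtain ⟨P, β, x', hPS, hβ, rfl⟩ := hy
    exact hyperfocal_aut_gen p hS F hF hT hPS β hβ x'
  | one =>
    refine ⟨1, Subgroup.one_mem _, fun t => ?_⟩
    show (t : Ω) = 1 * t * 1⁻¹
    group
  | mul a b _ _ iha ihb =>
    obtain ⟨α₁, hα₁, h₁⟩ := iha
    obtain ⟨α₂, hα₂, h₂⟩ := ihb
    refine ⟨α₁ * α₂, Subgroup.mul_mem _ hα₁ hα₂, fun t => ?_⟩
    rw [MulAut.mul_apply, h₁, h₂]; group
  | inv a _ iha =>
    obtain ⟨α, hα, h⟩ := iha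
    refine ⟨α⁻¹, Subgroup.inv_mem _ hα, fun t => ?_⟩
    have h1 := h (α⁻¹ t)
    rw [MulAut.apply_inv_self] at h1
    rw [h1]; group

end Cfsg.Agent.Helper26
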