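import Cfsg.Agent.Helper26.FusionSat
import Cfsg.Agent.Helper26.FusionQuot
import Cfsg.Agent.Helper27.OrdSys
import Cfsg.Prelude.Def_FusionComponents

set_option autoImplicit false

namespace Cfsg.Agent.Helper26

open Cfsg Cfsg.FusionSystem

variable {Ω : Type*} [Group Ω]

theorem fullyNormalized_of_sub {S : Subgroup Ω} [Finite S] (p : ℕ) [Fact p.Prime]
    (hS : IsPGroup p S) (F : FusionSystem S) (hF : F.IsSaturated p) {T : Subgroup Ω}
    (E : FusionSystem T) (hEF : ∀ P : Subgroup Ω, E.Hom P ⊆ F.Hom P) (hT : F.StronglyClosed T)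
    {P : Subgroup Ω} (hPT : P ≤ T) (hP : F.IsFullyNormalized P) : E.IsFullyNormalized P := by
  refine ⟨hPT, fun P' hPP' => ?_⟩
  obtain ⟨φ, hφ, hφr⟩ := hPP'
  have hconj : F.IsConj P P' := ⟨φ, hEF P hφ, hφr⟩
  obtain ⟨hPc, hPa⟩ := sat_fullyNormalized p hS F hF hP
  have hPr := receptive_of_fullyCentralized p hS F hF hPc
  obtain ⟨ρ, hρ, hρN, -⟩ := exists_normalizer_hom p hS F hPa hPr (isConj_symm F hconj)
  have hTS : T ≤ S := hT.1
  have hle : normalizerIn T P' ≤ normalizerIn S P' := inf_le_inf_right _ hTS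
  have hρ' : ρ.comp (Subgroup.inclusion hle) ∈ F.Hom (normalizerIn T P') :=
    restrict_mem F hρ hle (fun _ => rfl)
  have hNS : normalizerIn T P ≤ S := (inf_le_left : normalizerIn T P ≤ T).trans hTS
  refine Helper27.card_le_of_hom F hρ' hNS (fun x => ?_)
  have h1 : ρ (Subgroup.inclusion hle x) ∈ normalizerIn S P := hρN _
  have h2 : ρ (Subgroup.inclusion hle x) ∈ T :=
    stronglyClosed_hom_mem F hT hρ _ (Subgroup.mem_inf.1 x.2).1
  exact Subgroup.mem_inf.2 ⟨h2, (Subgroup.mem_inf.1 h1).2⟩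

theorem subnormal_aux : ∀ {T : Subgroup Ω} (E : FusionSystem T) {S : Subgroup Ω}
    (F : FusionSystem S) (p : ℕ), E.IsSubnormalIn F p → Finite S → Fact p.Prime →
    IsPGroup p S → F.IsSaturated p →
    (∀ P : Subgroup Ω, E.Hom P ⊆ F.Hom P) ∧ T ≤ S ∧
      ∀ P : Subgroup Ω, P ≤ T → F.IsFullyNormalized P → E.IsFullyNormalized P := by
  intro T E S F p h
  induction h with
  | refl F p => intro _ _ _ _; exact ⟨fun P => subset_rfl, le_rfl, fun P _ hP => hP⟩
  | @step U S E D F p hED hDF ih =>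
    intro hfin hp hS hF
    obtain ⟨⟨hDs, -, hDsub, hUsc, -, -⟩, -⟩ := hDF
    have hUS : U ≤ S := hUsc.1
    obtain ⟨hED', hTU, hfn⟩ := ih (finite_of_le hUS) hp (hS.to_le hUS) hDs
    refine ⟨fun P => (hED' P).trans (hDsub P), hTU.trans hUS, fun P hPT hP => ?_⟩
    exact hfn P hPT (fullyNormalized_of_sub p hS F hF D hDsub hUsc (hPT.trans hTU) hP)

end Cfsg.Agent.Helper26
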