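import Mathlib
import Cfsg.Agent.Helper17.ShiftRank
import Cfsg.Agent.Helper21.BlockRank

set_option autoImplicit false

open Matrix

namespace Cfsg.Agent.Helper26

/-- Backup for sprint piece [P6b] of S2583: the pair block `J ⊕ J⁻ᵀ` preserves the hyperbolic
form. -/
theorem pair_block_form {F : Type*} [Field F] (d : ℕ) :
    ∃ A M : Matrix (Fin d ⊕ Fin d) (Fin d ⊕ Fin d) F, Mᵀ = M ∧ M.det ≠ 0 ∧ Aᵀ * M * A = M ∧
      ∀ k, ((A - 1) ^ k).rank = (d - k) + (d - k) := by
  classical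
  obtain ⟨J, hJ⟩ : ∃ J : Matrix (Fin d) (Fin d) F, J = Cfsg.jordanBlock d F := ⟨_, rfl⟩
  obtain ⟨N, hN⟩ : ∃ N : Matrix (Fin d) (Fin d) F, N = J - 1 := ⟨_, rfl⟩
  have hNrank : ∀ k, (N ^ k).rank = d - k := by
    intro k
    rw [hN, hJ]
    exact Helper17.jb_sub_one_pow_rank d k
  have hNd : N ^ d = 0 := by
    ext a b
    rw [hN, hJ, Helper17.jb_sub_one_pow_apply]
    have h : ¬ ((a : ℕ) = (b : ℕ) + d) := by
      have := a.2
      omega
    rw [if_neg h]
    rfl
  have hJN : J = N + 1 := by rw [hN, sub_add_cancel]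
  have hJunit : IsUnit J := by
    have h : IsNilpotent N := ⟨d, hNd⟩
    rw [hJN]
    exact h.isUnit_add_one
  have hdet : IsUnit J.det := (Matrix.isUnit_iff_isUnit_det J).mp hJunit
  obtain ⟨Ji, hJi⟩ : ∃ Ji : Matrix (Fin d) (Fin d) F, Ji = J⁻¹ := ⟨_, rfl⟩
  have h1 : Ji * J = 1 := by rw [hJi]; exact Matrix.nonsing_inv_mul J hdet
  have h2 : J * Ji = 1 := by rw [hJi]; exact Matrix.mul_nonsing_inv J hdet
  have hcomm : Commute Ji N := by
    have hc : Commute Ji J := by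
      show Ji * J = J * Ji
      rw [h1, h2]
    rw [hN]
    exact hc.sub_right (Commute.one_right _)
  refine ⟨Matrix.fromBlocks J 0 0 Jiᵀ, Matrix.fromBlocks 0 1 1 0, ?_, ?_, ?_, ?_⟩
  · rw [Matrix.fromBlocks_transpose]
    simp
  · have hMM : (Matrix.fromBlocks (0 : Matrix (Fin d) (Fin d) F) (1 : Matrix (Fin d) (Fin d) F)
        (1 : Matrix (Fin d) (Fin d) F) (0 : Matrix (Fin d) (Fin d) F)) *
        Matrix.fromBlocks 0 1 1 0 = 1 := by
      rw [Matrix.fromBlocks_multiply]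
      simp [Matrix.fromBlocks_one]
    intro h0
    have h := congrArg Matrix.det hMM
    rw [Matrix.det_mul, h0, Matrix.det_one, mul_zero] at h
    exact zero_ne_one h
  · rw [Matrix.fromBlocks_transpose, Matrix.fromBlocks_multiply, Matrix.fromBlocks_multiply]
    have e1 : Jᵀ * Jiᵀ = 1 := by
      rw [← Matrix.transpose_mul, h1, Matrix.transpose_one]
    simp [e1, h1]
  · intro k
    have hA1 : Matrix.fromBlocks J 0 0 Jiᵀ - 1 = Matrix.fromBlocks (J - 1) 0 0 (Jiᵀ - 1) := by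
      rw [← Matrix.fromBlocks_one, sub_eq_add_neg, Matrix.fromBlocks_neg, Matrix.fromBlocks_add]
      simp [sub_eq_add_neg]
    have hpow : ∀ k : ℕ, (Matrix.fromBlocks (J - 1) 0 0 (Jiᵀ - 1)) ^ k =
        Matrix.fromBlocks ((J - 1) ^ k) 0 0 ((Jiᵀ - 1) ^ k) := by
      intro k
      induction k with
      | zero => simp [Matrix.fromBlocks_one]
      | succ k ih =>
        rw [pow_succ, ih, Matrix.fromBlocks_multiply, pow_succ, pow_succ]
        simp
    rw [hA1, hpow, Helper21.br21_rank_fromBlocks, ← hN, hNrank]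
    congr 1
    have e1 : (Jiᵀ - 1) ^ k = ((Ji - 1) ^ k)ᵀ := by
      rw [Matrix.transpose_pow, Matrix.transpose_sub, Matrix.transpose_one]
    have e2 : Ji - 1 = (-Ji) * N := by
      rw [hN, neg_mul, mul_sub, h1, mul_one, neg_sub]
    have hcomm' : Commute (-Ji) N := hcomm.neg_left
    have e3 : (Ji - 1) ^ k = (-Ji) ^ k * N ^ k := by
      rw [e2, hcomm'.mul_pow]
    have hunit : IsUnit ((-Ji) ^ k).det := by
      have hu : IsUnit (-Ji) := by
        refine ⟨⟨-Ji, -J, ?_, ?_⟩, rfl⟩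
        · rw [neg_mul_neg, h1]
        · rw [neg_mul_neg, h2]
      exact (Matrix.isUnit_iff_isUnit_det _).mp (hu.pow k)
    rw [e1, Matrix.rank_transpose, e3, Matrix.rank_mul_eq_right_of_isUnit_det _ _ hunit, hNrank]

end Cfsg.Agent.Helper26
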