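import Mathlib
import Cfsg.Agent.Helper17.ShiftRank
import Cfsg.Agent.Helper21.BlockRank

set_option autoImplicit false

open Matrix

namespace Cfsg.Agent.Helper26

/-- Sprint piece [R6a] of S2582: a single Jordan block of even size `2m` inside an alternating
form, in any characteristic. -/
theorem even_block_form_alt {F : Type*} [Field F] (m : ℕ) :
    ∃ A M : Matrix (Fin m ⊕ Fin m) (Fin m ⊕ Fin m) F, (∀ v, v ⬝ᵥ M *ᵥ v = 0) ∧ M.det ≠ 0 ∧
      Aᵀ * M * A = M ∧ ∀ k, ((A - 1) ^ k).rank = 2 * m - k := by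
  classical
  obtain ⟨S, hS⟩ : ∃ S : Matrix (Fin m) (Fin m) F, S = Cfsg.jordanBlock m F - 1 := ⟨_, rfl⟩
  have hSapp : ∀ a b : Fin m, S a b = if (a : ℕ) = (b : ℕ) + 1 then 1 else 0 := by
    intro a b
    rw [hS]
    exact Helper17.jb_sub_one_apply m a b
  have hSrank : ∀ k, (S ^ k).rank = m - k := by
    intro k
    rw [hS]
    exact Helper17.jb_sub_one_pow_rank m k
  obtain ⟨R, hR⟩ : ∃ R : Matrix (Fin m) (Fin m) F,
      R = Matrix.of (fun a b : Fin m => if (a : ℕ) + (b : ℕ) + 1 = m then (1 : F) else 0) :=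
    ⟨_, rfl⟩
  have hRapp : ∀ a b : Fin m, R a b = if (a : ℕ) + (b : ℕ) + 1 = m then 1 else 0 := by
    intro a b
    rw [hR]
    rfl
  have hRT : Rᵀ = R := by
    ext a b
    rw [Matrix.transpose_apply, hRapp, hRapp]
    have h : ((b : ℕ) + (a : ℕ) + 1 = m) ↔ ((a : ℕ) + (b : ℕ) + 1 = m) := by omega
    simp only [h]
  have hRR : R * R = 1 := by
    ext a b
    rw [Matrix.mul_apply, Matrix.one_apply]
    have ha := a.2
    have hb := b.2
    rw [Finset.sum_eq_single (Fin.rev a)]
    · rw [hRapp, hRapp]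
      have h1 : (a : ℕ) + (Fin.rev a : ℕ) + 1 = m := by rw [Fin.val_rev]; omega
      rw [if_pos h1, one_mul]
      by_cases hab : a = b
      · subst hab
        rw [if_pos rfl, if_pos]
        rw [Fin.val_rev]; omega
      · rw [if_neg hab, if_neg]
        intro h
        apply hab
        apply Fin.ext
        rw [Fin.val_rev] at h
        omega
    · intro c _ hc
      rw [hRapp, if_neg, zero_mul]
      intro h
      apply hc
      apply Fin.ext
      rw [Fin.val_rev]
      omega
    · intro h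
      exact absurd (Finset.mem_univ _) h
  have hSR : Sᵀ * R = R * S := by
    ext a b
    rw [Matrix.mul_apply, Matrix.mul_apply]
    have ha := a.2
    have hb := b.2
    have hL : ∑ c, Sᵀ a c * R c b = if (a : ℕ) + (b : ℕ) + 2 = m then 1 else 0 := by
      by_cases h : (a : ℕ) + (b : ℕ) + 2 = m
      · rw [if_pos h]
        have hlt : (a : ℕ) + 1 < m := by omega
        rw [Finset.sum_eq_single (⟨(a : ℕ) + 1, hlt⟩ : Fin m)]
        · rw [Matrix.transpose_apply, hSapp, hRapp, if_pos rfl, if_pos, one_mul]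
          show (a : ℕ) + 1 + (b : ℕ) + 1 = m
          omega
        · intro c _ hc
          rw [Matrix.transpose_apply, hSapp, if_neg, zero_mul]
          intro h'
          apply hc
          apply Fin.ext
          exact h'
        · intro h'
          exact absurd (Finset.mem_univ _) h'
      · rw [if_neg h]
        apply Finset.sum_eq_zero
        intro c _
        rw [Matrix.transpose_apply, hSapp, hRapp]
        by_cases h1 : (c : ℕ) = (a : ℕ) + 1
        · rw [if_pos h1, if_neg, mul_zero]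
          omega
        · rw [if_neg h1, zero_mul]
    have hRt : ∑ c, R a c * S c b = if (a : ℕ) + (b : ℕ) + 2 = m then 1 else 0 := by
      by_cases h : (a : ℕ) + (b : ℕ) + 2 = m
      · rw [if_pos h]
        have hlt : (b : ℕ) + 1 < m := by omega
        rw [Finset.sum_eq_single (⟨(b : ℕ) + 1, hlt⟩ : Fin m)]
        · rw [hRapp, hSapp, if_pos, if_pos rfl, one_mul]
          show (a : ℕ) + ((b : ℕ) + 1) + 1 = m
          omega
        · intro c _ hc
          rw [hSapp, if_neg, mul_zero]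
          intro h'
          apply hc
          apply Fin.ext
          exact h'
        · intro h'
          exact absurd (Finset.mem_univ _) h'
      · rw [if_neg h]
        apply Finset.sum_eq_zero
        intro c _
        rw [hRapp, hSapp]
        by_cases h1 : (c : ℕ) = (b : ℕ) + 1
        · rw [if_pos h1, if_neg, zero_mul]
          omega
        · rw [if_neg h1, mul_zero]
    rw [hL, hRt]
  -- the matrices
  obtain ⟨A, hA⟩ : ∃ A : Matrix (Fin m ⊕ Fin m) (Fin m ⊕ Fin m) F,
      A = Matrix.fromBlocks 1 S 1 (1 + S) := ⟨_, rfl⟩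
  obtain ⟨Mm, hMm⟩ : ∃ Mm : Matrix (Fin m ⊕ Fin m) (Fin m ⊕ Fin m) F,
      Mm = Matrix.fromBlocks 0 R (-R) 0 := ⟨_, rfl⟩
  obtain ⟨N, hN⟩ : ∃ N : Matrix (Fin m ⊕ Fin m) (Fin m ⊕ Fin m) F,
      N = Matrix.fromBlocks 0 S 1 S := ⟨_, rfl⟩
  obtain ⟨Sg, hSg⟩ : ∃ Sg : Matrix (Fin m ⊕ Fin m) (Fin m ⊕ Fin m) F,
      Sg = Matrix.fromBlocks S 0 0 S := ⟨_, rfl⟩
  have hAN : A = N + 1 := by
    rw [hA, hN, ← Matrix.fromBlocks_one, Matrix.fromBlocks_add]
    congr 1 <;> simp [add_comm]
  have hAsub : A - 1 = N := by rw [hAN, add_sub_cancel_right]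
  have hNN : N * N = Sg * A := by
    rw [hN, hSg, hA, Matrix.fromBlocks_multiply, Matrix.fromBlocks_multiply]
    congr 1 <;> simp [mul_add]
  have hcSN : Commute Sg N := by
    show Sg * N = N * Sg
    rw [hN, hSg, Matrix.fromBlocks_multiply, Matrix.fromBlocks_multiply]
    congr 1 <;> simp
  have hcSA : Commute Sg A := by
    rw [hAN]
    exact hcSN.add_right (Commute.one_right _)
  have hcAN : Commute A N := by
    rw [hAN]
    exact (Commute.refl N).add_left (Commute.one_left _)
  have hSgpow : ∀ i : ℕ, Sg ^ i = Matrix.fromBlocks (S ^ i) 0 0 (S ^ i) := by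
    intro i
    induction i with
    | zero => simp [Matrix.fromBlocks_one]
    | succ i ih =>
      rw [pow_succ, ih, hSg, Matrix.fromBlocks_multiply, pow_succ]
      simp
  have hdetA : A.det = 1 := by
    rw [hA, Matrix.det_fromBlocks_one₁₁]
    simp
  have hAu : ∀ i : ℕ, IsUnit (A ^ i).det := by
    intro i
    rw [Matrix.det_pow, hdetA, one_pow]
    exact isUnit_one
  refine ⟨A, Mm, ?_, ?_, ?_, ?_⟩
  · intro v
    rw [hMm, Matrix.fromBlocks_mulVec]
    have hv : v = Sum.elim (v ∘ Sum.inl) (v ∘ Sum.inr) := (Sum.elim_comp_inl_inr v).symm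
    have e : ∀ (w₁ w₂ : Fin m → F),
        v ⬝ᵥ Sum.elim w₁ w₂ = (v ∘ Sum.inl) ⬝ᵥ w₁ + (v ∘ Sum.inr) ⬝ᵥ w₂ := by
      intro w₁ w₂
      conv_lhs => rw [hv]
      rw [sumElim_dotProduct_sumElim]
    rw [e]
    have h2 : (v ∘ Sum.inr) ⬝ᵥ R *ᵥ (v ∘ Sum.inl) = (v ∘ Sum.inl) ⬝ᵥ R *ᵥ (v ∘ Sum.inr) := by
      rw [Matrix.dotProduct_mulVec, ← Matrix.mulVec_transpose, hRT, dotProduct_comm]
    simp only [Matrix.zero_mulVec, zero_add, add_zero, Matrix.neg_mulVec, dotProduct_neg]
    rw [h2, add_neg_cancel]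
  · have hMM : Mm * (-Mm) = 1 := by
      rw [hMm, Matrix.fromBlocks_neg, Matrix.fromBlocks_multiply, ← Matrix.fromBlocks_one]
      congr 1 <;> simp [hRR]
    intro h0
    have h := congrArg Matrix.det hMM
    rw [Matrix.det_mul, h0, zero_mul, Matrix.det_one] at h
    exact zero_ne_one h
  · have hAT : Aᵀ = Matrix.fromBlocks 1 1 Sᵀ (1 + Sᵀ) := by
      rw [hA, Matrix.fromBlocks_transpose]
      congr 1 <;> simp [Matrix.transpose_add]
    rw [hAT, hMm, hA, Matrix.fromBlocks_multiply, Matrix.fromBlocks_multiply]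
    congr 1
    · simp
    · simp only [one_mul, zero_mul, mul_zero, zero_add, add_zero, neg_mul, mul_add, mul_one]
      abel
    · simp only [one_mul, zero_mul, mul_zero, zero_add, add_zero, neg_mul, mul_one, add_mul,
        mul_neg]
      abel
    · simp only [one_mul, zero_mul, mul_zero, zero_add, add_zero, neg_mul, mul_one, add_mul,
        mul_neg, mul_add, hSR]
      abel
  · intro k
    rw [hAsub]
    rcases Nat.even_or_odd' k with ⟨i, rfl | rfl⟩
    · have e1 : N ^ (2 * i) = Sg ^ i * A ^ i := by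
        rw [pow_mul, pow_two, hNN, hcSA.mul_pow]
      rw [e1, Matrix.rank_mul_eq_left_of_isUnit_det _ _ (hAu i), hSgpow,
        Helper21.br21_rank_fromBlocks, hSrank]
      omega
    · obtain ⟨W, hW⟩ : ∃ W : Matrix (Fin m ⊕ Fin m) (Fin m ⊕ Fin m) F,
          W = Matrix.fromBlocks 0 1 1 S := ⟨_, rfl⟩
      have hWu : IsUnit W.det := by
        have hWW : W * Matrix.fromBlocks (-S) 1 1 0 = 1 := by
          rw [hW, Matrix.fromBlocks_multiply, ← Matrix.fromBlocks_one]
          congr 1 <;> simp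
        have h := congrArg Matrix.det hWW
        rw [Matrix.det_mul, Matrix.det_one] at h
        exact IsUnit.of_mul_eq_one _ h
      have e1 : N ^ (2 * i + 1) = (Matrix.fromBlocks (S ^ (i + 1)) 0 0 (S ^ i) * W) * A ^ i := by
        have e2 : N ^ (2 * i) = Sg ^ i * A ^ i := by
          rw [pow_mul, pow_two, hNN, hcSA.mul_pow]
        have e3 : Sg ^ i * N = Matrix.fromBlocks (S ^ (i + 1)) 0 0 (S ^ i) * W := by
          rw [hSgpow, hN, hW, Matrix.fromBlocks_multiply, Matrix.fromBlocks_multiply]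
          congr 1 <;> simp [pow_succ]
        have e4 : A ^ i * N = N * A ^ i := (hcAN.pow_left i).eq
        rw [pow_succ, e2, Matrix.mul_assoc, e4, ← Matrix.mul_assoc, e3]
      rw [e1, Matrix.rank_mul_eq_left_of_isUnit_det _ _ (hAu i),
        Matrix.rank_mul_eq_left_of_isUnit_det _ _ hWu, Helper21.br21_rank_fromBlocks, hSrank,
        hSrank]
      omega

end Cfsg.Agent.Helper26
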