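import Cfsg.Agent.Helper26.FusionSat2
import Cfsg.Agent.Helper26.FusionAlperin
import Cfsg.Agent.Helper26.GroupQuot
import Cfsg.Agent.Helper26.FusionNC
import Cfsg.Agent.Helper27.CentricExt
import Cfsg.Agent.Helper27.PStable

set_option autoImplicit false

namespace Cfsg.Agent.Helper26

open Cfsg Cfsg.FusionSystem

variable {Ω : Type*} [Group Ω] {S : Subgroup Ω}

theorem mem_normalizer_of_forall_conj_mem {H : Subgroup Ω} [Finite H] {g : Ω}
    (h : ∀ x ∈ H, g * x * g⁻¹ ∈ H) : g ∈ Subgroup.normalizer (H : Set Ω) := by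
  rw [Subgroup.mem_normalizer_iff]
  intro x
  constructor
  · exact h x
  · intro hx
    have hinj : Function.Injective (fun y : H => (⟨g * y * g⁻¹, h y y.2⟩ : H)) := by
      intro a b hab
      have h1 : g * (a : Ω) * g⁻¹ = g * (b : Ω) * g⁻¹ := congrArg Subtype.val hab
      exact Subtype.ext (mul_left_cancel (mul_right_cancel h1))
    obtain ⟨y, hy⟩ := (Finite.injective_iff_surjective.1 hinj) ⟨g * x * g⁻¹, hx⟩
    have h2 : g * (y : Ω) * g⁻¹ = g * x * g⁻¹ := congrArg Subtype.val hy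
    have h3 : (y : Ω) = x := mul_left_cancel (mul_right_cancel h2)
    rw [← h3]; exact y.2

theorem mem_normalizer_sup' {A B : Subgroup Ω} {g : Ω}
    (hA : g ∈ Subgroup.normalizer (A : Set Ω)) (hB : g ∈ Subgroup.normalizer (B : Set Ω)) :
    g ∈ Subgroup.normalizer ((A ⊔ B : Subgroup Ω) : Set Ω) := by
  have h1 : A.map (MulAut.conj g).toMonoidHom = A := map_conj_eq_of_mem_normalizer hA
  have h2 : B.map (MulAut.conj g).toMonoidHom = B := map_conj_eq_of_mem_normalizer hB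
  have h3 : (A ⊔ B).map (MulAut.conj g).toMonoidHom = A ⊔ B := by
    rw [Subgroup.map_sup, h1, h2]
  rw [Subgroup.mem_normalizer_iff]
  intro x
  constructor
  · intro hx
    have h4 := conj_mem_map_conj (A := A ⊔ B) g hx
    rw [h3] at h4
    exact h4
  · intro hx
    have hx' : g * x * g⁻¹ ∈ (A ⊔ B).map (MulAut.conj g).toMonoidHom := by rw [h3]; exact hx
    have h5 := mem_map_conj.1 hx'
    have e : g⁻¹ * (g * x * g⁻¹) * g = x := by group
    rw [e] at h5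
    exact h5

theorem card_eq_autInducedBy_mul {H U : Subgroup Ω} [Finite H]
    (hHU : H ≤ Subgroup.normalizer (U : Set Ω)) :
    Nat.card H = Nat.card (autInducedBy H U) *
      Nat.card ↥(H ⊓ Subgroup.centralizer (U : Set Ω)) := by
  obtain ⟨f, hf⟩ : ∃ f : H →* MulAut U,
      f = U.normalizerMonoidHom.comp (Subgroup.inclusion hHU) := ⟨_, rfl⟩
  have hfa : ∀ (g : H) (x : U), ((f g x : U) : Ω) = g * x * (g : Ω)⁻¹ := by
    intro g x; subst hf; rfl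
  have hrange : f.range = autInducedBy H U := by
    ext α
    rw [mem_autInducedBy_iff]
    constructor
    · rintro ⟨g, rfl⟩
      exact ⟨g, g.2, fun x => hfa g x⟩
    · rintro ⟨g, hg, h⟩
      refine ⟨⟨g, hg⟩, ?_⟩
      apply MulEquiv.ext
      intro x
      apply Subtype.ext
      exact (hfa ⟨g, hg⟩ x).trans (h x).symm
  have hker : f.ker = (H ⊓ Subgroup.centralizer (U : Set Ω)).subgroupOf H := by
    ext g
    rw [MonoidHom.mem_ker, Subgroup.mem_subgroupOf, Subgroup.mem_inf,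
      Subgroup.mem_centralizer_iff]
    constructor
    · intro hg
      refine ⟨g.2, fun x hx => ?_⟩
      have h1 := hfa g ⟨x, hx⟩
      rw [hg] at h1
      have h2 : x = (g : Ω) * x * (g : Ω)⁻¹ := h1
      calc x * (g : Ω) = (g : Ω) * x * (g : Ω)⁻¹ * g := by rw [← h2]
        _ = g * x := by group
    · rintro ⟨-, hg⟩
      apply MulEquiv.ext
      intro x
      apply Subtype.ext
      have h1 : (x : Ω) * (g : Ω) = (g : Ω) * x := hg x x.2
      have h2 : (g : Ω) * x * (g : Ω)⁻¹ = x := by rw [← h1]; group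
      exact (hfa g x).trans h2
  have h1 := Subgroup.card_mul_index f.ker
  rw [Subgroup.index_ker, hrange, hker] at h1
  have h2 : Nat.card ((H ⊓ Subgroup.centralizer (U : Set Ω)).subgroupOf H) =
      Nat.card ↥(H ⊓ Subgroup.centralizer (U : Set Ω)) :=
    Nat.card_congr (Subgroup.subgroupOfEquivOfLe inf_le_left).toEquiv
  rw [h2, mul_comm] at h1
  exact h1.symm

theorem exists_iso_autS [Finite S] (p : ℕ) [Fact p.Prime] (hS : IsPGroup p S)
    (F : FusionSystem S) (hF : F.IsSaturated p) {X : Subgroup Ω} (hX : X ≤ S)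
    {R : Subgroup (MulAut X)} (hRp : IsPGroup p R) (hR : R ≤ F.autGroup X) :
    ∃ (U : Subgroup Ω) (e : X ≃* U), U.subtype.comp e.toMonoidHom ∈ F.Hom X ∧
      F.IsFullyAutomized p U ∧ F.IsReceptive U ∧
      ∀ ρ ∈ R, ∃ h ∈ S, ∀ x : X, ((e (ρ x) : U) : Ω) = h * (e x : Ω) * h⁻¹ := by
  obtain ⟨U, hXU, h₁, h₂⟩ := hF X hX
  obtain ⟨e₀, he₀⟩ := exists_iso_of_isConj F hXU
  have hUS : U ≤ S := h₁.1
  have : Finite U := finite_of_le hUS
  obtain ⟨A, hA⟩ : ∃ A : Subgroup (MulAut U),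
      A = R.map (MulAut.congr e₀).toMonoidHom := ⟨_, rfl⟩
  have hAp : IsPGroup p A := by rw [hA]; exact hRp.map _
  have hAle : A ≤ F.autGroup U := by
    rw [hA]
    rintro _ ⟨α, hα, rfl⟩
    exact congr_mem_autGroup F e₀ he₀ (hR hα)
  obtain ⟨n, hn, hnA⟩ := exists_conj_le_of_sylowIn h₁.2 hAp hAle
  have hnF : U.subtype.comp (n : U ≃* U).toMonoidHom ∈ F.Hom U := (mem_autGroup_iff F hUS).1 hn
  obtain ⟨e, hedef⟩ : ∃ e : X ≃* U, e = e₀.trans n := ⟨_, rfl⟩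
  have he : U.subtype.comp e.toMonoidHom ∈ F.Hom X := by
    rw [hedef]; exact iso_trans_mem F e₀ n he₀ hnF
  refine ⟨U, e, he, h₁, h₂, fun ρ hρ => ?_⟩
  have h3 : (MulAut.conj n).toMonoidHom (MulAut.congr e₀ ρ) ∈ autInducedBy S U := by
    apply hnA
    rw [hA]
    exact ⟨_, ⟨ρ, hρ, rfl⟩, rfl⟩
  obtain ⟨h, hhS, hh⟩ := mem_autInducedBy_iff.1 h3
  refine ⟨h, hhS, fun x => ?_⟩
  have h4 := hh (e x)
  have h5 : ((MulAut.conj n).toMonoidHom (MulAut.congr e₀ ρ)) (e x) = e (ρ x) := by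
    rw [hedef]
    show n (e₀ (ρ (e₀.symm (n⁻¹ (n (e₀ x)))))) = n (e₀ (ρ x))
    simp
  rw [h5] at h4
  exact h4

theorem stab_iff_of_forall {X P : Subgroup Ω} [Finite P] (β : MulAut X)
    (h : ∀ x : X, (x : Ω) ∈ P → ((β x : X) : Ω) ∈ P) (hPX : P ≤ X) :
    ∀ x : X, (x : Ω) ∈ P ↔ ((β x : X) : Ω) ∈ P := by
  intro x
  refine ⟨h x, fun hx => ?_⟩
  have hinj : Function.Injective
      (fun y : P => (⟨β ⟨y, hPX y.2⟩, h ⟨y, hPX y.2⟩ y.2⟩ : P)) := by
    intro a b hab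
    have h1 : ((β ⟨a, hPX a.2⟩ : X) : Ω) = β ⟨b, hPX b.2⟩ :=
      congrArg (fun z : P => (z : Ω)) hab
    have h2 : (⟨a, hPX a.2⟩ : X) = ⟨b, hPX b.2⟩ := β.injective (Subtype.ext h1)
    exact Subtype.ext (congrArg (fun z : X => (z : Ω)) h2)
  obtain ⟨y, hy⟩ := (Finite.injective_iff_surjective.1 hinj) ⟨β x, hx⟩
  have h2 : ((β ⟨y, hPX y.2⟩ : X) : Ω) = β x := congrArg (fun z : P => (z : Ω)) hy
  have h3 : (⟨y, hPX y.2⟩ : X) = x := β.injective (Subtype.ext h2)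
  rw [← h3]; exact y.2

/-- The automorphisms of `P ⊔ Q` in the system that stabilize `P` and restrict on `Q` to an
element of `K`. -/
def stabK (F : FusionSystem S) (P Q : Subgroup Ω) (K : Subgroup (MulAut Q)) :
    Subgroup (MulAut ↥(P ⊔ Q)) where
  carrier := {β | β ∈ F.autGroup (P ⊔ Q) ∧
    (∀ x : ↥(P ⊔ Q), (x : Ω) ∈ P ↔ ((β x : ↥(P ⊔ Q)) : Ω) ∈ P) ∧
    ∃ κ ∈ K, ∀ x : Q, ((β (Subgroup.inclusion le_sup_right x) : ↥(P ⊔ Q)) : Ω) = κ x}
  mul_mem' := by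
    rintro a b ⟨ha, haP, κa, hκa, hκa'⟩ ⟨hb, hbP, κb, hκb, hκb'⟩
    refine ⟨mul_mem ha hb, fun x => ?_, κa * κb, mul_mem hκa hκb, fun x => ?_⟩
    · exact (hbP x).trans (haP (b x))
    · have h1 : b (Subgroup.inclusion le_sup_right x) =
          Subgroup.inclusion le_sup_right (κb x) := Subtype.ext (hκb' x)
      exact (congrArg (fun y => (((a y : ↥(P ⊔ Q)) : Ω))) h1).trans (hκa' (κb x))
  one_mem' := ⟨one_mem _, fun x => Iff.rfl, 1, one_mem _, fun x => rfl⟩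
  inv_mem' := by
    rintro a ⟨ha, haP, κa, hκa, hκa'⟩
    refine ⟨inv_mem ha, fun x => ?_, κa⁻¹, inv_mem hκa, fun x => ?_⟩
    · have h1 := haP (a⁻¹ x)
      have h2 : a (a⁻¹ x) = x := MulAut.apply_inv_self _ a x
      rw [h2] at h1
      exact h1.symm
    · have h1 := hκa' (κa⁻¹ x)
      have h2 : κa (κa⁻¹ x) = x := MulAut.apply_inv_self _ κa x
      rw [h2] at h1
      have h3 : a (Subgroup.inclusion le_sup_right (κa⁻¹ x)) =
          Subgroup.inclusion le_sup_right x := Subtype.ext h1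
      have h4 : a⁻¹ (Subgroup.inclusion le_sup_right x) =
          Subgroup.inclusion le_sup_right (κa⁻¹ x) := by
        rw [← h3]; exact MulAut.inv_apply_self _ a _
      exact congrArg Subtype.val h4

theorem mem_stabK {F : FusionSystem S} {P Q : Subgroup Ω} {K : Subgroup (MulAut Q)}
    {β : MulAut ↥(P ⊔ Q)} :
    β ∈ stabK F P Q K ↔ (β ∈ F.autGroup (P ⊔ Q) ∧
      (∀ x : ↥(P ⊔ Q), (x : Ω) ∈ P ↔ ((β x : ↥(P ⊔ Q)) : Ω) ∈ P) ∧
      ∃ κ ∈ K, ∀ x : Q, ((β (Subgroup.inclusion le_sup_right x) : ↥(P ⊔ Q)) : Ω) = κ x) :=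
  Iff.rfl

section res

variable {F : FusionSystem S} {P Q : Subgroup Ω} {K : Subgroup (MulAut Q)}

/-- restriction to `P` of an element of `stabK`, as an endomorphism. -/
def resFun (β : ↥(stabK F P Q K)) : P →* P :=
  ((P ⊔ Q).subtype.comp ((β : MulAut ↥(P ⊔ Q)).toMonoidHom.comp
    (Subgroup.inclusion le_sup_left))).codRestrict P
    (fun x => ((mem_stabK.1 β.2).2.1 (Subgroup.inclusion le_sup_left x)).1 x.2)

theorem resFun_apply (β : ↥(stabK F P Q K)) (x : P) :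
    ((resFun β x : P) : Ω) =
      ((β : MulAut ↥(P ⊔ Q)) (Subgroup.inclusion le_sup_left x) : ↥(P ⊔ Q)) := rfl

theorem resFun_apply' (β : ↥(stabK F P Q K)) (x : P) :
    Subgroup.inclusion le_sup_left (resFun β x) =
      (β : MulAut ↥(P ⊔ Q)) (Subgroup.inclusion le_sup_left x) := Subtype.ext rfl

theorem resFun_mul (β γ : ↥(stabK F P Q K)) (x : P) :
    resFun (β * γ) x = resFun β (resFun γ x) := by
  apply Subtype.ext
  have h := congrArg (fun y => (((β : MulAut ↥(P ⊔ Q)) y : ↥(P ⊔ Q)) : Ω)) (resFun_apply' γ x)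
  exact h.symm

theorem resFun_one (x : P) : resFun (1 : ↥(stabK F P Q K)) x = x := Subtype.ext rfl

/-- restriction to `P` of an element of `stabK`, as an automorphism. -/
def resP (β : ↥(stabK F P Q K)) : MulAut P :=
  MonoidHom.toMulEquiv (resFun β) (resFun β⁻¹)
    (MonoidHom.ext fun x => by
      show resFun β⁻¹ (resFun β x) = x
      rw [← resFun_mul, inv_mul_cancel]; exact resFun_one x)
    (MonoidHom.ext fun x => by
      show resFun β (resFun β⁻¹ x) = x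
      rw [← resFun_mul, mul_inv_cancel]; exact resFun_one x)

theorem resP_apply (β : ↥(stabK F P Q K)) (x : P) : resP β x = resFun β x := rfl

end res

/-- restriction to `P`, as a group homomorphism. -/
def resHom (F : FusionSystem S) (P Q : Subgroup Ω) (K : Subgroup (MulAut Q)) :
    ↥(stabK F P Q K) →* MulAut P where
  toFun := resP
  map_one' := MulEquiv.ext fun x => resFun_one x
  map_mul' β γ := MulEquiv.ext fun x => resFun_mul β γ x

theorem resHom_apply (F : FusionSystem S) (P Q : Subgroup Ω) (K : Subgroup (MulAut Q))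
    (β : ↥(stabK F P Q K)) (x : P) :
    ((resHom F P Q K β x : P) : Ω) =
      ((β : MulAut ↥(P ⊔ Q)) (Subgroup.inclusion le_sup_left x) : ↥(P ⊔ Q)) := rfl

/-- the elements of `S` acting on `Q₁ = e(Q)` through `e K e⁻¹`. -/
def kNormIn (S : Subgroup Ω) {Q Q₁ : Subgroup Ω} (K : Subgroup (MulAut Q)) (e : Q ≃* Q₁) :
    Subgroup Ω where
  carrier := {h | h ∈ S ∧ ∃ κ ∈ K, ∀ x : Q, h * (e x : Ω) * h⁻¹ = e (κ x)}
  mul_mem' := by
    rintro a b ⟨ha, κa, hκa, hκa'⟩ ⟨hb, κb, hκb, hκb'⟩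
    refine ⟨mul_mem ha hb, κa * κb, mul_mem hκa hκb, fun x => ?_⟩
    have h1 : a * b * (e x : Ω) * (a * b)⁻¹ = a * (b * (e x : Ω) * b⁻¹) * a⁻¹ := by group
    exact h1.trans ((congrArg (fun y => a * y * a⁻¹) (hκb' x)).trans (hκa' (κb x)))
  one_mem' := ⟨one_mem _, 1, one_mem _, fun x => by simp⟩
  inv_mem' := by
    rintro a ⟨ha, κa, hκa, hκa'⟩
    refine ⟨inv_mem ha, κa⁻¹, inv_mem hκa, fun x => ?_⟩
    have h1 := hκa' (κa⁻¹ x)
    have h2 : κa (κa⁻¹ x) = x := MulAut.apply_inv_self _ κa x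
    rw [h2] at h1
    rw [← h1]; group

theorem mem_kNormIn {S : Subgroup Ω} {Q Q₁ : Subgroup Ω} {K : Subgroup (MulAut Q)}
    {e : Q ≃* Q₁} {h : Ω} :
    h ∈ kNormIn S K e ↔ (h ∈ S ∧ ∃ κ ∈ K, ∀ x : Q, h * (e x : Ω) * h⁻¹ = e (κ x)) :=
  Iff.rfl

theorem kNormIn_le_normalizer {S : Subgroup Ω} {Q Q₁ : Subgroup Ω} [Finite Q₁]
    {K : Subgroup (MulAut Q)} {e : Q ≃* Q₁} :
    kNormIn S K e ≤ Subgroup.normalizer (Q₁ : Set Ω) := by
  intro h hh
  obtain ⟨-, κ, -, hκ⟩ := mem_kNormIn.1 hh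
  apply mem_normalizer_of_forall_conj_mem
  intro y hy
  have h1 := hκ (e.symm ⟨y, hy⟩)
  rw [MulEquiv.apply_symm_apply] at h1
  have h2 : h * y * h⁻¹ = (e (κ (e.symm ⟨y, hy⟩)) : Ω) := h1
  rw [h2]; exact (e _).2

theorem conj_restrict_iso {X U Q Q₁ : Subgroup Ω} (e : X ≃* U) (hQX : Q ≤ X) (eQ : Q ≃* Q₁)
    (heQ : ∀ x : Q, ((eQ x : Q₁) : Ω) = e ⟨x, hQX x.2⟩) (z : X) (κ : MulAut Q)
    (hz : ∀ x : Q, (z : Ω) * x * (z : Ω)⁻¹ = κ x) (x : Q) :
    ((e z : U) : Ω) * (eQ x : Ω) * ((e z : U) : Ω)⁻¹ = eQ (κ x) := by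
  have h1 : z * ⟨x, hQX x.2⟩ * z⁻¹ = (⟨κ x, hQX (κ x).2⟩ : X) := Subtype.ext (hz x)
  have h2 : e z * e ⟨x, hQX x.2⟩ * (e z)⁻¹ = e ⟨κ x, hQX (κ x).2⟩ := by
    rw [← h1, map_mul, map_mul, map_inv]
  have h3 := congrArg Subtype.val h2
  rw [heQ x, heQ (κ x)]
  exact h3

theorem mem_normalizerHom_iff' {F : FusionSystem S} {Q P : Subgroup Ω} {φ : P →* Ω} :
    φ ∈ F.normalizerHom Q P ↔ (φ ∈ F.Hom P ∧ P ≤ normalizerIn S Q ∧
      (∀ x : P, φ x ∈ normalizerIn S Q) ∧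
      ∃ ψ ∈ F.Hom (P ⊔ Q), (∀ x : P, ψ (Subgroup.inclusion le_sup_left x) = φ x) ∧
        (Q.subgroupOf (P ⊔ Q)).map ψ = Q) := Iff.rfl

theorem mem_centralizerHom_iff' {F : FusionSystem S} {Q P : Subgroup Ω} {φ : P →* Ω} :
    φ ∈ F.centralizerHom Q P ↔ (φ ∈ F.Hom P ∧ P ≤ centralizerIn S Q ∧
      (∀ x : P, φ x ∈ centralizerIn S Q) ∧
      ∃ ψ ∈ F.Hom (P ⊔ Q), (∀ x : P, ψ (Subgroup.inclusion le_sup_left x) = φ x) ∧
        ∀ x : Q, ψ (Subgroup.inclusion le_sup_right x) = x) := Iff.rfl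

end Cfsg.Agent.Helper26
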