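import Cfsg.Agent.Helper26.KNorm1

set_option autoImplicit false

namespace Cfsg.Agent.Helper26

open Cfsg Cfsg.FusionSystem

variable {Ω : Type*} [Group Ω] {S : Subgroup Ω}

/-- `E` (over `N`) is the `K`-normalizer system of `Q` in `F`, and `Q` is "fully
`K`-normalized" (expressed through the extension property `hρ`). -/
structure IsKNormalizer (F : FusionSystem S) (Q : Subgroup Ω) (K : Subgroup (MulAut Q))
    (N : Subgroup Ω) (E : FusionSystem N) : Prop where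
  hQS : Q ≤ S
  hN : ∀ g : Ω, g ∈ N ↔ (g ∈ S ∧ ∃ κ ∈ K, ∀ x : Q, g * (x : Ω) * g⁻¹ = κ x)
  hHom : ∀ (P : Subgroup Ω) (φ : P →* Ω), φ ∈ E.Hom P ↔ (φ ∈ F.Hom P ∧ P ≤ N ∧
    (∀ x : P, φ x ∈ N) ∧ ∃ ψ ∈ F.Hom (P ⊔ Q),
      (∀ x : P, ψ (Subgroup.inclusion le_sup_left x) = φ x) ∧
      ∃ κ ∈ K, ∀ x : Q, ψ (Subgroup.inclusion le_sup_right x) = κ x)
  hρ : ∀ (Q₁ : Subgroup Ω) (e : Q ≃* Q₁), Q₁.subtype.comp e.toMonoidHom ∈ F.Hom Q →
    ∀ L : Subgroup Ω, L ≤ S →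
      (∀ h ∈ L, ∃ κ ∈ K, ∀ x : Q, h * (e x : Ω) * h⁻¹ = e (κ x)) →
      ∃ ρ ∈ F.Hom (L ⊔ Q₁), ∃ κ ∈ K, ∀ x : Q,
        ρ (Subgroup.inclusion le_sup_right (e x)) = κ x

namespace IsKNormalizer

variable {F : FusionSystem S} {Q : Subgroup Ω} {K : Subgroup (MulAut Q)} {N : Subgroup Ω}
  {E : FusionSystem N}

theorem le (H : IsKNormalizer F Q K N E) : N ≤ S := fun g hg => ((H.hN g).1 hg).1

theorem le_normalizer [Finite S] (H : IsKNormalizer F Q K N E) :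
    N ≤ Subgroup.normalizer (Q : Set Ω) := by
  intro g hg
  obtain ⟨-, κ, -, hκ⟩ := (H.hN g).1 hg
  have : Finite Q := finite_of_le H.hQS
  apply mem_normalizer_of_forall_conj_mem
  intro x hx
  have h1 : g * x * g⁻¹ = (κ ⟨x, hx⟩ : Ω) := hκ ⟨x, hx⟩
  rw [h1]; exact (κ _).2

theorem normalizerIn_le_normalizer_sup [Finite S] (H : IsKNormalizer F Q K N E)
    (P : Subgroup Ω) :
    normalizerIn N P ≤ Subgroup.normalizer ((P ⊔ Q : Subgroup Ω) : Set Ω) := by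
  intro g hg
  obtain ⟨hgN, hgP⟩ := Subgroup.mem_inf.1 hg
  exact mem_normalizer_sup' hgP (H.le_normalizer hgN)

theorem autInducedBy_le_stabK (H : IsKNormalizer F Q K N E) {P : Subgroup Ω}
    (hPN : P ≤ N) :
    autInducedBy (normalizerIn N P) (P ⊔ Q) ≤ stabK F P Q K := by
  intro α hα
  obtain ⟨g, hg, h⟩ := mem_autInducedBy_iff.1 hα
  obtain ⟨hgN, hgP⟩ := Subgroup.mem_inf.1 hg
  have hXS : P ⊔ Q ≤ S := sup_le (hPN.trans H.le) H.hQS
  obtain ⟨-, κ, hκ, hκ'⟩ := (H.hN g).1 hgN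
  refine mem_stabK.2 ⟨?_, fun x => ?_, κ, hκ, fun x => ?_⟩
  · exact autInducedBy_le_autGroup F hXS (mem_autInducedBy_iff.2 ⟨g, H.le hgN, h⟩)
  · rw [h x]
    exact Subgroup.mem_normalizer_iff.1 hgP (x : Ω)
  · exact (h (Subgroup.inclusion le_sup_right x)).trans (hκ' x)

theorem isPGroup_AS {p : ℕ} (hS : IsPGroup p S) (H : IsKNormalizer F Q K N E)
    (P : Subgroup Ω) : IsPGroup p (autInducedBy (normalizerIn N P) (P ⊔ Q)) :=
  isPGroup_autInducedBy (hS.to_le ((normalizerIn_le N P).trans H.le)) (P ⊔ Q)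

theorem resHom_mem_autGroup (H : IsKNormalizer F Q K N E) {P : Subgroup Ω} (hPN : P ≤ N)
    (β : ↥(stabK F P Q K)) : resHom F P Q K β ∈ E.autGroup P := by
  have hXS : P ⊔ Q ≤ S := sup_le (hPN.trans H.le) H.hQS
  obtain ⟨hβF, hβP, κ, hκ, hκ'⟩ := mem_stabK.1 β.2
  have hψ : (P ⊔ Q).subtype.comp (β : MulAut ↥(P ⊔ Q)).toMonoidHom ∈ F.Hom (P ⊔ Q) :=
    (mem_autGroup_iff F hXS).1 hβF
  rw [mem_autGroup_iff E hPN]
  exact (H.hHom P _).2 ⟨restrict_mem F hψ le_sup_left (fun x => rfl), hPN,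
    fun x => hPN (resHom F P Q K β x).2, _, hψ, fun x => rfl, κ, hκ, hκ'⟩

theorem exists_stabK_of_autGroup [Finite S] (H : IsKNormalizer F Q K N E) {P : Subgroup Ω}
    (hPN : P ≤ N) {α : MulAut P} (hα : α ∈ E.autGroup P) :
    ∃ β : ↥(stabK F P Q K), resHom F P Q K β = α := by
  have hPS : P ≤ S := hPN.trans H.le
  have hXS : P ⊔ Q ≤ S := sup_le hPS H.hQS
  have : Finite P := finite_of_le hPS
  obtain ⟨-, -, -, ψ, hψ, hψP, κ, hκ, hψQ⟩ :=
    (H.hHom P _).1 ((mem_autGroup_iff E hPN).1 hα)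
  have hψX : ∀ y : ↥(P ⊔ Q), ψ y ∈ P ⊔ Q :=
    forall_sup_mem ψ
      (fun a ha => (le_sup_left : P ≤ P ⊔ Q) (by
        have h1 : ψ ⟨a, (le_sup_left : P ≤ P ⊔ Q) ha⟩ = (α ⟨a, ha⟩ : Ω) := hψP ⟨a, ha⟩
        rw [h1]; exact (α _).2))
      (fun b hb => (le_sup_right : Q ≤ P ⊔ Q) (by
        have h1 : ψ ⟨b, (le_sup_right : Q ≤ P ⊔ Q) hb⟩ = (κ ⟨b, hb⟩ : Ω) := hψQ ⟨b, hb⟩
        rw [h1]; exact (κ _).2))
  have hr : ψ.range = P ⊔ Q := Helper27.range_eq_of_maps_self F hψ hψX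
  obtain ⟨β, hβdef⟩ : ∃ β : MulAut ↥(P ⊔ Q),
      β = isoOfInj ψ (F.injective_of_mem hψ) hr := ⟨_, rfl⟩
  have hβa : ∀ y : ↥(P ⊔ Q), ((β y : ↥(P ⊔ Q)) : Ω) = ψ y := by
    intro y; subst hβdef; rfl
  have hβ : β ∈ stabK F P Q K := by
    refine mem_stabK.2 ⟨(mem_autGroup_iff F hXS).2 (mem_of_eq F hψ (fun y => hβa y)), ?_,
      κ, hκ, fun x => ?_⟩
    · refine stab_iff_of_forall β (fun x hx => ?_) le_sup_left
      have h1 : x = Subgroup.inclusion le_sup_left (⟨x, hx⟩ : P) := Subtype.ext rfl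
      have h2 : ((β x : ↥(P ⊔ Q)) : Ω) = (α ⟨x, hx⟩ : Ω) :=
        (hβa x).trans ((congrArg ψ h1).trans (hψP ⟨x, hx⟩))
      rw [h2]; exact (α _).2
    · exact (hβa _).trans (hψQ x)
  refine ⟨⟨β, hβ⟩, ?_⟩
  apply MulEquiv.ext
  intro x
  apply Subtype.ext
  exact (resHom_apply F P Q K ⟨β, hβ⟩ x).trans ((hβa _).trans (hψP x))

theorem core [Finite S] (p : ℕ) [Fact p.Prime] (hS : IsPGroup p S) (hF : F.IsSaturated p)
    (H : IsKNormalizer F Q K N E) {P : Subgroup Ω} (hP : E.IsFullyNormalized P)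
    {R : Subgroup (MulAut ↥(P ⊔ Q))} (hRp : IsPGroup p R) (hR : R ≤ stabK F P Q K) :
    ∃ c : ℕ, 0 < c ∧
      Nat.card R * c ≤ Nat.card (autInducedBy (normalizerIn N P) (P ⊔ Q)) *
        Nat.card (centralizerIn S (P ⊔ Q)) ∧
      ∀ X' : Subgroup Ω, F.IsConj (P ⊔ Q) X' → Nat.card (centralizerIn S X') ≤ c := by
  have hPN : P ≤ N := hP.1
  have hNS : N ≤ S := H.le
  have hQS : Q ≤ S := H.hQS
  have hPS : P ≤ S := hPN.trans hNS
  have hXS : P ⊔ Q ≤ S := sup_le hPS hQS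
  have hfinX : Finite ↥(P ⊔ Q) := finite_of_le hXS
  have hfinQ : Finite Q := finite_of_le hQS
  have hfinP : Finite P := finite_of_le hPS
  obtain ⟨U, e, he, hUa, hUr, hRS⟩ := exists_iso_autS p hS F hF hXS hRp
    (hR.trans (fun β hβ => (mem_stabK.1 hβ).1))
  have hUS : U ≤ S := hUa.1
  have hfinU : Finite U := finite_of_le hUS
  obtain ⟨Q₁, hQ₁⟩ : ∃ Q₁ : Subgroup Ω,
      (Q.subgroupOf (P ⊔ Q)).map (U.subtype.comp e.toMonoidHom) = Q₁ := ⟨_, rfl⟩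
  obtain ⟨P₁, hP₁⟩ : ∃ P₁ : Subgroup Ω,
      (P.subgroupOf (P ⊔ Q)).map (U.subtype.comp e.toMonoidHom) = P₁ := ⟨_, rfl⟩
  obtain ⟨eQ, heQ, heQa⟩ := exists_restrict_iso F e he le_sup_right hQ₁
  obtain ⟨eP, -, hePa⟩ := exists_restrict_iso F e he le_sup_left hP₁
  have hP₁mem : ∀ a : P, ((e (Subgroup.inclusion le_sup_left a) : U) : Ω) ∈ P₁ := by
    intro a
    have h : ((eP a : P₁) : Ω) ∈ P₁ := (eP a).2
    rw [hePa a] at h
    exact h
  have hQ₁mem : ∀ b : Q, ((e (Subgroup.inclusion le_sup_right b) : U) : Ω) ∈ Q₁ := by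
    intro b
    have h : ((eQ b : Q₁) : Ω) ∈ Q₁ := (eQ b).2
    rw [heQa b] at h
    exact h
  have hP₁U : P₁ ≤ U := by
    rw [← hP₁]; rintro _ ⟨x, -, rfl⟩; exact (e x).2
  have hQ₁U : Q₁ ≤ U := by
    rw [← hQ₁]; rintro _ ⟨x, -, rfl⟩; exact (e x).2
  have hfinP₁ : Finite P₁ := finite_of_le (hP₁U.trans hUS)
  have hfinQ₁ : Finite Q₁ := finite_of_le (hQ₁U.trans hUS)
  obtain ⟨L', hL'⟩ : ∃ L' : Subgroup Ω, L' = kNormIn S K eQ := ⟨_, rfl⟩
  have hL'S : L' ≤ S := by rw [hL']; exact fun _ h => h.1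
  have hL'mem : ∀ h : Ω, h ∈ L' ↔
      (h ∈ S ∧ ∃ κ ∈ K, ∀ x : Q, h * (eQ x : Ω) * h⁻¹ = eQ (κ x)) := by
    intro h; subst hL'; exact mem_kNormIn
  obtain ⟨ρ, hρ, κ, hκ, hρκ⟩ :=
    H.hρ Q₁ eQ heQ L' hL'S (fun h hh => ((hL'mem h).1 hh).2)
  have hPL' : ∀ a : P, ((e (Subgroup.inclusion le_sup_left a) : U) : Ω) ∈ L' := by
    intro a
    obtain ⟨-, κa, hκa, hκa'⟩ := (H.hN a).1 (hPN a.2)
    refine (hL'mem _).2 ⟨hUS (e _).2, κa, hκa, fun x => ?_⟩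
    exact conj_restrict_iso e le_sup_right eQ heQa (Subgroup.inclusion le_sup_left a) κa hκa' x
  have heX : ∀ y : ↥(P ⊔ Q), (U.subtype.comp e.toMonoidHom) y ∈ L' ⊔ Q₁ :=
    forall_sup_mem (U.subtype.comp e.toMonoidHom)
      (fun a ha => (le_sup_left : L' ≤ L' ⊔ Q₁) (hPL' ⟨a, ha⟩))
      (fun b hb => (le_sup_right : Q₁ ≤ L' ⊔ Q₁) (hQ₁mem ⟨b, hb⟩))
  obtain ⟨ψ₂, hψ₂def⟩ : ∃ ψ₂ : ↥(P ⊔ Q) →* Ω,
      ψ₂ = ρ.comp ((U.subtype.comp e.toMonoidHom).codRestrict (L' ⊔ Q₁) heX) := ⟨_, rfl⟩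
  have hψ₂ : ψ₂ ∈ F.Hom (P ⊔ Q) := by rw [hψ₂def]; exact F.comp_mem he hρ heX
  have hψ₂a : ∀ y : ↥(P ⊔ Q), ψ₂ y = ρ ⟨((e y : U) : Ω), heX y⟩ := by
    intro y; subst hψ₂def; rfl
  have hψ₂Q : ∀ b : Q, ψ₂ (Subgroup.inclusion le_sup_right b) = κ b := by
    intro b
    have h1 : (⟨((e (Subgroup.inclusion le_sup_right b) : U) : Ω),
        heX (Subgroup.inclusion le_sup_right b)⟩ : ↥(L' ⊔ Q₁)) =
        Subgroup.inclusion le_sup_right (eQ b) := Subtype.ext (heQa b).symm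
    exact (hψ₂a _).trans ((congrArg ρ h1).trans (hρκ b))
  obtain ⟨φ₂, hφ₂def⟩ : ∃ φ₂ : P →* Ω, φ₂ = ψ₂.comp (Subgroup.inclusion le_sup_left) :=
    ⟨_, rfl⟩
  have hφ₂F : φ₂ ∈ F.Hom P := by
    rw [hφ₂def]; exact restrict_mem F hψ₂ le_sup_left (fun x => rfl)
  have hφ₂a : ∀ a : P, φ₂ a = ρ ⟨((e (Subgroup.inclusion le_sup_left a) : U) : Ω),
      heX (Subgroup.inclusion le_sup_left a)⟩ := by
    intro a; subst hφ₂def; exact hψ₂a _
  have hρN : ∀ (h : Ω) (hh : h ∈ L'), ρ ⟨h, (le_sup_left : L' ≤ L' ⊔ Q₁) hh⟩ ∈ N := by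
    intro h hh
    obtain ⟨-, κh, hκh, hκh'⟩ := (hL'mem h).1 hh
    refine (H.hN _).2 ⟨(F.le_of_mem hρ).2 _, κ * κh * κ⁻¹,
      mul_mem (mul_mem hκ hκh) (inv_mem hκ), fun x => ?_⟩
    have h1 : ρ (Subgroup.inclusion le_sup_right (eQ (κ⁻¹ x))) = x :=
      (hρκ (κ⁻¹ x)).trans (congrArg Subtype.val (MulAut.apply_inv_self _ κ x))
    have h2 : (⟨h, (le_sup_left : L' ≤ L' ⊔ Q₁) hh⟩ : ↥(L' ⊔ Q₁)) *
        Subgroup.inclusion le_sup_right (eQ (κ⁻¹ x)) *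
        (⟨h, (le_sup_left : L' ≤ L' ⊔ Q₁) hh⟩ : ↥(L' ⊔ Q₁))⁻¹ =
        Subgroup.inclusion le_sup_right (eQ (κh (κ⁻¹ x))) :=
      Subtype.ext (hκh' (κ⁻¹ x))
    have h3 := congrArg ρ h2
    rw [map_mul, map_mul, map_inv, h1, hρκ] at h3
    exact h3
  have hφ₂E : φ₂ ∈ E.Hom P := by
    refine (H.hHom P φ₂).2 ⟨hφ₂F, hPN, fun a => ?_, ψ₂, hψ₂, fun a => ?_, κ, hκ, hψ₂Q⟩
    · rw [hφ₂a]; exact hρN _ (hPL' a)
    · subst hφ₂def; rfl
  have hRS' : φ₂.range ≤ S := by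
    rintro _ ⟨x, rfl⟩; exact (F.le_of_mem hφ₂F).2 x
  have hfinR : Finite ↥φ₂.range := finite_of_le hRS'
  obtain ⟨L, hLdef⟩ : ∃ L : Subgroup Ω, L = L' ⊓ Subgroup.normalizer (P₁ : Set Ω) :=
    ⟨_, rfl⟩
  have hLL' : L ≤ L' := by rw [hLdef]; exact inf_le_left
  have hLP₁ : L ≤ Subgroup.normalizer (P₁ : Set Ω) := by rw [hLdef]; exact inf_le_right
  have hLS : L ≤ S := hLL'.trans hL'S
  have hfinL : Finite L := finite_of_le hLS
  have hρL : ∀ (h : Ω) (hh : h ∈ L),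
      ρ ⟨h, (le_sup_left : L' ≤ L' ⊔ Q₁) (hLL' hh)⟩ ∈ normalizerIn N φ₂.range := by
    intro h hh
    refine Subgroup.mem_inf.2 ⟨hρN h (hLL' hh), mem_normalizer_of_forall_conj_mem ?_⟩
    rintro _ ⟨a, rfl⟩
    have h1 : h * ((e (Subgroup.inclusion le_sup_left a) : U) : Ω) * h⁻¹ ∈ P₁ :=
      (Subgroup.mem_normalizer_iff.1 (hLP₁ hh) _).1 (hP₁mem a)
    have h2 := hePa (eP.symm ⟨_, h1⟩)
    rw [MulEquiv.apply_symm_apply] at h2
    refine ⟨eP.symm ⟨_, h1⟩, ?_⟩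
    have h3 : (⟨((e (Subgroup.inclusion le_sup_left (eP.symm ⟨_, h1⟩)) : U) : Ω),
        heX (Subgroup.inclusion le_sup_left (eP.symm ⟨_, h1⟩))⟩ : ↥(L' ⊔ Q₁)) =
        ⟨h, (le_sup_left : L' ≤ L' ⊔ Q₁) (hLL' hh)⟩ *
          ⟨((e (Subgroup.inclusion le_sup_left a) : U) : Ω),
            heX (Subgroup.inclusion le_sup_left a)⟩ *
          (⟨h, (le_sup_left : L' ≤ L' ⊔ Q₁) (hLL' hh)⟩ : ↥(L' ⊔ Q₁))⁻¹ :=
      Subtype.ext h2.symm
    have h4 := congrArg ρ h3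
    rw [map_mul, map_mul, map_inv] at h4
    exact (hφ₂a _).trans (h4.trans (by rw [hφ₂a a]))
  have hfinNR : Finite ↥(normalizerIn N φ₂.range) :=
    finite_of_le ((normalizerIn_le N _).trans hNS)
  have hcard1 : Nat.card L ≤ Nat.card (normalizerIn N φ₂.range) := by
    refine Nat.card_le_card_of_injective
      (fun h : L => (⟨ρ ⟨h, (le_sup_left : L' ≤ L' ⊔ Q₁) (hLL' h.2)⟩, hρL h h.2⟩ :
        ↥(normalizerIn N φ₂.range))) ?_
    intro a b hab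
    have h1 : ρ ⟨a, (le_sup_left : L' ≤ L' ⊔ Q₁) (hLL' a.2)⟩ =
        ρ ⟨b, (le_sup_left : L' ≤ L' ⊔ Q₁) (hLL' b.2)⟩ :=
      congrArg (fun z : ↥(normalizerIn N φ₂.range) => (z : Ω)) hab
    have h2 := F.injective_of_mem hρ h1
    exact Subtype.ext (congrArg (fun z : ↥(L' ⊔ Q₁) => (z : Ω)) h2)
  have hcard2 : Nat.card (normalizerIn N φ₂.range) ≤ Nat.card (normalizerIn N P) :=
    hP.2 _ ⟨φ₂, hφ₂E, rfl⟩
  have hLU : L ≤ Subgroup.normalizer (U : Set Ω) := by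
    intro h hh
    have hhQ₁ : h ∈ Subgroup.normalizer (Q₁ : Set Ω) := by
      have h0 : h ∈ kNormIn S K eQ := by rw [← hL']; exact hLL' hh
      exact kNormIn_le_normalizer h0
    have hhP₁ := hLP₁ hh
    have hall : ∀ y : ↥(P ⊔ Q),
        ((MulAut.conj h).toMonoidHom.comp (U.subtype.comp e.toMonoidHom)) y ∈ U :=
      forall_sup_mem ((MulAut.conj h).toMonoidHom.comp (U.subtype.comp e.toMonoidHom))
        (fun a ha => hP₁U ((Subgroup.mem_normalizer_iff.1 hhP₁ _).1 (hP₁mem ⟨a, ha⟩)))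
        (fun b hb => hQ₁U ((Subgroup.mem_normalizer_iff.1 hhQ₁ _).1 (hQ₁mem ⟨b, hb⟩)))
    apply mem_normalizer_of_forall_conj_mem
    intro u hu
    have h1 := hall (e.symm ⟨u, hu⟩)
    have h2 : ((MulAut.conj h).toMonoidHom.comp (U.subtype.comp e.toMonoidHom))
        (e.symm ⟨u, hu⟩) = h * u * h⁻¹ :=
      congrArg (fun z : U => h * (z : Ω) * h⁻¹) (e.apply_symm_apply ⟨u, hu⟩)
    rw [h2] at h1
    exact h1
  have hCle : centralizerIn S U ≤ L ⊓ Subgroup.centralizer (U : Set Ω) := by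
    intro c hc
    obtain ⟨hcS, hcU⟩ := Subgroup.mem_inf.1 hc
    refine Subgroup.mem_inf.2 ⟨?_, hcU⟩
    rw [hLdef]
    have hcc : ∀ u ∈ U, c * u * c⁻¹ = u := by
      intro u hu
      have h0 : u * c = c * u := Subgroup.mem_centralizer_iff.1 hcU u hu
      rw [← h0]; group
    refine Subgroup.mem_inf.2 ⟨(hL'mem c).2 ⟨hcS, 1, one_mem _, fun x => ?_⟩, ?_⟩
    · exact hcc _ (hQ₁U (eQ x).2)
    · apply mem_normalizer_of_forall_conj_mem
      intro y hy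
      rw [hcc y (hP₁U hy)]; exact hy
  have hRinj : Nat.card R ≤ Nat.card (autInducedBy L U) := by
    have hmem : ∀ ρ' : R, MulAut.congr e (ρ' : MulAut ↥(P ⊔ Q)) ∈ autInducedBy L U := by
      intro ρ'
      obtain ⟨h, hhS, hh⟩ := hRS (ρ' : MulAut ↥(P ⊔ Q)) ρ'.2
      obtain ⟨-, hρ'P, κ', hκ', hκ''⟩ := mem_stabK.1 (hR ρ'.2)
      have hhL : h ∈ L := by
        rw [hLdef]
        refine Subgroup.mem_inf.2 ⟨(hL'mem h).2 ⟨hhS, κ', hκ', fun x => ?_⟩, ?_⟩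
        · have h1 : (ρ' : MulAut ↥(P ⊔ Q)) (Subgroup.inclusion le_sup_right x) =
              Subgroup.inclusion le_sup_right (κ' x) := Subtype.ext (hκ'' x)
          have h2 := hh (Subgroup.inclusion le_sup_right x)
          rw [h1] at h2
          rw [heQa x, heQa (κ' x)]
          exact h2.symm
        · apply mem_normalizer_of_forall_conj_mem
          intro y hy
          have h3 := hePa (eP.symm ⟨y, hy⟩)
          rw [MulEquiv.apply_symm_apply] at h3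
          have h4 := hh (Subgroup.inclusion le_sup_left (eP.symm ⟨y, hy⟩))
          have h5 : (y : Ω) =
              ((e (Subgroup.inclusion le_sup_left (eP.symm ⟨y, hy⟩)) : U) : Ω) := h3
          have h6 : (((ρ' : MulAut ↥(P ⊔ Q))
              (Subgroup.inclusion le_sup_left (eP.symm ⟨y, hy⟩)) : ↥(P ⊔ Q)) : Ω) ∈ P :=
            (hρ'P (Subgroup.inclusion le_sup_left (eP.symm ⟨y, hy⟩))).1 (eP.symm ⟨y, hy⟩).2
          have h7 : (ρ' : MulAut ↥(P ⊔ Q))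
              (Subgroup.inclusion le_sup_left (eP.symm ⟨y, hy⟩)) =
              Subgroup.inclusion le_sup_left ⟨_, h6⟩ := Subtype.ext rfl
          rw [h7] at h4
          have h8 : h * y * h⁻¹ =
              ((e (Subgroup.inclusion le_sup_left (⟨_, h6⟩ : P)) : U) : Ω) := by
            rw [h4]
            exact congrArg (fun z : Ω => h * z * h⁻¹) h5
          rw [h8]; exact hP₁mem _
      refine mem_autInducedBy_iff.2 ⟨h, hhL, fun u => ?_⟩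
      have h8 := hh (e.symm u)
      rw [MulEquiv.apply_symm_apply] at h8
      exact h8
    refine Nat.card_le_card_of_injective
      (fun ρ' : R => (⟨MulAut.congr e (ρ' : MulAut ↥(P ⊔ Q)), hmem ρ'⟩ :
        ↥(autInducedBy L U))) ?_
    intro a b hab
    have h1 : MulAut.congr e (a : MulAut ↥(P ⊔ Q)) = MulAut.congr e (b : MulAut ↥(P ⊔ Q)) :=
      congrArg (fun z : ↥(autInducedBy L U) => (z : MulAut U)) hab
    exact Subtype.ext ((MulAut.congr e).injective h1)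
  have hcardL : Nat.card L = Nat.card (autInducedBy L U) *
      Nat.card ↥(L ⊓ Subgroup.centralizer (U : Set Ω)) :=
    card_eq_autInducedBy_mul hLU
  have : Finite ↥(L ⊓ Subgroup.centralizer (U : Set Ω)) :=
    finite_of_le (inf_le_left.trans hLS)
  have hcardC : Nat.card (centralizerIn S U) ≤
      Nat.card ↥(L ⊓ Subgroup.centralizer (U : Set Ω)) :=
    Subgroup.card_le_of_le hCle
  have hNPX : normalizerIn N P ≤ Subgroup.normalizer ((P ⊔ Q : Subgroup Ω) : Set Ω) :=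
    H.normalizerIn_le_normalizer_sup P
  have hfinNP : Finite ↥(normalizerIn N P) :=
    finite_of_le ((normalizerIn_le N P).trans hNS)
  have hcardN : Nat.card (normalizerIn N P) =
      Nat.card (autInducedBy (normalizerIn N P) (P ⊔ Q)) *
      Nat.card ↥(normalizerIn N P ⊓ Subgroup.centralizer ((P ⊔ Q : Subgroup Ω) : Set Ω)) :=
    card_eq_autInducedBy_mul hNPX
  have : Finite ↥(centralizerIn S (P ⊔ Q)) := finite_of_le (centralizerIn_le S _)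
  have hcardCX : Nat.card
      ↥(normalizerIn N P ⊓ Subgroup.centralizer ((P ⊔ Q : Subgroup Ω) : Set Ω)) ≤
      Nat.card (centralizerIn S (P ⊔ Q)) :=
    Subgroup.card_le_of_le (fun g hg => Subgroup.mem_inf.2
      ⟨hNS (normalizerIn_le N P (Subgroup.mem_inf.1 hg).1), (Subgroup.mem_inf.1 hg).2⟩)
  have : Finite ↥(centralizerIn S U) := finite_of_le (centralizerIn_le S _)
  refine ⟨Nat.card (centralizerIn S U), Nat.card_pos, ?_, fun X' hX' => ?_⟩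
  · calc Nat.card R * Nat.card (centralizerIn S U)
        ≤ Nat.card (autInducedBy L U) *
          Nat.card ↥(L ⊓ Subgroup.centralizer (U : Set Ω)) :=
          Nat.mul_le_mul hRinj hcardC
      _ = Nat.card L := hcardL.symm
      _ ≤ Nat.card (normalizerIn N φ₂.range) := hcard1
      _ ≤ Nat.card (normalizerIn N P) := hcard2
      _ = Nat.card (autInducedBy (normalizerIn N P) (P ⊔ Q)) *
          Nat.card ↥(normalizerIn N P ⊓
            Subgroup.centralizer ((P ⊔ Q : Subgroup Ω) : Set Ω)) := hcardN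
      _ ≤ Nat.card (autInducedBy (normalizerIn N P) (P ⊔ Q)) *
          Nat.card (centralizerIn S (P ⊔ Q)) := Nat.mul_le_mul_left _ hcardCX
  · have hUfc := fullyCentralized_of_receptive F hUr
    have h1 : F.IsConj U X' := isConj_trans F (isConj_symm F (isConj_of_iso F e he)) hX'
    exact hUfc.2 X' h1

theorem card_le [Finite S] (p : ℕ) [Fact p.Prime] (hS : IsPGroup p S) (hF : F.IsSaturated p)
    (H : IsKNormalizer F Q K N E) {P : Subgroup Ω} (hP : E.IsFullyNormalized P)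
    {R : Subgroup (MulAut ↥(P ⊔ Q))} (hRp : IsPGroup p R) (hR : R ≤ stabK F P Q K) :
    Nat.card R ≤ Nat.card (autInducedBy (normalizerIn N P) (P ⊔ Q)) := by
  obtain ⟨c, hc, h1, h2⟩ := H.core p hS hF hP hRp hR
  have hXS : P ⊔ Q ≤ S := sup_le (hP.1.trans H.le) H.hQS
  have h3 := h2 (P ⊔ Q) (isConj_refl F hXS)
  exact Nat.le_of_mul_le_mul_right (h1.trans (Nat.mul_le_mul_left _ h3)) hc

theorem fullyCentralized_sup [Finite S] (p : ℕ) [Fact p.Prime] (hS : IsPGroup p S)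
    (hF : F.IsSaturated p) (H : IsKNormalizer F Q K N E) {P : Subgroup Ω}
    (hP : E.IsFullyNormalized P) : F.IsFullyCentralized (P ⊔ Q) := by
  have hXS : P ⊔ Q ≤ S := sup_le (hP.1.trans H.le) H.hQS
  have : Finite ↥(P ⊔ Q) := finite_of_le hXS
  obtain ⟨c, hc, h1, h2⟩ :=
    H.core p hS hF hP (H.isPGroup_AS hS P) (H.autInducedBy_le_stabK hP.1)
  have hpos : 0 < Nat.card (autInducedBy (normalizerIn N P) (P ⊔ Q)) := Nat.card_pos
  have h3 : c ≤ Nat.card (centralizerIn S (P ⊔ Q)) := Nat.le_of_mul_le_mul_left h1 hpos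
  exact ⟨hXS, fun X' hX' => (h2 X' hX').trans h3⟩

theorem sylow_stabK [Finite S] (p : ℕ) [Fact p.Prime] (hS : IsPGroup p S)
    (hF : F.IsSaturated p) (H : IsKNormalizer F Q K N E) {P : Subgroup Ω}
    (hP : E.IsFullyNormalized P) :
    ∃ R : Sylow p ↥(stabK F P Q K), (R : Subgroup ↥(stabK F P Q K)) =
      (autInducedBy (normalizerIn N P) (P ⊔ Q)).subgroupOf (stabK F P Q K) := by
  have hXS : P ⊔ Q ≤ S := sup_le (hP.1.trans H.le) H.hQS
  have : Finite ↥(P ⊔ Q) := finite_of_le hXS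
  exact sylowIn_of_card_le (H.autInducedBy_le_stabK hP.1) (H.isPGroup_AS hS P)
    (fun R hRp _ hR => H.card_le p hS hF hP hRp hR)

theorem fullyAutomized [Finite S] (p : ℕ) [Fact p.Prime] (hS : IsPGroup p S)
    (hF : F.IsSaturated p) (H : IsKNormalizer F Q K N E) {P : Subgroup Ω}
    (hP : E.IsFullyNormalized P) : E.IsFullyAutomized p P := by
  have hPN : P ≤ N := hP.1
  have hPS : P ≤ S := hPN.trans H.le
  have hXS : P ⊔ Q ≤ S := sup_le hPS H.hQS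
  have : Finite ↥(P ⊔ Q) := finite_of_le hXS
  have : Finite P := finite_of_le hPS
  obtain ⟨R₀, hR₀⟩ := H.sylow_stabK p hS hF hP
  obtain ⟨f, hfdef⟩ : ∃ f : ↥(stabK F P Q K) →* ↥(E.autGroup P),
      f = (resHom F P Q K).codRestrict (E.autGroup P)
        (fun β => H.resHom_mem_autGroup hPN β) := ⟨_, rfl⟩
  have hfa : ∀ β, ((f β : ↥(E.autGroup P)) : MulAut P) = resHom F P Q K β := by
    intro β; subst hfdef; rfl
  have hfsurj : Function.Surjective f := by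
    intro α
    obtain ⟨β, hβ⟩ := H.exists_stabK_of_autGroup hPN α.2
    exact ⟨β, Subtype.ext ((hfa β).trans hβ)⟩
  refine ⟨hPN, R₀.mapSurjective hfsurj, ?_⟩
  rw [Sylow.coe_mapSurjective, hR₀]
  ext α
  rw [Subgroup.mem_map, Subgroup.mem_subgroupOf]
  constructor
  · rintro ⟨β, hβ, rfl⟩
    rw [Subgroup.mem_subgroupOf] at hβ
    obtain ⟨g, hg, h⟩ := mem_autInducedBy_iff.1 hβ
    rw [hfa]
    refine mem_autInducedBy_iff.2 ⟨g, (Subgroup.mem_inf.1 hg).1, fun x => ?_⟩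
    exact (resHom_apply F P Q K β x).trans (h _)
  · intro hα
    obtain ⟨g, hg, h⟩ := mem_autInducedBy_iff.1 hα
    have hgP : g ∈ Subgroup.normalizer (P : Set Ω) := by
      apply mem_normalizer_of_forall_conj_mem
      intro x hx
      have h2 : g * x * g⁻¹ = (((α : MulAut P) ⟨x, hx⟩ : P) : Ω) := (h ⟨x, hx⟩).symm
      rw [h2]; exact ((α : MulAut P) _).2
    have hgNP : g ∈ normalizerIn N P := Subgroup.mem_inf.2 ⟨hg, hgP⟩
    have hgX := H.normalizerIn_le_normalizer_sup P hgNP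
    have hβA : (P ⊔ Q).normalizerMonoidHom ⟨g, hgX⟩ ∈
        autInducedBy (normalizerIn N P) (P ⊔ Q) :=
      mem_autInducedBy_iff.2 ⟨g, hgNP, fun x => rfl⟩
    have hβ := H.autInducedBy_le_stabK hPN hβA
    refine ⟨⟨_, hβ⟩, Subgroup.mem_subgroupOf.2 hβA, ?_⟩
    apply Subtype.ext
    rw [hfa]
    apply MulEquiv.ext
    intro x
    apply Subtype.ext
    exact (resHom_apply F P Q K ⟨_, hβ⟩ x).trans (h x).symm

end IsKNormalizer

end Cfsg.Agent.Helper26
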