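import Cfsg.Agent.Helper26.KNorm2

set_option autoImplicit false

namespace Cfsg.Agent.Helper26

open Cfsg Cfsg.FusionSystem

variable {Ω : Type*} [Group Ω] {S : Subgroup Ω}

namespace IsKNormalizer

variable {F : FusionSystem S} {Q : Subgroup Ω} {K : Subgroup (MulAut Q)} {N : Subgroup Ω}
  {E : FusionSystem N}

theorem congr_mem_stabK [Finite S] (H : IsKNormalizer F Q K N E) {P P' : Subgroup Ω}
    (hPN : P ≤ N) {φ : P' →* Ω} (hP'N : P' ≤ N) (hrange : φ.range = P)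
    (ε : ↥(P' ⊔ Q) ≃* ↥(P ⊔ Q))
    (hε : (P ⊔ Q).subtype.comp ε.toMonoidHom ∈ F.Hom (P' ⊔ Q))
    (hεP : ∀ a : P', ((ε (Subgroup.inclusion le_sup_left a) : ↥(P ⊔ Q)) : Ω) = φ a)
    {κφ : MulAut Q} (hκφ : κφ ∈ K)
    (hεQ : ∀ x : Q, ((ε (Subgroup.inclusion le_sup_right x) : ↥(P ⊔ Q)) : Ω) = κφ x)
    {g : Ω} (hg : g ∈ extender N P' φ) {α : MulAut ↥(P' ⊔ Q)}
    (hα : ∀ y : ↥(P' ⊔ Q), ((α y : ↥(P' ⊔ Q)) : Ω) = g * y * g⁻¹) :
    MulAut.congr ε α ∈ stabK F P Q K ∧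
      ∃ h ∈ normalizerIn N P, ∀ x : P,
        (((MulAut.congr ε α) (Subgroup.inclusion le_sup_left x) : ↥(P ⊔ Q)) : Ω) =
          h * x * h⁻¹ := by
  have hNS : N ≤ S := H.le
  have hPS : P ≤ S := hPN.trans hNS
  have hX'S : P' ⊔ Q ≤ S := sup_le (hP'N.trans hNS) H.hQS
  have hfinP : Finite P := finite_of_le hPS
  obtain ⟨hgN, hgP', h, hhN, hh⟩ := mem_extender_iff.1 hg
  obtain ⟨-, κg, hκg, hκg'⟩ := (H.hN g).1 hgN
  have hφP : ∀ a' : P', φ a' ∈ P := fun a' => by rw [← hrange]; exact ⟨a', rfl⟩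
  have hP : ∀ x : P, ∃ a' : P',
      (((MulAut.congr ε α) (Subgroup.inclusion le_sup_left x) : ↥(P ⊔ Q)) : Ω) = φ a' ∧
        φ a' = h * x * h⁻¹ := by
    intro x
    have hx : (x : Ω) ∈ φ.range := by rw [hrange]; exact x.2
    obtain ⟨a, ha⟩ := hx
    have h1 : ε (Subgroup.inclusion le_sup_left a) = Subgroup.inclusion le_sup_left x :=
      Subtype.ext ((hεP a).trans ha)
    have h2 : ε.symm (Subgroup.inclusion le_sup_left x) = Subgroup.inclusion le_sup_left a :=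
      (congrArg ε.symm h1).symm.trans (ε.symm_apply_apply _)
    have h3 : g * (a : Ω) * g⁻¹ ∈ P' := (Subgroup.mem_normalizer_iff.1 hgP' _).1 a.2
    have h4 : α (Subgroup.inclusion le_sup_left a) =
        Subgroup.inclusion le_sup_left ⟨_, h3⟩ :=
      Subtype.ext (hα (Subgroup.inclusion le_sup_left a))
    have h5 : (MulAut.congr ε α) (Subgroup.inclusion le_sup_left x) =
        ε (Subgroup.inclusion le_sup_left ⟨_, h3⟩) := by
      show ε (α (ε.symm (Subgroup.inclusion le_sup_left x))) = _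
      rw [h2, h4]
    refine ⟨⟨_, h3⟩, ?_, ?_⟩
    · rw [h5]; exact hεP _
    · rw [hh a h3, ha]
  have hP1 : ∀ x : P,
      (((MulAut.congr ε α) (Subgroup.inclusion le_sup_left x) : ↥(P ⊔ Q)) : Ω) =
        h * x * h⁻¹ := by
    intro x; obtain ⟨a', h1, h2⟩ := hP x; exact h1.trans h2
  have hP2 : ∀ x : P,
      (((MulAut.congr ε α) (Subgroup.inclusion le_sup_left x) : ↥(P ⊔ Q)) : Ω) ∈ P := by
    intro x; obtain ⟨a', h1, h2⟩ := hP x; rw [h1]; exact hφP a'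
  have hhP : h ∈ Subgroup.normalizer (P : Set Ω) := by
    apply mem_normalizer_of_forall_conj_mem
    intro y hy
    have h1 := hP1 ⟨y, hy⟩
    have h2 := hP2 ⟨y, hy⟩
    rw [h1] at h2
    exact h2
  have hαF : α ∈ F.autGroup (P' ⊔ Q) :=
    autInducedBy_le_autGroup F hX'S (mem_autInducedBy_iff.2 ⟨g, hNS hgN, hα⟩)
  refine ⟨mem_stabK.2 ⟨congr_mem_autGroup F ε hε hαF, ?_, κφ * κg * κφ⁻¹,
    mul_mem (mul_mem hκφ hκg) (inv_mem hκφ), fun x => ?_⟩, h,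
    Subgroup.mem_inf.2 ⟨hhN, hhP⟩, hP1⟩
  · refine stab_iff_of_forall _ (fun u hu => ?_) le_sup_left
    have h1 : u = Subgroup.inclusion le_sup_left (⟨u, hu⟩ : P) := Subtype.ext rfl
    have h2 := hP2 ⟨u, hu⟩
    rw [← h1] at h2
    exact h2
  · have h1 : ε (Subgroup.inclusion le_sup_right (κφ⁻¹ x)) =
        Subgroup.inclusion le_sup_right x :=
      Subtype.ext ((hεQ (κφ⁻¹ x)).trans
        (congrArg Subtype.val (MulAut.apply_inv_self _ κφ x)))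
    have h2 : ε.symm (Subgroup.inclusion le_sup_right x) =
        Subgroup.inclusion le_sup_right (κφ⁻¹ x) :=
      (congrArg ε.symm h1).symm.trans (ε.symm_apply_apply _)
    have h4 : α (Subgroup.inclusion le_sup_right (κφ⁻¹ x)) =
        Subgroup.inclusion le_sup_right (κg (κφ⁻¹ x)) :=
      Subtype.ext ((hα (Subgroup.inclusion le_sup_right (κφ⁻¹ x))).trans (hκg' (κφ⁻¹ x)))
    have h5 : (MulAut.congr ε α) (Subgroup.inclusion le_sup_right x) =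
        ε (Subgroup.inclusion le_sup_right (κg (κφ⁻¹ x))) := by
      show ε (α (ε.symm (Subgroup.inclusion le_sup_right x))) = _
      rw [h2, h4]
    rw [h5]; exact hεQ (κg (κφ⁻¹ x))

theorem receptive [Finite S] (p : ℕ) [Fact p.Prime] (hS : IsPGroup p S)
    (hF : F.IsSaturated p) (H : IsKNormalizer F Q K N E) {P : Subgroup Ω}
    (hP : E.IsFullyNormalized P) : E.IsReceptive P := by
  have hPN : P ≤ N := hP.1
  have hNS : N ≤ S := H.le
  have hQS : Q ≤ S := H.hQS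
  have hPS : P ≤ S := hPN.trans hNS
  have hXS : P ⊔ Q ≤ S := sup_le hPS hQS
  have hfinX : Finite ↥(P ⊔ Q) := finite_of_le hXS
  have hfinP : Finite P := finite_of_le hPS
  have hfinQ : Finite Q := finite_of_le hQS
  have hXrec : F.IsReceptive (P ⊔ Q) :=
    receptive_of_fullyCentralized p hS F hF (H.fullyCentralized_sup p hS hF hP)
  obtain ⟨R₀, hR₀⟩ := H.sylow_stabK p hS hF hP
  refine ⟨hPN, fun P' φ hφ hrange => ?_⟩
  obtain ⟨hφF, hP'N, hφN, ψ₀, hψ₀, hψ₀P, κφ, hκφ, hψ₀Q⟩ := (H.hHom P' φ).1 hφ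
  have hP'S : P' ≤ S := hP'N.trans hNS
  have hX'S : P' ⊔ Q ≤ S := sup_le hP'S hQS
  have hφP : ∀ a : P', φ a ∈ P := fun a => by rw [← hrange]; exact ⟨a, rfl⟩
  have hψ₀X : ∀ y : ↥(P' ⊔ Q), ψ₀ y ∈ P ⊔ Q :=
    forall_sup_mem ψ₀
      (fun a ha => (le_sup_left : P ≤ P ⊔ Q) (by
        have h1 : ψ₀ ⟨a, (le_sup_left : P' ≤ P' ⊔ Q) ha⟩ = φ ⟨a, ha⟩ := hψ₀P ⟨a, ha⟩
        rw [h1]; exact hφP _))
      (fun b hb => (le_sup_right : Q ≤ P ⊔ Q) (by
        have h1 : ψ₀ ⟨b, (le_sup_right : Q ≤ P' ⊔ Q) hb⟩ = (κφ ⟨b, hb⟩ : Ω) := hψ₀Q ⟨b, hb⟩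
        rw [h1]; exact (κφ _).2))
  have hψ₀r : ψ₀.range = P ⊔ Q := by
    apply le_antisymm
    · rintro _ ⟨y, rfl⟩; exact hψ₀X y
    · apply sup_le
      · intro y hy
        rw [← hrange] at hy
        obtain ⟨a, rfl⟩ := hy
        exact ⟨Subgroup.inclusion le_sup_left a, hψ₀P a⟩
      · intro y hy
        exact ⟨Subgroup.inclusion le_sup_right (κφ⁻¹ ⟨y, hy⟩),
          (hψ₀Q (κφ⁻¹ ⟨y, hy⟩)).trans
            (congrArg Subtype.val (MulAut.apply_inv_self _ κφ ⟨y, hy⟩))⟩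
  obtain ⟨ε, hεdef⟩ : ∃ ε : ↥(P' ⊔ Q) ≃* ↥(P ⊔ Q),
      ε = isoOfInj ψ₀ (F.injective_of_mem hψ₀) hψ₀r := ⟨_, rfl⟩
  have hεa : ∀ y, ((ε y : ↥(P ⊔ Q)) : Ω) = ψ₀ y := by intro y; subst hεdef; rfl
  have hε : (P ⊔ Q).subtype.comp ε.toMonoidHom ∈ F.Hom (P' ⊔ Q) :=
    mem_of_eq F hψ₀ (fun y => hεa y)
  have hεP : ∀ a : P', ((ε (Subgroup.inclusion le_sup_left a) : ↥(P ⊔ Q)) : Ω) = φ a :=
    fun a => (hεa _).trans (hψ₀P a)
  have hεQ : ∀ x : Q, ((ε (Subgroup.inclusion le_sup_right x) : ↥(P ⊔ Q)) : Ω) = κφ x :=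
    fun x => (hεa _).trans (hψ₀Q x)
  obtain ⟨M, hMdef⟩ : ∃ M : Subgroup Ω, M = extender N P' φ := ⟨_, rfl⟩
  have hMN : M ≤ N := by
    rw [hMdef]; exact (extender_le_normalizerIn N P' φ).trans (normalizerIn_le N P')
  have hMS : M ≤ S := hMN.trans hNS
  have hMX' : M ≤ Subgroup.normalizer ((P' ⊔ Q : Subgroup Ω) : Set Ω) := by
    intro g hg
    rw [hMdef] at hg
    exact mem_normalizer_sup' (mem_extender_iff.1 hg).2.1
      (H.le_normalizer ((mem_extender_iff.1 hg).1))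
  have hMp : IsPGroup p M := hS.to_le hMS
  obtain ⟨B, hBdef⟩ : ∃ B : Subgroup (MulAut ↥(P ⊔ Q)),
      B = (autInducedBy M (P' ⊔ Q)).map (MulAut.congr ε).toMonoidHom := ⟨_, rfl⟩
  have hBp : IsPGroup p B := by
    rw [hBdef]; exact (isPGroup_autInducedBy hMp (P' ⊔ Q)).map _
  have hBkey : ∀ b ∈ B, b ∈ stabK F P Q K ∧ ∃ h ∈ normalizerIn N P, ∀ x : P,
      ((b (Subgroup.inclusion le_sup_left x) : ↥(P ⊔ Q)) : Ω) = h * x * h⁻¹ := by
    intro b hb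
    rw [hBdef] at hb
    obtain ⟨α, hα, rfl⟩ := hb
    obtain ⟨g, hg, hα'⟩ := mem_autInducedBy_iff.1 hα
    exact H.congr_mem_stabK hPN hP'N hrange ε hε hεP hκφ hεQ
      (by rw [← hMdef]; exact hg) hα'
  have hBle : B ≤ stabK F P Q K := fun b hb => (hBkey b hb).1
  have hB'p : IsPGroup p ↥(B.subgroupOf (stabK F P Q K)) := hBp.comap_subtype
  have hhyp : ∀ x ∈ B.subgroupOf (stabK F P Q K),
      (1 : ↥(stabK F P Q K)) * x * (1 : ↥(stabK F P Q K))⁻¹ ∈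
        (R₀ : Subgroup ↥(stabK F P Q K)) ⊔ (resHom F P Q K).ker := by
    intro x hx
    rw [Subgroup.mem_subgroupOf] at hx
    obtain ⟨-, h, hh, hx'⟩ := hBkey _ hx
    have hhX := H.normalizerIn_le_normalizer_sup P hh
    have haA : (P ⊔ Q).normalizerMonoidHom ⟨h, hhX⟩ ∈
        autInducedBy (normalizerIn N P) (P ⊔ Q) :=
      mem_autInducedBy_iff.2 ⟨h, hh, fun y => rfl⟩
    have haK := H.autInducedBy_le_stabK hPN haA
    have haR : (⟨_, haK⟩ : ↥(stabK F P Q K)) ∈ (R₀ : Subgroup ↥(stabK F P Q K)) := by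
      rw [hR₀]; exact Subgroup.mem_subgroupOf.2 haA
    have hker : (⟨_, haK⟩ : ↥(stabK F P Q K))⁻¹ * x ∈ (resHom F P Q K).ker := by
      rw [MonoidHom.mem_ker, map_mul, map_inv, inv_mul_eq_one]
      apply MulEquiv.ext
      intro y
      apply Subtype.ext
      exact ((resHom_apply F P Q K ⟨_, haK⟩ y).trans (hx' y).symm).trans
        (resHom_apply F P Q K x y).symm
    have hx2 : (1 : ↥(stabK F P Q K)) * x * (1 : ↥(stabK F P Q K))⁻¹ =
        ⟨_, haK⟩ * ((⟨_, haK⟩ : ↥(stabK F P Q K))⁻¹ * x) := by group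
    rw [hx2]
    exact Subgroup.mul_mem_sup haR hker
  obtain ⟨n, hn, hnB⟩ := exists_conj_into_sylow_mod (resHom F P Q K).ker R₀ hB'p 1 hhyp
  obtain ⟨hnF, hnP, κn, hκn, hκn'⟩ := mem_stabK.1 n.2
  have hnres : ∀ x : P,
      (((n : MulAut ↥(P ⊔ Q)) (Subgroup.inclusion le_sup_left x) : ↥(P ⊔ Q)) : Ω) = x := by
    intro x
    have h1 : resHom F P Q K n = 1 := MonoidHom.mem_ker.1 hn
    have h2 := resHom_apply F P Q K n x
    rw [h1] at h2
    exact h2.symm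
  have hnB' : ∀ b ∈ B, (n : MulAut ↥(P ⊔ Q)) * b * (n : MulAut ↥(P ⊔ Q))⁻¹ ∈
      autInducedBy (normalizerIn N P) (P ⊔ Q) := by
    intro b hb
    have h1 := hnB ⟨b, hBle hb⟩ (Subgroup.mem_subgroupOf.2 hb)
    rw [hR₀, Subgroup.mem_subgroupOf, mul_one] at h1
    exact h1
  obtain ⟨ε', hε'def⟩ : ∃ ε' : ↥(P' ⊔ Q) ≃* ↥(P ⊔ Q),
      ε' = ε.trans (n : MulAut ↥(P ⊔ Q)) := ⟨_, rfl⟩
  have hε'a : ∀ y, ε' y = (n : MulAut ↥(P ⊔ Q)) (ε y) := by
    intro y; subst hε'def; rfl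
  have hε' : (P ⊔ Q).subtype.comp ε'.toMonoidHom ∈ F.Hom (P' ⊔ Q) := by
    rw [hε'def]
    exact iso_trans_mem F ε (n : MulAut ↥(P ⊔ Q)) hε ((mem_autGroup_iff F hXS).1 hnF)
  have hε'P : ∀ a : P', ((ε' (Subgroup.inclusion le_sup_left a) : ↥(P ⊔ Q)) : Ω) = φ a := by
    intro a
    have h1 : ε (Subgroup.inclusion le_sup_left a) =
        Subgroup.inclusion le_sup_left ⟨φ a, hφP a⟩ := Subtype.ext (hεP a)
    rw [hε'a, h1]
    exact hnres ⟨φ a, hφP a⟩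
  obtain ⟨κχ, hκχdef⟩ : ∃ κχ : MulAut Q, κχ = κn * κφ := ⟨_, rfl⟩
  have hκχ : κχ ∈ K := by rw [hκχdef]; exact mul_mem hκn hκφ
  have hε'Q : ∀ x : Q, ((ε' (Subgroup.inclusion le_sup_right x) : ↥(P ⊔ Q)) : Ω) = κχ x := by
    intro x
    have h1 : ε (Subgroup.inclusion le_sup_right x) =
        Subgroup.inclusion le_sup_right (κφ x) := Subtype.ext (hεQ x)
    rw [hε'a, h1, hκχdef]
    exact hκn' (κφ x)
  have hχr : ((P ⊔ Q).subtype.comp ε'.toMonoidHom).range = P ⊔ Q := range_iso ε'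
  obtain ⟨ψ', hψ', hψ'e⟩ := hXrec.2 (P' ⊔ Q) _ hε' hχr
  have hX'ext : P' ⊔ Q ≤ extender S (P' ⊔ Q) ((P ⊔ Q).subtype.comp ε'.toMonoidHom) :=
    le_extender F hε'
  have hMext : M ≤ extender S (P' ⊔ Q) ((P ⊔ Q).subtype.comp ε'.toMonoidHom) := by
    intro g hg
    have hgX' := hMX' hg
    obtain ⟨αg, hαgdef⟩ : ∃ αg : MulAut ↥(P' ⊔ Q),
        αg = (P' ⊔ Q).normalizerMonoidHom ⟨g, hgX'⟩ := ⟨_, rfl⟩
    have hαga : ∀ y : ↥(P' ⊔ Q), ((αg y : ↥(P' ⊔ Q)) : Ω) = g * y * g⁻¹ := by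
      intro y; subst hαgdef; rfl
    have hαgM : αg ∈ autInducedBy M (P' ⊔ Q) := mem_autInducedBy_iff.2 ⟨g, hg, hαga⟩
    have hbB : MulAut.congr ε αg ∈ B := by rw [hBdef]; exact ⟨αg, hαgM, rfl⟩
    have h1 := hnB' _ hbB
    obtain ⟨h', hh', hh'a⟩ := mem_autInducedBy_iff.1 h1
    refine mem_extender_iff.2 ⟨hMS hg, hgX', h', hNS ((normalizerIn_le N P) hh'),
      fun x hx => ?_⟩
    have h2 := hh'a (ε' x)
    have h3 : ((n : MulAut ↥(P ⊔ Q)) * MulAut.congr ε αg * (n : MulAut ↥(P ⊔ Q))⁻¹) (ε' x) =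
        ε' (αg x) := by
      rw [hε'a, hε'a]
      show (n : MulAut ↥(P ⊔ Q)) (ε (αg (ε.symm ((n : MulAut ↥(P ⊔ Q))⁻¹
        ((n : MulAut ↥(P ⊔ Q)) (ε x)))))) = (n : MulAut ↥(P ⊔ Q)) (ε (αg x))
      simp
    rw [h3] at h2
    have h4 : (⟨g * (x : Ω) * g⁻¹, hx⟩ : ↥(P' ⊔ Q)) = αg x := Subtype.ext (hαga x).symm
    rw [h4]
    exact h2
  have hQext : Q ≤ extender S (P' ⊔ Q) ((P ⊔ Q).subtype.comp ε'.toMonoidHom) :=
    le_sup_right.trans hX'ext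
  have hMQext : M ⊔ Q ≤ extender S (P' ⊔ Q) ((P ⊔ Q).subtype.comp ε'.toMonoidHom) :=
    sup_le hMext hQext
  have hψ'Q : ∀ (x : Q), ψ' ⟨x, hQext x.2⟩ = κχ x := by
    intro x
    exact (hψ'e x ((le_sup_right : Q ≤ P' ⊔ Q) x.2) (hQext x.2)).trans (hε'Q x)
  have hψ'P : ∀ (a : P')
      (ha : (a : Ω) ∈ extender S (P' ⊔ Q) ((P ⊔ Q).subtype.comp ε'.toMonoidHom)),
      ψ' ⟨a, ha⟩ = φ a := by
    intro a ha
    exact (hψ'e a ((le_sup_left : P' ≤ P' ⊔ Q) a.2) ha).trans (hε'P a)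
  subst hMdef
  refine ⟨ψ'.comp (Subgroup.inclusion hMext), ?_, fun x hxP hxM => ?_⟩
  · refine (H.hHom _ _).2 ⟨restrict_mem F hψ' hMext (fun x => rfl), hMN, fun g => ?_,
      ψ'.comp (Subgroup.inclusion hMQext), restrict_mem F hψ' hMQext (fun x => rfl),
      fun x => rfl, κχ, hκχ, fun x => ?_⟩
    · obtain ⟨-, κg, hκg, hκg'⟩ := (H.hN g).1 (hMN g.2)
      refine (H.hN _).2 ⟨(F.le_of_mem hψ').2 (Subgroup.inclusion hMext g), κχ * κg * κχ⁻¹,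
        mul_mem (mul_mem hκχ hκg) (inv_mem hκχ), fun x => ?_⟩
      have h1 : ψ' ⟨(κχ⁻¹ x : Q), hQext (κχ⁻¹ x).2⟩ = x :=
        (hψ'Q (κχ⁻¹ x)).trans (congrArg Subtype.val (MulAut.apply_inv_self _ κχ x))
      have h2 : (⟨g, hMext g.2⟩ :
            ↥(extender S (P' ⊔ Q) ((P ⊔ Q).subtype.comp ε'.toMonoidHom))) *
          ⟨(κχ⁻¹ x : Q), hQext (κχ⁻¹ x).2⟩ *
          (⟨g, hMext g.2⟩ :
            ↥(extender S (P' ⊔ Q) ((P ⊔ Q).subtype.comp ε'.toMonoidHom)))⁻¹ =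
          ⟨(κg (κχ⁻¹ x) : Q), hQext (κg (κχ⁻¹ x)).2⟩ := Subtype.ext (hκg' (κχ⁻¹ x))
      have h3 := congrArg ψ' h2
      rw [map_mul, map_mul, map_inv, h1, hψ'Q] at h3
      exact h3
    · exact hψ'Q x
  · exact hψ'P ⟨x, hxP⟩ (hMext hxM)

end IsKNormalizer

theorem knorm_saturated [Finite S] (p : ℕ) [Fact p.Prime] (hS : IsPGroup p S)
    (F : FusionSystem S) (hF : F.IsSaturated p) {Q : Subgroup Ω} {K : Subgroup (MulAut Q)}
    {N : Subgroup Ω} {E : FusionSystem N} (H : IsKNormalizer F Q K N E) :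
    E.IsSaturated p := by
  have hNS : N ≤ S := H.le
  have hfinN : Finite N := finite_of_le hNS
  intro P hP
  obtain ⟨P₂, hconj, hfn⟩ := exists_fullyNormalized_conj E hP
  exact ⟨P₂, hconj, H.fullyAutomized p hS hF hfn, H.receptive p hS hF hfn⟩

theorem isKNormalizer_normalizer [Finite S] (p : ℕ) [Fact p.Prime] (hS : IsPGroup p S)
    (F : FusionSystem S) (hF : F.IsSaturated p) (Q : Subgroup Ω)
    (hQ : F.IsFullyNormalized Q) (E : FusionSystem (normalizerIn S Q))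
    (hE : F.IsNormalizerSystem Q E) : IsKNormalizer F Q ⊤ (normalizerIn S Q) E := by
  have hQS : Q ≤ S := hQ.1
  have hfinQ : Finite Q := finite_of_le hQS
  refine ⟨hQS, fun g => ?_, fun P φ => ?_, fun Q₁ e he L hLS hL => ?_⟩
  · constructor
    · intro hg
      obtain ⟨hgS, hgN⟩ := Subgroup.mem_inf.1 hg
      exact ⟨hgS, Q.normalizerMonoidHom ⟨g, hgN⟩, Subgroup.mem_top _, fun x => rfl⟩
    · rintro ⟨hgS, κ, -, hκ⟩
      refine Subgroup.mem_inf.2 ⟨hgS, mem_normalizer_of_forall_conj_mem (fun x hx => ?_)⟩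
      have h2 : g * x * g⁻¹ = (κ ⟨x, hx⟩ : Ω) := hκ ⟨x, hx⟩
      rw [h2]; exact (κ _).2
  · rw [hE P, mem_normalizerHom_iff']
    constructor
    · rintro ⟨hφF, hPN, hφN, ψ, hψ, hψP, hψQ⟩
      refine ⟨hφF, hPN, hφN, ψ, hψ, hψP, ?_⟩
      obtain ⟨e₀, he₀⟩ := exists_restrict_iso' ψ (F.injective_of_mem hψ) le_sup_right hψQ
      exact ⟨e₀, Subgroup.mem_top _, fun x => (he₀ x).symm⟩
    · rintro ⟨hφF, hPN, hφN, ψ, hψ, hψP, κ, -, hκ⟩
      exact ⟨hφF, hPN, hφN, ψ, hψ, hψP,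
        map_eq_of_extends le_sup_right ψ κ (fun x hx => hκ ⟨x, hx⟩)⟩
  · have hfa := sat_fullyNormalized p hS F hF hQ
    have hrec := receptive_of_fullyCentralized p hS F hF hfa.1
    have hconj : F.IsConj Q₁ Q := isConj_symm F (isConj_of_iso F e he)
    obtain ⟨θ, hθ, hθN, hθQ⟩ := exists_normalizer_hom p hS F hfa.2 hrec hconj
    have hQ₁S : Q₁ ≤ S := iso_le_right F e he
    have hfinQ₁ : Finite Q₁ := finite_of_le hQ₁S
    have hLN : L ⊔ Q₁ ≤ normalizerIn S Q₁ := by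
      apply sup_le
      · intro h hh
        refine Subgroup.mem_inf.2 ⟨hLS hh, mem_normalizer_of_forall_conj_mem (fun y hy => ?_)⟩
        obtain ⟨κ, -, hκ⟩ := hL h hh
        have h1 := hκ (e.symm ⟨y, hy⟩)
        rw [MulEquiv.apply_symm_apply] at h1
        have h2 : h * y * h⁻¹ = (e (κ (e.symm ⟨y, hy⟩)) : Ω) := h1
        rw [h2]; exact (e _).2
      · exact le_normalizerIn hQ₁S
    obtain ⟨ρ, hρdef⟩ : ∃ ρ : ↥(L ⊔ Q₁) →* Ω, ρ = θ.comp (Subgroup.inclusion hLN) :=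
      ⟨_, rfl⟩
    have hρ : ρ ∈ F.Hom (L ⊔ Q₁) := by
      rw [hρdef]; exact restrict_mem F hθ hLN (fun x => rfl)
    have hmem : ∀ x : Q, ρ (Subgroup.inclusion le_sup_right (e x)) ∈ Q := by
      intro x
      have h : θ (Subgroup.inclusion hLN (Subgroup.inclusion le_sup_right (e x))) ∈
          (Q₁.subgroupOf (normalizerIn S Q₁)).map θ :=
        ⟨_, Subgroup.mem_subgroupOf.2 (e x).2, rfl⟩
      rw [hθQ] at h
      subst hρdef
      exact h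
    obtain ⟨f, hfdef⟩ : ∃ f : Q →* Q,
        f = (ρ.comp ((Subgroup.inclusion (le_sup_right : Q₁ ≤ L ⊔ Q₁)).comp
          e.toMonoidHom)).codRestrict Q hmem := ⟨_, rfl⟩
    have hfa' : ∀ x : Q, ((f x : Q) : Ω) = ρ (Subgroup.inclusion le_sup_right (e x)) := by
      intro x; subst hfdef; rfl
    have hfinj : Function.Injective f := by
      intro a b hab
      have h1 : ρ (Subgroup.inclusion le_sup_right (e a)) =
          ρ (Subgroup.inclusion le_sup_right (e b)) := by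
        rw [← hfa' a, ← hfa' b, hab]
      exact e.injective (Subgroup.inclusion_injective _ (F.injective_of_mem hρ h1))
    have hfbij : Function.Bijective f := ⟨hfinj, Finite.injective_iff_surjective.1 hfinj⟩
    exact ⟨ρ, hρ, MulEquiv.ofBijective f hfbij, Subgroup.mem_top _, fun x => (hfa' x).symm⟩

theorem isKNormalizer_centralizer [Finite S] (p : ℕ) [Fact p.Prime] (hS : IsPGroup p S)
    (F : FusionSystem S) (hF : F.IsSaturated p) (Q : Subgroup Ω)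
    (hQ : F.IsFullyCentralized Q) (E : FusionSystem (centralizerIn S Q))
    (hE : F.IsCentralizerSystem Q E) : IsKNormalizer F Q ⊥ (centralizerIn S Q) E := by
  have hQS : Q ≤ S := hQ.1
  refine ⟨hQS, fun g => ?_, fun P φ => ?_, fun Q₁ e he L hLS hL => ?_⟩
  · rw [mem_centralizerIn]
    constructor
    · rintro ⟨hgS, hg⟩
      refine ⟨hgS, 1, Subgroup.mem_bot.2 rfl, fun x => ?_⟩
      have h0 : (x : Ω) * g = g * x := hg x x.2
      show g * (x : Ω) * g⁻¹ = x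
      rw [← h0]; group
    · rintro ⟨hgS, κ, hκ, hκ'⟩
      rw [Subgroup.mem_bot] at hκ
      refine ⟨hgS, fun x hx => ?_⟩
      have h1 := hκ' ⟨x, hx⟩
      rw [hκ] at h1
      have h2 : g * x * g⁻¹ = x := h1
      calc x * g = g * x * g⁻¹ * g := by rw [h2]
        _ = g * x := by group
  · rw [hE P, mem_centralizerHom_iff']
    constructor
    · rintro ⟨hφF, hPN, hφN, ψ, hψ, hψP, hψQ⟩
      exact ⟨hφF, hPN, hφN, ψ, hψ, hψP, 1, Subgroup.mem_bot.2 rfl, hψQ⟩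
    · rintro ⟨hφF, hPN, hφN, ψ, hψ, hψP, κ, hκ, hψQ⟩
      rw [Subgroup.mem_bot] at hκ
      subst hκ
      exact ⟨hφF, hPN, hφN, ψ, hψ, hψP, hψQ⟩
  · have hrec := receptive_of_fullyCentralized p hS F hF hQ
    have hsymm : Q.subtype.comp e.symm.toMonoidHom ∈ F.Hom Q₁ := iso_symm_mem F e he
    have hrange : (Q.subtype.comp e.symm.toMonoidHom).range = Q := range_iso e.symm
    obtain ⟨θ, hθ, hθe⟩ := hrec.2 Q₁ _ hsymm hrange
    have hQ₁S : Q₁ ≤ S := iso_le_right F e he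
    have hLN : L ⊔ Q₁ ≤ extender S Q₁ (Q.subtype.comp e.symm.toMonoidHom) := by
      apply sup_le
      · intro h hh
        apply centralizerIn_le_extender
        rw [mem_centralizerIn]
        refine ⟨hLS hh, fun y hy => ?_⟩
        obtain ⟨κ, hκ, hκ'⟩ := hL h hh
        rw [Subgroup.mem_bot] at hκ
        have h1 : h * ((e (e.symm ⟨y, hy⟩) : Q₁) : Ω) * h⁻¹ =
            ((e (κ (e.symm ⟨y, hy⟩)) : Q₁) : Ω) := hκ' (e.symm ⟨y, hy⟩)
        have h5 : ((e (e.symm ⟨y, hy⟩) : Q₁) : Ω) = y :=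
          congrArg Subtype.val (e.apply_symm_apply ⟨y, hy⟩)
        have h6 : ((e (κ (e.symm ⟨y, hy⟩)) : Q₁) : Ω) = y := by rw [hκ]; exact h5
        rw [h5, h6] at h1
        calc y * h = h * y * h⁻¹ * h := by rw [h1]
          _ = h * y := by group
      · exact le_extender F hsymm
    refine ⟨θ.comp (Subgroup.inclusion hLN), restrict_mem F hθ hLN (fun x => rfl), 1,
      Subgroup.mem_bot.2 rfl, fun x => ?_⟩
    have h1 := hθe (e x : Ω) (e x).2 (hLN ((le_sup_right : Q₁ ≤ L ⊔ Q₁) (e x).2))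
    have h2 : (Q.subtype.comp e.symm.toMonoidHom) ⟨(e x : Ω), (e x).2⟩ = x :=
      congrArg Subtype.val (e.symm_apply_apply x)
    exact h1.trans h2

end Cfsg.Agent.Helper26
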