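import Mathlib
import Cfsg.Agent.Helper24.MaxClassBasic
import Cfsg.Agent.Helper26.FusionEss

set_option autoImplicit false

namespace Cfsg.Agent.Helper26

open Cfsg Cfsg.FusionSystem

universe u

/-- centre and second centre of a `p`-group of maximal class -/
theorem mc_card_centers {X : Type u} [Group X] [Finite X] {p : ℕ} [Fact p.Prime] (n : ℕ)
    (h4 : 4 ≤ n) (hX : Nat.card X = p ^ n) (hc : Group.nilpotencyClass X = n - 1) :
    Nat.card (Subgroup.center X) = p ∧ Nat.card (Subgroup.upperCentralSeries X 2) = p ^ 2 := by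
  have hp := (Fact.out : p.Prime)
  obtain ⟨h1, h2, h3⟩ := Cfsg.Agent.Helper24.card_center_of_maximal_class n (by omega) hX hc
  obtain ⟨h1', -, -⟩ := Cfsg.Agent.Helper24.card_center_of_maximal_class (p := p)
    (X := X ⧸ Subgroup.center X) (n - 1) (by omega) h2 h3
  refine ⟨h1, ?_⟩
  have e := Subgroup.comap_upperCentralSeries_quotient_center (G := X) 1
  rw [Subgroup.upperCentralSeries_one] at e
  have hidx : (Subgroup.upperCentralSeries X 2).index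
      = (Subgroup.center (X ⧸ Subgroup.center X)).index := by
    have h := Subgroup.index_comap_of_surjective (Subgroup.center (X ⧸ Subgroup.center X))
      (QuotientGroup.mk'_surjective (Subgroup.center X))
    rw [e] at h
    exact h
  have hA := Subgroup.card_mul_index (Subgroup.upperCentralSeries X 2)
  have hB := Subgroup.card_mul_index (Subgroup.center (X ⧸ Subgroup.center X))
  obtain ⟨m, hm⟩ : ∃ m, n = m + 2 := ⟨n - 2, by omega⟩
  have e1 : n - 1 = m + 1 := by omega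
  rw [h1', h2, e1, pow_succ'] at hB
  have hI : (Subgroup.center (X ⧸ Subgroup.center X)).index = p ^ m :=
    Nat.eq_of_mul_eq_mul_left hp.pos hB
  rw [hidx, hI, hX, hm, pow_add] at hA
  exact Nat.eq_of_mul_eq_mul_right (pow_pos hp.pos m) (hA.trans (mul_comm _ _))

/-- nilpotency class from the lower central series condition -/
theorem mc_class {Ω : Type u} [Group Ω] (S : Subgroup Ω) [Finite S] {p : ℕ} [Fact p.Prime]
    (n : ℕ) (h2 : 2 ≤ n) (hn : Nat.card S = p ^ n)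
    (hmax : Subgroup.lowerCentralSeries S (n - 2) ≠ ⊥) :
    Group.nilpotencyClass ↥S = n - 1 := by
  have hS : IsPGroup p ↥S := IsPGroup.of_card hn
  haveI : Group.IsNilpotent ↥S := hS.isNilpotent
  obtain ⟨-, h1⟩ := Cfsg.Agent.Helper24.nilpotencyClass_le_of_card (p := p) n ↥S hn
  have h3 : ¬ Group.nilpotencyClass ↥S ≤ n - 2 := by
    intro h
    apply hmax
    rw [← Subgroup.top_subtype_lowerCentralSeries,
      Subgroup.lowerCentralSeries_eq_bot_iff_nilpotencyClass_le.2 h, Subgroup.map_bot]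
  have h4 := h1 h2
  omega

section MaxClassEss

variable {Ω : Type u} [Group Ω]

/-- centre of `S` inside the ambient group -/
def mcZ (S : Subgroup Ω) : Subgroup Ω := (Subgroup.center ↥S).map S.subtype

/-- second centre of `S` inside the ambient group -/
def mcV (S : Subgroup Ω) : Subgroup Ω := (Subgroup.upperCentralSeries ↥S 2).map S.subtype

variable {S : Subgroup Ω}

theorem mem_mcZ {z : Ω} : z ∈ mcZ S ↔ z ∈ S ∧ ∀ s ∈ S, s * z = z * s := by
  constructor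
  · intro hz
    obtain ⟨w, hw, rfl⟩ := Subgroup.mem_map.1 hz
    refine ⟨w.2, fun s hs => ?_⟩
    exact congrArg Subtype.val (Subgroup.mem_center_iff.1 hw ⟨s, hs⟩)
  · rintro ⟨hz, h⟩
    exact Subgroup.mem_map.2
      ⟨⟨z, hz⟩, Subgroup.mem_center_iff.2 (fun g => Subtype.ext (h g g.2)), rfl⟩

theorem mcZ_le (S : Subgroup Ω) : mcZ S ≤ S := Subgroup.map_subtype_le _

theorem mcV_le (S : Subgroup Ω) : mcV S ≤ S := Subgroup.map_subtype_le _

theorem mcZ_le_mcV (S : Subgroup Ω) : mcZ S ≤ mcV S := by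
  have h := Subgroup.upperCentralSeries_mono ↥S (show 1 ≤ 2 by norm_num)
  rw [Subgroup.upperCentralSeries_one] at h
  exact Subgroup.map_mono h

theorem mem_mcV_comm {v : Ω} (hv : v ∈ mcV S) :
    v ∈ S ∧ ∀ s ∈ S, v * s * v⁻¹ * s⁻¹ ∈ mcZ S := by
  obtain ⟨w, hw, rfl⟩ := Subgroup.mem_map.1 hv
  refine ⟨w.2, fun s hs => ?_⟩
  have h := (Subgroup.mem_upperCentralSeries_succ_iff (n := 1)).1 hw ⟨s, hs⟩
  rw [Subgroup.upperCentralSeries_one] at h
  exact Subgroup.mem_map.2 ⟨_, h, rfl⟩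

theorem mcV_conj {v g : Ω} (hv : v ∈ mcV S) (hg : g ∈ S) : g * v * g⁻¹ ∈ mcV S := by
  obtain ⟨w, hw, rfl⟩ := Subgroup.mem_map.1 hv
  have hn : (Subgroup.upperCentralSeries ↥S 2).Normal := inferInstance
  exact Subgroup.mem_map.2 ⟨_, hn.conj_mem w hw ⟨g, hg⟩, rfl⟩

/-- The centralizer in `S` of the second centre is a maximal subgroup. -/
theorem mc_centralizer_max [Finite S] {p : ℕ} [Fact p.Prime]
    (hZ : Nat.card ↥(mcZ S) = p) (hV : Nat.card ↥(mcV S) = p ^ 2)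
    {v : Ω} (hv : v ∈ mcV S) (hvZ : v ∉ mcZ S) (Q : Subgroup Ω) (hQS : Q ≤ S)
    (hCQ : S ⊓ Subgroup.centralizer ((mcV S : Subgroup Ω) : Set Ω) < Q) : Q = S := by
  have hp := (Fact.out : p.Prime)
  have hvS : v ∈ S := mcV_le S hv
  have hVfin : Finite ↥(mcV S) := finite_of_le (mcV_le S)
  have hZfin : Finite ↥(mcZ S) := finite_of_le (mcZ_le S)
  have hd : ∀ s ∈ S, v * s * v⁻¹ * s⁻¹ ∈ mcZ S := (mem_mcV_comm hv).2
  have hd_mul : ∀ a ∈ S, ∀ b ∈ S, v * (a * b) * v⁻¹ * (a * b)⁻¹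
      = (v * a * v⁻¹ * a⁻¹) * (v * b * v⁻¹ * b⁻¹) := by
    intro a ha b hb
    have hcomm := (mem_mcZ.1 (hd b hb)).2 a⁻¹ (S.inv_mem ha)
    calc v * (a * b) * v⁻¹ * (a * b)⁻¹
        = v * a * v⁻¹ * ((v * b * v⁻¹ * b⁻¹) * a⁻¹) := by group
      _ = v * a * v⁻¹ * (a⁻¹ * (v * b * v⁻¹ * b⁻¹)) := by rw [hcomm]
      _ = (v * a * v⁻¹ * a⁻¹) * (v * b * v⁻¹ * b⁻¹) := by group
  obtain ⟨dH, hdH⟩ : ∃ dH : ↥S →* Ω, ∀ y : ↥S, dH y = v * (y : Ω) * v⁻¹ * (y : Ω)⁻¹ :=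
    ⟨MonoidHom.mk' (fun y : ↥S => v * (y : Ω) * v⁻¹ * (y : Ω)⁻¹)
      (fun a b => hd_mul a a.2 b b.2), fun y => rfl⟩
  have hLV : mcZ S ⊔ Subgroup.zpowers v = mcV S := by
    have hle : mcZ S ⊔ Subgroup.zpowers v ≤ mcV S :=
      sup_le (mcZ_le_mcV S) (Subgroup.zpowers_le.2 hv)
    have hLfin : Finite ↥(mcZ S ⊔ Subgroup.zpowers v) := finite_of_le (hle.trans (mcV_le S))
    have hdvd : Nat.card ↥(mcZ S ⊔ Subgroup.zpowers v) ∣ p ^ 2 := by
      rw [← hV]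
      exact Subgroup.card_dvd_of_le hle
    obtain ⟨j, hj, hjc⟩ := (Nat.dvd_prime_pow hp).1 hdvd
    have hj2 : j = 2 := by
      by_contra hne
      have hj1 : j ≤ 1 := by omega
      have hcle : Nat.card ↥(mcZ S ⊔ Subgroup.zpowers v) ≤ Nat.card ↥(mcZ S) := by
        rw [hjc, hZ]
        calc p ^ j ≤ p ^ 1 := Nat.pow_le_pow_right hp.pos hj1
          _ = p := pow_one p
      have heq : mcZ S = mcZ S ⊔ Subgroup.zpowers v :=
        Subgroup.eq_of_le_of_card_ge le_sup_left hcle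
      apply hvZ
      rw [heq]
      exact Subgroup.mem_sup_right (Subgroup.mem_zpowers v)
    exact Subgroup.eq_of_le_of_card_ge hle (le_of_eq (by rw [hjc, hj2, hV]))
  have hcent : ∀ y ∈ S, v * y = y * v →
      y ∈ S ⊓ Subgroup.centralizer ((mcV S : Subgroup Ω) : Set Ω) := by
    intro y hy hvy
    refine Subgroup.mem_inf.2 ⟨hy, ?_⟩
    have hLle : mcZ S ⊔ Subgroup.zpowers v ≤ Subgroup.centralizer ({y} : Set Ω) := by
      refine sup_le (fun z hz => ?_) (Subgroup.zpowers_le.2 ?_)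
      · rw [Subgroup.mem_centralizer_iff]
        intro t ht
        rw [Set.mem_singleton_iff.1 ht]
        exact (mem_mcZ.1 hz).2 y hy
      · rw [Subgroup.mem_centralizer_iff]
        intro t ht
        rw [Set.mem_singleton_iff.1 ht]
        exact hvy.symm
    rw [Subgroup.mem_centralizer_iff]
    intro h hh
    rw [← hLV] at hh
    have h1 := Subgroup.mem_centralizer_iff.1 (hLle hh) y (Set.mem_singleton y)
    exact h1.symm
  obtain ⟨x, hxQ, hxC⟩ := SetLike.exists_of_lt hCQ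
  have hxS : x ∈ S := hQS hxQ
  have hdx : v * x * v⁻¹ * x⁻¹ ≠ 1 := by
    intro h
    apply hxC
    apply hcent x hxS
    have h2 : v * x * v⁻¹ = x := mul_inv_eq_one.1 h
    exact mul_inv_eq_iff_eq_mul.1 h2
  apply le_antisymm hQS
  intro s hs
  have hmem : (⟨v * s * v⁻¹ * s⁻¹, hd s hs⟩ : ↥(mcZ S)) ∈
      Subgroup.zpowers (⟨v * x * v⁻¹ * x⁻¹, hd x hxS⟩ : ↥(mcZ S)) :=
    mem_zpowers_of_prime_card hZ (fun h => hdx (congrArg Subtype.val h))
  obtain ⟨k, hk⟩ := Subgroup.mem_zpowers_iff.1 hmem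
  have hk' : (v * x * v⁻¹ * x⁻¹) ^ k = v * s * v⁻¹ * s⁻¹ := by
    have h := congrArg Subtype.val hk
    rw [Subgroup.coe_zpow] at h
    exact h
  obtain ⟨y, hy⟩ : ∃ y : ↥S, y = ⟨s, hs⟩ * (⟨x, hxS⟩ : ↥S) ^ (-k) := ⟨_, rfl⟩
  have hdy : dH y = 1 := by
    rw [hy, map_mul, map_zpow, hdH, hdH, zpow_neg]
    show v * s * v⁻¹ * s⁻¹ * ((v * x * v⁻¹ * x⁻¹) ^ k)⁻¹ = 1
    rw [hk', mul_inv_cancel]
  rw [hdH] at hdy
  have hvy : v * (y : Ω) = (y : Ω) * v := mul_inv_eq_iff_eq_mul.1 (mul_inv_eq_one.1 hdy)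
  have hyC := hcent (y : Ω) y.2 hvy
  have hyQ : (y : Ω) ∈ Q := hCQ.le hyC
  have e : s = (y : Ω) * x ^ k := by
    rw [hy, Subgroup.coe_mul, Subgroup.coe_zpow]
    show s = s * x ^ (-k) * x ^ k
    rw [zpow_neg, inv_mul_cancel_right]
  rw [e]
  exact Q.mul_mem hyQ (Q.zpow_mem hxQ k)

/-- automorphisms of `C` preserving membership in `Z` -/
def mcStab (C Z : Subgroup Ω) : Subgroup (MulAut ↥C) where
  carrier := {α | ∀ x : ↥C, (x : Ω) ∈ Z ↔ ((α x : ↥C) : Ω) ∈ Z}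
  mul_mem' := by
    intro a b ha hb
    show ∀ x : ↥C, (x : Ω) ∈ Z ↔ (((a * b) x : ↥C) : Ω) ∈ Z
    intro x
    rw [MulAut.mul_apply]
    exact (hb x).trans (ha (b x))
  one_mem' := fun x => Iff.rfl
  inv_mem' := by
    intro a ha
    show ∀ x : ↥C, (x : Ω) ∈ Z ↔ ((a⁻¹ x : ↥C) : Ω) ∈ Z
    intro x
    have h := ha (a⁻¹ x)
    rw [MulAut.apply_inv_self] at h
    exact h.symm

theorem mem_mcStab {C Z : Subgroup Ω} {α : MulAut ↥C} :
    α ∈ mcStab C Z ↔ ∀ x : ↥C, (x : Ω) ∈ Z ↔ ((α x : ↥C) : Ω) ∈ Z := Iff.rfl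

theorem mc_fn_normal [Finite S] (F : FusionSystem S) {Y : Subgroup Ω} (hYS : Y ≤ S)
    (hn : ∀ g ∈ S, ∀ y ∈ Y, g * y * g⁻¹ ∈ Y) : F.IsFullyNormalized Y := by
  refine ⟨hYS, fun Q _ => ?_⟩
  have h1 : normalizerIn S Y = S := by
    apply le_antisymm (normalizerIn_le S Y)
    intro g hg
    refine mem_normalizerIn.2 ⟨hg, fun x => ⟨fun hx => hn g hg x hx, fun hx => ?_⟩⟩
    have h2 := hn g⁻¹ (S.inv_mem hg) _ hx
    have e0 : g⁻¹ * (g * x * g⁻¹) * g⁻¹⁻¹ = x := by group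
    rwa [e0] at h2
  rw [h1]
  exact Subgroup.card_le_of_le (normalizerIn_le S Q)

/-- In a `p`-group of maximal class, if a map of a saturated fusion system on the second
centre moves the centre, then the centralizer of the second centre is essential. -/
theorem mc_essential [Finite S] (p : ℕ) [Fact p.Prime] (hS : IsPGroup p ↥S) (n : ℕ)
    (hn : Nat.card S = p ^ n) (h4 : 4 ≤ n)
    (hmax : Subgroup.lowerCentralSeries S (n - 2) ≠ ⊥)
    (F : Cfsg.FusionSystem S) (hF : F.IsSaturated p)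
    (φ : ↥(mcV S) →* Ω) (hφ : φ ∈ F.Hom (mcV S)) (hφZ : φ.range = mcV S)
    (hmove : ∃ (z : Ω) (hz : z ∈ mcV S), z ∈ mcZ S ∧ φ ⟨z, hz⟩ ∉ mcZ S) :
    F.IsEssential p (S ⊓ Subgroup.centralizer ((mcV S : Subgroup Ω) : Set Ω)) := by
  have hp := (Fact.out : p.Prime)
  obtain ⟨z, hzV, hzZ, hφz⟩ := hmove
  have hcl := mc_class S n (by omega) hn hmax
  obtain ⟨hcZ0, hcV0⟩ := mc_card_centers n h4 hn hcl
  have hcZ : Nat.card ↥(mcZ S) = p := by
    unfold mcZ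
    rw [Subgroup.card_map_of_injective S.subtype_injective]
    exact hcZ0
  have hcV : Nat.card ↥(mcV S) = p ^ 2 := by
    unfold mcV
    rw [Subgroup.card_map_of_injective S.subtype_injective]
    exact hcV0
  have hVS : mcV S ≤ S := mcV_le S
  have hVfin : Finite ↥(mcV S) := finite_of_le hVS
  obtain ⟨v, hv⟩ : ∃ v : Ω, v = φ ⟨z, hzV⟩ := ⟨_, rfl⟩
  have hvV : v ∈ mcV S := by
    have h1 : φ ⟨z, hzV⟩ ∈ φ.range := ⟨_, rfl⟩
    rw [hφZ] at h1
    rw [hv]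
    exact h1
  have hvZ : v ∉ mcZ S := by
    rw [hv]
    exact hφz
  have hVcomm : ∀ a ∈ mcV S, ∀ b ∈ mcV S, a * b = b * a := by
    intro a ha b hb
    have h := IsPGroup.commutative_of_card_eq_prime_sq hcV ⟨a, ha⟩ ⟨b, hb⟩
    exact congrArg Subtype.val h
  obtain ⟨C, hC⟩ : ∃ C : Subgroup Ω,
      C = S ⊓ Subgroup.centralizer ((mcV S : Subgroup Ω) : Set Ω) := ⟨_, rfl⟩
  rw [← hC]
  have hCS : C ≤ S := by
    rw [hC]
    exact inf_le_left
  have hCmem : ∀ y, y ∈ C ↔ y ∈ S ∧ ∀ h ∈ mcV S, h * y = y * h := by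
    intro y
    rw [hC]
    exact mem_centralizerIn
  have hVC : mcV S ≤ C := by
    intro a ha
    exact (hCmem a).2 ⟨hVS ha, fun h hh => hVcomm h hh a ha⟩
  have hzC : z ∈ C := hVC hzV
  have hCn : ∀ g ∈ S, ∀ y ∈ C, g * y * g⁻¹ ∈ C := by
    intro g hg y hy
    obtain ⟨hyS, hyc⟩ := (hCmem y).1 hy
    refine (hCmem _).2 ⟨S.mul_mem (S.mul_mem hg hyS) (S.inv_mem hg), fun h hh => ?_⟩
    have h1 : g⁻¹ * h * g ∈ mcV S := by
      have h2 := mcV_conj hh (S.inv_mem hg)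
      rw [inv_inv] at h2
      exact h2
    have hcomm := hyc _ h1
    calc h * (g * y * g⁻¹) = g * ((g⁻¹ * h * g) * y) * g⁻¹ := by group
      _ = g * (y * (g⁻¹ * h * g)) * g⁻¹ := by rw [hcomm]
      _ = g * y * g⁻¹ * h := by group
  have hCne : C ≠ S := by
    intro h
    apply hvZ
    refine mem_mcZ.2 ⟨hVS hvV, fun s hs => ?_⟩
    have hsC : s ∈ C := by
      rw [h]
      exact hs
    exact (((hCmem s).1 hsC).2 v hvV).symm
  have hCfin : Finite ↥C := finite_of_le hCS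
  have hfn : F.IsFullyNormalized C := mc_fn_normal F hCS hCn
  have hlt : C < S := lt_of_le_of_ne hCS hCne
  rcases ext_dichotomy p hS F hF hlt hfn with ⟨-, hgen⟩ | ⟨hess, -⟩
  swap
  · exact hess
  exfalso
  have hVfn : F.IsFullyNormalized (mcV S) :=
    mc_fn_normal F hVS (fun g hg y hy => mcV_conj hy hg)
  obtain ⟨hVfc, -⟩ := sat_fullyNormalized p hS F hF hVfn
  have hVrec := receptive_of_fullyCentralized p hS F hF hVfc
  obtain ⟨ψ, hψ, hψe⟩ := hVrec.2 (mcV S) φ hφ hφZ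
  have hCle : C ≤ extender S (mcV S) φ := by
    rw [hC]
    exact centralizerIn_le_extender S (mcV S) φ
  obtain ⟨χ, hχdef⟩ : ∃ χ : ↥C →* Ω, χ = ψ.comp (Subgroup.inclusion hCle) := ⟨_, rfl⟩
  have hχ : χ ∈ F.Hom C := restrict_mem F hψ hCle (fun x => by rw [hχdef]; rfl)
  have hχV : ∀ (a : Ω) (ha : a ∈ mcV S), χ ⟨a, hVC ha⟩ = φ ⟨a, ha⟩ := by
    intro a ha
    rw [hχdef]
    exact hψe a ha (hCle (hVC ha))
  have hχC : ∀ c : ↥C, χ c ∈ C := by
    intro c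
    refine (hCmem _).2 ⟨(F.le_of_mem hχ).2 c, fun h hh => ?_⟩
    have hr : h ∈ φ.range := by
      rw [hφZ]
      exact hh
    obtain ⟨h', hh'⟩ := hr
    have e1 : h = χ ⟨(h' : Ω), hVC h'.2⟩ := ((hχV (h' : Ω) h'.2).trans hh').symm
    have hcomm : (⟨(h' : Ω), hVC h'.2⟩ : ↥C) * c = c * ⟨(h' : Ω), hVC h'.2⟩ :=
      Subtype.ext (((hCmem c).1 c.2).2 h' h'.2)
    rw [e1, ← map_mul, ← map_mul, hcomm]
  have hχinj : Function.Injective (χ.codRestrict C hχC) := by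
    intro a b hab
    exact F.injective_of_mem hχ (congrArg Subtype.val hab)
  obtain ⟨α₀, hα₀⟩ : ∃ α₀ : MulAut ↥C, ∀ c : ↥C, ((α₀ c : ↥C) : Ω) = χ c :=
    ⟨MulEquiv.ofBijective (χ.codRestrict C hχC)
      ⟨hχinj, Finite.surjective_of_injective hχinj⟩, fun c => rfl⟩
  have hα₀A : α₀ ∈ F.autGroup C :=
    (mem_autGroup_iff F hCS).2 (mem_of_eq F hχ (fun c => hα₀ c))
  have hsub : Subgroup.closure (extGens F C) ≤ mcStab C (mcZ S) := by
    rw [Subgroup.closure_le]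
    rintro α ⟨Q, hCQ, ψQ, hψQ, hα⟩
    have hQS : Q ≤ S := (F.le_of_mem hψQ).1
    have hCQ' : S ⊓ Subgroup.centralizer ((mcV S : Subgroup Ω) : Set Ω) < Q := by
      rw [← hC]
      exact hCQ
    have hQ : S = Q := (mc_centralizer_max hcZ hcV hvV hvZ Q hQS hCQ').symm
    subst hQ
    have hrange : ψQ.range = S := isConj_top_eq F ⟨ψQ, hψQ, rfl⟩
    have hinjQ := F.injective_of_mem hψQ
    have hkey : ∀ x : ↥S, (x : Ω) ∈ mcZ S ↔ ψQ x ∈ mcZ S := by
      intro x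
      constructor
      · intro hx
        refine mem_mcZ.2 ⟨(F.le_of_mem hψQ).2 x, fun s hs => ?_⟩
        have hsr : s ∈ ψQ.range := by
          rw [hrange]
          exact hs
        obtain ⟨t, rfl⟩ := hsr
        have hc : t * x = x * t := Subtype.ext ((mem_mcZ.1 hx).2 t t.2)
        rw [← map_mul, ← map_mul, hc]
      · intro hx
        refine mem_mcZ.2 ⟨x.2, fun s hs => ?_⟩
        have h1 := (mem_mcZ.1 hx).2 (ψQ ⟨s, hs⟩) ((F.le_of_mem hψQ).2 _)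
        rw [← map_mul, ← map_mul] at h1
        exact congrArg Subtype.val (hinjQ h1)
    rw [SetLike.mem_coe, mem_mcStab]
    intro y
    rw [← hα y]
    exact hkey (Subgroup.inclusion hCQ.le y)
  have hα₀S : α₀ ∈ mcStab C (mcZ S) := by
    apply hsub
    rw [hgen]
    exact hα₀A
  have h1 := (mem_mcStab.1 hα₀S ⟨z, hzC⟩).1 hzZ
  rw [hα₀, hχV z hzV] at h1
  exact hφz h1

end MaxClassEss

end Cfsg.Agent.Helper26
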