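import Mathlib
import Cfsg.Agent.Helper26.P3Struct
import Cfsg.Agent.Helper24.PNormalCenter
import Cfsg.Prelude.Def_OddOrderLocal

set_option autoImplicit false

namespace Cfsg.Agent.Helper26

open scoped commutatorElement

section MetaPow

variable {Q : Type*} [Group Q]

theorem mp_conj (N : Subgroup Q) [N.Normal] [IsCyclic N] (g : Q) {c : Q} (hc : c ∈ N) :
    ∃ m : ℤ, g * c * g⁻¹ = c ^ m := by
  obtain ⟨m, hm⟩ := MonoidHom.map_cyclic ((MulAut.conjNormal g : MulAut N).toMonoidHom)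
  refine ⟨m, ?_⟩
  have h2 : (((MulAut.conjNormal g : MulAut N) ⟨c, hc⟩ : N) : Q)
      = (((⟨c, hc⟩ : N) ^ m : N) : Q) := congrArg Subtype.val (hm ⟨c, hc⟩)
  rw [MulAut.conjNormal_apply, Subgroup.coe_zpow] at h2
  exact h2

theorem mp_conj_mem (N : Subgroup Q) [N.Normal] [IsCyclic N] (g : Q) {e : Q} (he : e ∈ N)
    {d : Q} (hd : d ∈ Subgroup.zpowers e) : g * d * g⁻¹ ∈ Subgroup.zpowers e := by
  obtain ⟨k, rfl⟩ := Subgroup.mem_zpowers_iff.1 hd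
  obtain ⟨m, hm⟩ := mp_conj N g he
  rw [← conj_zpow, hm, ← zpow_mul]
  exact Subgroup.zpow_mem_zpowers _ _

theorem mp_comm_pow {p : ℕ} [Fact p.Prime] (hQ : IsPGroup p Q) (N : Subgroup Q) [N.Normal]
    [IsCyclic N] (g : Q) {c : Q} (hc : c ∈ N) : ∃ t : ℤ, ⁅g, c⁆ = (c ^ p) ^ t := by
  have hp := (Fact.out : p.Prime)
  haveI : NeZero p := ⟨hp.ne_zero⟩
  obtain ⟨m, hm⟩ := mp_conj N g hc
  by_cases hc1 : c = 1
  · refine ⟨0, ?_⟩
    rw [hc1, commutatorElement_one_right, zpow_zero]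
  obtain ⟨e, he⟩ := hQ g
  have hpow : ∀ n : ℕ, g ^ n * c * (g ^ n)⁻¹ = c ^ (m ^ n) := by
    intro n
    induction n with
    | zero => simp
    | succ n ih =>
      have e1 : g ^ (n + 1) * c * (g ^ (n + 1))⁻¹ = g * (g ^ n * c * (g ^ n)⁻¹) * g⁻¹ := by
        rw [pow_succ' g n, mul_inv_rev]
        simp only [mul_assoc]
      rw [e1, ih, ← conj_zpow, hm, ← zpow_mul, pow_succ' m n]
  have h1 := hpow (p ^ e)
  rw [he, one_mul, inv_one, mul_one] at h1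
  have h2 : c ^ (m ^ (p ^ e) - 1) = 1 := by
    rw [zpow_sub, zpow_one, ← h1, mul_inv_cancel]
  have h3 : (orderOf c : ℤ) ∣ m ^ (p ^ e) - 1 := orderOf_dvd_iff_zpow_eq_one.2 h2
  have h4 : p ∣ orderOf c := by
    obtain ⟨j, hj⟩ := hQ c
    have h5 : orderOf c ∣ p ^ j := orderOf_dvd_of_pow_eq_one hj
    obtain ⟨i, -, hi2⟩ := (Nat.dvd_prime_pow hp).1 h5
    rcases Nat.eq_zero_or_pos i with h0 | hpos
    · exfalso
      apply hc1
      rw [h0, pow_zero] at hi2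
      exact orderOf_eq_one_iff.1 hi2
    · rw [hi2]
      exact dvd_pow_self p hpos.ne'
  have h5 : (p : ℤ) ∣ m ^ (p ^ e) - 1 := (Int.natCast_dvd_natCast.2 h4).trans h3
  have h6 : ((m : ZMod p)) = 1 := by
    have h7 : (((m ^ (p ^ e) - 1 : ℤ)) : ZMod p) = 0 :=
      (ZMod.intCast_zmod_eq_zero_iff_dvd _ p).2 h5
    push_cast at h7
    rw [ZMod.pow_card_pow] at h7
    exact sub_eq_zero.1 h7
  have h8 : (p : ℤ) ∣ m - 1 := by
    have h9 : (((m - 1 : ℤ)) : ZMod p) = 0 := by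
      push_cast
      rw [h6, sub_self]
    exact (ZMod.intCast_zmod_eq_zero_iff_dvd _ p).1 h9
  obtain ⟨t, ht⟩ := h8
  refine ⟨t, ?_⟩
  rw [commutatorElement_def, hm, ← zpow_natCast c p, ← zpow_mul, ← ht, zpow_sub, zpow_one]

theorem mp_comm_mem (N : Subgroup Q) [N.Normal] [hc : IsCyclic (Q ⧸ N)] (x y : Q) :
    ⁅x, y⁆ ∈ N := by
  rw [← QuotientGroup.eq_one_iff, commutatorElement_def]
  have h : (QuotientGroup.mk x : Q ⧸ N) * QuotientGroup.mk y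
      = QuotientGroup.mk y * QuotientGroup.mk x := by
    obtain ⟨g, hg⟩ := IsCyclic.exists_generator (α := Q ⧸ N)
    obtain ⟨a, ha⟩ := Subgroup.mem_zpowers_iff.1 (hg (QuotientGroup.mk x))
    obtain ⟨b, hb⟩ := Subgroup.mem_zpowers_iff.1 (hg (QuotientGroup.mk y))
    rw [← ha, ← hb, ← zpow_add, ← zpow_add, add_comm]
  rw [QuotientGroup.mk_mul, QuotientGroup.mk_mul, QuotientGroup.mk_mul, QuotientGroup.mk_inv,
    QuotientGroup.mk_inv, h, mul_inv_cancel_right, mul_inv_cancel]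

theorem mp_comm_mul_right (a b c : Q) : ⁅a, b * c⁆ = ⁅a, b⁆ * (b * ⁅a, c⁆ * b⁻¹) := by
  simp only [commutatorElement_def]
  group

theorem mp_prod_p {p : ℕ} [Fact p.Prime] (hp2 : p ≠ 2) (hQ : IsPGroup p Q) (N : Subgroup Q)
    [N.Normal] [IsCyclic N] (hab : ∀ a b : Q, ⁅a, b⁆ ∈ N) (x y : Q) :
    ∃ s : ℤ, (x * y) ^ p = x ^ p * y ^ p * (⁅x, y⁆ ^ p) ^ s := by
  have hp := (Fact.out : p.Prime)
  obtain ⟨c, hcdef⟩ : ∃ c : Q, c = ⁅y, x⁆ := ⟨_, rfl⟩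
  have hcN : c ∈ N := by rw [hcdef]; exact hab y x
  obtain ⟨D, hD⟩ : ∃ D : Subgroup Q, D = Subgroup.zpowers (c ^ p) := ⟨_, rfl⟩
  haveI hDn : D.Normal := by
    refine ⟨fun d hd g => ?_⟩
    rw [hD] at hd ⊢
    exact mp_conj_mem N g (N.pow_mem hcN p) hd
  have hcent : ∀ v : Q ⧸ D, (QuotientGroup.mk c : Q ⧸ D) * v = v * QuotientGroup.mk c := by
    intro v
    obtain ⟨g, rfl⟩ := QuotientGroup.mk_surjective v
    rw [← QuotientGroup.mk_mul, ← QuotientGroup.mk_mul, QuotientGroup.eq]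
    obtain ⟨t, ht⟩ := mp_comm_pow hQ N g⁻¹ (N.inv_mem hcN)
    have e : (c * g)⁻¹ * (g * c) = ⁅g⁻¹, c⁻¹⁆ := by rw [commutatorElement_def]; group
    rw [e, ht, inv_pow, inv_zpow, hD]
    exact Subgroup.inv_mem _ (Subgroup.zpow_mem_zpowers _ t)
  have hyx' : (QuotientGroup.mk y : Q ⧸ D) * QuotientGroup.mk x =
      QuotientGroup.mk c * (QuotientGroup.mk x * QuotientGroup.mk y) := by
    rw [← QuotientGroup.mk_mul, ← QuotientGroup.mk_mul, ← QuotientGroup.mk_mul, hcdef]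
    congr 1
    rw [commutatorElement_def]; group
  obtain ⟨k, hk, hcol⟩ := class2_collect hcent hyx' p
  have hpk : p ∣ k := by
    have h1 : p ∣ 2 * k := by
      have h2 : 2 * k = p * (p - 1) := by
        rw [Nat.mul_sub_one]
        exact Nat.eq_sub_of_add_eq hk
      rw [h2]
      exact dvd_mul_right p (p - 1)
    rcases (Nat.Prime.dvd_mul hp).1 h1 with h3 | h3
    · exact absurd ((Nat.prime_dvd_prime_iff_eq hp Nat.prime_two).1 h3) hp2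
    · exact h3
  obtain ⟨k', rfl⟩ := hpk
  have hcp : ((c ^ p : Q) : Q ⧸ D) = 1 := by
    rw [QuotientGroup.eq_one_iff, hD]; exact Subgroup.mem_zpowers _
  have hck : (QuotientGroup.mk c : Q ⧸ D) ^ (p * k') = 1 := by
    rw [pow_mul, ← QuotientGroup.mk_pow, hcp, one_pow]
  rw [hck, mul_one, ← QuotientGroup.mk_mul, ← QuotientGroup.mk_pow, ← QuotientGroup.mk_pow,
    ← QuotientGroup.mk_pow, ← QuotientGroup.mk_mul, QuotientGroup.eq] at hcol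
  rw [hD] at hcol
  obtain ⟨s, hs⟩ := Subgroup.mem_zpowers_iff.1 hcol
  refine ⟨s, ?_⟩
  have hc' : ⁅x, y⁆ = c⁻¹ := by rw [hcdef, commutatorElement_inv]
  rw [hc', inv_pow, inv_zpow, hs, mul_inv_rev, inv_inv, mul_inv_cancel_left]

theorem mp_comm_p {p : ℕ} [Fact p.Prime] (hp2 : p ≠ 2) (hQ : IsPGroup p Q) (N : Subgroup Q)
    [N.Normal] [IsCyclic N] (hab : ∀ a b : Q, ⁅a, b⁆ ∈ N) (x y : Q) :
    ∃ j : ℤ, ⁅x ^ p, y⁆ = (⁅x, y⁆ ^ p) ^ (1 + (p : ℤ) * j) := by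
  obtain ⟨c, hc⟩ : ∃ c : Q, c = ⁅x, y⁆ := ⟨_, rfl⟩
  have hcN : c ∈ N := by rw [hc]; exact hab x y
  have e1 : ⁅x ^ p, y⁆ = x ^ p * (x⁻¹ * c) ^ p := by
    have e2 : x⁻¹ * c = y * x⁻¹ * y⁻¹ := by rw [hc, commutatorElement_def]; group
    rw [e2, conj_pow, commutatorElement_def, inv_pow]
    simp only [mul_assoc]
  obtain ⟨s, hs⟩ := mp_prod_p hp2 hQ N hab x⁻¹ c
  obtain ⟨t, ht⟩ := mp_comm_pow hQ N x⁻¹ hcN
  refine ⟨t * s, ?_⟩
  rw [e1, hs, ht, ← hc]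
  have e3 : (((c ^ p) ^ t) ^ p) ^ s = (c ^ p) ^ ((p : ℤ) * (t * s)) := by
    rw [← zpow_natCast ((c ^ p) ^ t) p, ← zpow_mul, ← zpow_mul]
    congr 1; ring
  rw [e3, zpow_add, zpow_one, inv_pow, mul_assoc, mul_inv_cancel_left]

theorem mp_comm_pk {p : ℕ} [Fact p.Prime] (hp2 : p ≠ 2) (hQ : IsPGroup p Q) (N : Subgroup Q)
    [N.Normal] [IsCyclic N] (hab : ∀ a b : Q, ⁅a, b⁆ ∈ N) (k : ℕ) (x y : Q) :
    ∃ j : ℤ, ⁅x ^ p ^ k, y⁆ = (⁅x, y⁆ ^ p ^ k) ^ (1 + (p : ℤ) * j) := by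
  induction k with
  | zero => exact ⟨0, by simp⟩
  | succ k ih =>
    obtain ⟨j, hj⟩ := ih
    obtain ⟨j', hj'⟩ := mp_comm_p hp2 hQ N hab (x ^ p ^ k) y
    refine ⟨j + j' + p * j * j', ?_⟩
    rw [pow_succ, pow_mul, pow_mul, hj', hj]
    rw [← zpow_natCast ((⁅x, y⁆ ^ p ^ k) ^ (1 + (p : ℤ) * j)) p, ← zpow_mul, ← zpow_mul,
      ← zpow_natCast (⁅x, y⁆ ^ p ^ k) p, ← zpow_mul]
    congr 1; ring

theorem mp_comm_pk_one {p : ℕ} [Fact p.Prime] (hp2 : p ≠ 2) (hQ : IsPGroup p Q)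
    (N : Subgroup Q) [N.Normal] [IsCyclic N] (hab : ∀ a b : Q, ⁅a, b⁆ ∈ N) (k : ℕ) (x y : Q)
    (h : ⁅x ^ p ^ k, y⁆ = 1) : ⁅x, y⁆ ^ p ^ k = 1 := by
  have hp := (Fact.out : p.Prime)
  obtain ⟨j, hj⟩ := mp_comm_pk hp2 hQ N hab k x y
  rw [h] at hj
  obtain ⟨e, he⟩ : ∃ e : Q, e = ⁅x, y⁆ ^ p ^ k := ⟨_, rfl⟩
  rw [← he] at hj ⊢
  by_contra hne
  obtain ⟨n, hn⟩ := hQ e
  have h1 : orderOf e ∣ p ^ n := orderOf_dvd_of_pow_eq_one hn
  obtain ⟨i, -, hi2⟩ := (Nat.dvd_prime_pow hp).1 h1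
  have hi0 : i ≠ 0 := by
    intro h0
    apply hne
    rw [h0, pow_zero] at hi2
    exact orderOf_eq_one_iff.1 hi2
  have h2 : (p : ℤ) ∣ (orderOf e : ℤ) := by
    rw [hi2]
    exact Int.natCast_dvd_natCast.2 (dvd_pow_self p hi0)
  have h3 : (orderOf e : ℤ) ∣ 1 + (p : ℤ) * j := orderOf_dvd_iff_zpow_eq_one.2 hj.symm
  have h4 : (p : ℤ) ∣ 1 := (dvd_add_left (dvd_mul_right (p : ℤ) j)).1 (h2.trans h3)
  have h5 : (p : ℤ) = 1 := Int.eq_one_of_dvd_one (by positivity) h4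
  exact hp.one_lt.ne' (by exact_mod_cast h5)

theorem mp_comm_pow_right (N : Subgroup Q) [N.Normal] [IsCyclic N]
    (hab : ∀ a b : Q, ⁅a, b⁆ ∈ N) (x y : Q) (n : ℕ) :
    ⁅x, y ^ n⁆ ∈ Subgroup.zpowers ⁅x, y⁆ := by
  induction n with
  | zero =>
    rw [pow_zero, commutatorElement_one_right]
    exact Subgroup.one_mem _
  | succ n ih =>
    rw [pow_succ', mp_comm_mul_right]
    exact Subgroup.mul_mem _ (Subgroup.mem_zpowers _) (mp_conj_mem N y (hab x y) ih)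

theorem mp_prod_pk {p : ℕ} [Fact p.Prime] (hp2 : p ≠ 2) (hQ : IsPGroup p Q) (N : Subgroup Q)
    [N.Normal] [IsCyclic N] (hab : ∀ a b : Q, ⁅a, b⁆ ∈ N) (k : ℕ) : ∀ x y : Q,
    ∃ d ∈ Subgroup.zpowers (⁅x, y⁆ ^ p ^ k), (x * y) ^ p ^ k = x ^ p ^ k * y ^ p ^ k * d := by
  induction k with
  | zero =>
    intro x y
    exact ⟨1, Subgroup.one_mem _, by simp⟩
  | succ k ih =>
    intro x y
    obtain ⟨d, hd, hxy⟩ := ih x y
    obtain ⟨c, hc⟩ : ∃ c : Q, c = ⁅x, y⁆ := ⟨_, rfl⟩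
    rw [← hc] at hd ⊢
    have hcN : c ∈ N := by rw [hc]; exact hab x y
    have heN : c ^ p ^ k ∈ N := N.pow_mem hcN _
    obtain ⟨X, hX⟩ : ∃ X : Q, X = x ^ p ^ k := ⟨_, rfl⟩
    obtain ⟨Y, hY⟩ : ∃ Y : Q, Y = y ^ p ^ k := ⟨_, rfl⟩
    rw [← hX, ← hY] at hxy
    have hconj : ∀ g : Q, ∀ z ∈ Subgroup.zpowers (c ^ p ^ k),
        g * z * g⁻¹ ∈ Subgroup.zpowers (c ^ p ^ k) := fun g z hz => mp_conj_mem N g heN hz
    have hcommd : ∀ g : Q, ⁅g, d⁆ ∈ Subgroup.zpowers (c ^ p ^ k) := by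
      intro g
      rw [commutatorElement_def]
      exact Subgroup.mul_mem _ (hconj g d hd) (Subgroup.inv_mem _ hd)
    have hXY : ⁅X, Y⁆ ∈ Subgroup.zpowers (c ^ p ^ k) := by
      obtain ⟨j, hj⟩ := mp_comm_pk hp2 hQ N hab k x Y
      rw [hX, hj]
      have h1 : ⁅x, Y⁆ ∈ Subgroup.zpowers c := by
        rw [hY, hc]
        exact mp_comm_pow_right N hab x y _
      obtain ⟨a, ha⟩ := Subgroup.mem_zpowers_iff.1 h1
      rw [← ha]
      have e : ((c ^ a) ^ p ^ k) ^ (1 + (p : ℤ) * j)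
          = (c ^ p ^ k) ^ (a * (1 + (p : ℤ) * j)) := by
        rw [← zpow_natCast (c ^ a) (p ^ k), ← zpow_mul, ← zpow_mul, ← zpow_natCast c (p ^ k),
          ← zpow_mul]
        congr 1; ring
      rw [e]
      exact Subgroup.zpow_mem_zpowers _ _
    have h1 : ⁅X, Y * d⁆ ∈ Subgroup.zpowers (c ^ p ^ k) := by
      rw [mp_comm_mul_right]
      exact Subgroup.mul_mem _ hXY (hconj Y _ (hcommd X))
    obtain ⟨s₁, hs₁⟩ := mp_prod_p hp2 hQ N hab X (Y * d)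
    obtain ⟨s₂, hs₂⟩ := mp_prod_p hp2 hQ N hab Y d
    have hstep : ∀ z ∈ Subgroup.zpowers (c ^ p ^ k),
        z ^ p ∈ Subgroup.zpowers (c ^ p ^ (k + 1)) := by
      intro z hz
      obtain ⟨s, rfl⟩ := Subgroup.mem_zpowers_iff.1 hz
      have e : ((c ^ p ^ k) ^ s) ^ p = (c ^ p ^ (k + 1)) ^ s := by
        rw [pow_succ, pow_mul, ← zpow_natCast ((c ^ p ^ k) ^ s) p, ← zpow_mul,
          ← zpow_natCast (c ^ p ^ k) p, ← zpow_mul, mul_comm]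
      rw [e]
      exact Subgroup.zpow_mem_zpowers _ _
    refine ⟨d ^ p * (⁅Y, d⁆ ^ p) ^ s₂ * (⁅X, Y * d⁆ ^ p) ^ s₁, ?_, ?_⟩
    · exact Subgroup.mul_mem _ (Subgroup.mul_mem _ (hstep d hd)
        (Subgroup.zpow_mem _ (hstep _ (hcommd Y)) _)) (Subgroup.zpow_mem _ (hstep _ h1) _)
    · rw [pow_succ, pow_mul, pow_mul, pow_mul, ← hX, ← hY, hxy, mul_assoc X Y d, hs₁, hs₂]
      simp only [mul_assoc]

theorem mp_r4 {p : ℕ} [Fact p.Prime] (hp2 : p ≠ 2) (hQ : IsPGroup p Q) (N : Subgroup Q)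
    [N.Normal] [IsCyclic N] (hab : ∀ a b : Q, ⁅a, b⁆ ∈ N) (k : ℕ) (x y : Q)
    (h : x ^ p ^ k = y ^ p ^ k) : (x * y⁻¹) ^ p ^ k = 1 := by
  have h1 : ⁅x ^ p ^ k, y⁆ = 1 := by
    rw [h, commutatorElement_def, pow_mul_comm' y (p ^ k), mul_inv_cancel_right, mul_inv_cancel]
  have h2 := mp_comm_pk_one hp2 hQ N hab k x y h1
  obtain ⟨d, hd, hprod⟩ := mp_prod_pk hp2 hQ N hab k x y⁻¹
  have h3 : ⁅x, y⁻¹⁆ ^ p ^ k = 1 := by
    have e : ⁅x, y⁻¹⁆ = y⁻¹ * ⁅x, y⁆⁻¹ * y⁻¹⁻¹ := by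
      simp only [commutatorElement_def]; group
    rw [e, conj_pow, inv_pow, h2, inv_one, mul_one, mul_inv_cancel]
  rw [h3, Subgroup.zpowers_one_eq_bot, Subgroup.mem_bot] at hd
  rw [hprod, hd, mul_one, h, inv_pow, mul_inv_cancel]

theorem mp_cyc_exp {C : Type*} [Group C] [IsCyclic C] {p : ℕ} [Fact p.Prime]
    (h : ∀ c : C, c ^ p = 1) : Nat.card C ≤ p := by
  obtain ⟨g, hg⟩ := IsCyclic.exists_generator (α := C)
  rw [← orderOf_eq_card_of_forall_mem_zpowers hg]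
  exact Nat.le_of_dvd (Fact.out : p.Prime).pos (orderOf_dvd_of_pow_eq_one (h g))

theorem mp_card_exp {p : ℕ} [Fact p.Prime] (N : Subgroup Q) [N.Normal] [IsCyclic N]
    [IsCyclic (Q ⧸ N)] (V : Subgroup Q) (hV : ∀ v ∈ V, v ^ p = 1) : Nat.card V ≤ p ^ 2 := by
  obtain ⟨f, hf⟩ : ∃ f : V →* Q ⧸ N, ∀ v : V, f v = QuotientGroup.mk (v : Q) :=
    ⟨(QuotientGroup.mk' N).comp V.subtype, fun _ => rfl⟩
  have hVp : ∀ v : V, v ^ p = 1 := fun v =>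
    Subtype.ext (by rw [Subgroup.coe_pow, Subgroup.coe_one]; exact hV v v.2)
  have h1 : Nat.card V = Nat.card (V ⧸ f.ker) * Nat.card f.ker :=
    Subgroup.card_eq_card_quotient_mul_card_subgroup f.ker
  have h2 : Nat.card (V ⧸ f.ker) = Nat.card f.range :=
    Nat.card_congr (QuotientGroup.quotientKerEquivRange f).toEquiv
  have h3 : Nat.card f.range ≤ p := by
    apply mp_cyc_exp
    rintro ⟨w, v, rfl⟩
    apply Subtype.ext
    rw [Subgroup.coe_pow, Subgroup.coe_one, ← map_pow, hVp, map_one]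
  have hker : ∀ v : f.ker, ((v : V) : Q) ∈ N := by
    intro v
    have h5 := v.2
    rw [MonoidHom.mem_ker, hf, QuotientGroup.eq_one_iff] at h5
    exact h5
  obtain ⟨j, hj⟩ : ∃ j : f.ker →* N, ∀ v : f.ker, ((j v : N) : Q) = ((v : V) : Q) :=
    ⟨{ toFun := fun v => ⟨((v : V) : Q), hker v⟩
       map_one' := Subtype.ext rfl
       map_mul' := fun _ _ => Subtype.ext rfl }, fun _ => rfl⟩
  have hjinj : Function.Injective j := by
    intro a b hab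
    have h5 : ((j a : N) : Q) = ((j b : N) : Q) := by rw [hab]
    rw [hj, hj] at h5
    exact Subtype.ext (Subtype.ext h5)
  have h4 : Nat.card f.ker ≤ p := by
    rw [Nat.card_congr (MonoidHom.ofInjective hjinj).toEquiv]
    apply mp_cyc_exp
    rintro ⟨w, v, rfl⟩
    apply Subtype.ext
    have hvp : v ^ p = 1 := Subtype.ext (by rw [Subgroup.coe_pow, Subgroup.coe_one]; exact hVp v)
    rw [Subgroup.coe_pow, Subgroup.coe_one, ← map_pow, hvp, map_one]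
  rw [h1, h2, pow_two]
  exact Nat.mul_le_mul h3 h4

theorem mp_central {p : ℕ} [Fact p.Prime] (hp2 : p ≠ 2) (hQ : IsPGroup p Q) (N : Subgroup Q)
    [N.Normal] [IsCyclic N] (hab : ∀ a b : Q, ⁅a, b⁆ ∈ N) (f : Q →* Q)
    (hf : ∀ v : Q, v ^ p = 1 → f v = v⁻¹) :
    ∀ v g : Q, v ^ p = 1 → g * v * g⁻¹ = v := by
  classical
  have hp := (Fact.out : p.Prime)
  by_contra hcon
  push_neg at hcon
  obtain ⟨v₀, g₀, hv₀, hg₀⟩ := hcon
  have hex : ∃ n : ℕ, ∃ a : Q, orderOf a = n ∧ ∃ v, v ^ p = 1 ∧ a * v * a⁻¹ ≠ v :=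
    ⟨_, g₀, rfl, v₀, hv₀, hg₀⟩
  obtain ⟨a, han, v₁, hv₁, hav₁⟩ := Nat.find_spec hex
  have hmin : ∀ b : Q, orderOf b < orderOf a → ∀ v, v ^ p = 1 → b * v * b⁻¹ = v := by
    intro b hb v hv
    by_contra hne
    exact Nat.find_min hex (by rw [← han]; exact hb) ⟨b, rfl, v, hv, hne⟩
  obtain ⟨r, hr⟩ : ∃ r, orderOf a = p ^ r := by
    obtain ⟨n, hn⟩ := hQ a
    obtain ⟨i, -, hi⟩ := (Nat.dvd_prime_pow hp).1 (orderOf_dvd_of_pow_eq_one hn)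
    exact ⟨i, hi⟩
  have hr0 : r ≠ 0 := by
    intro h0
    rw [h0, pow_zero, orderOf_eq_one_iff] at hr
    apply hav₁
    rw [hr, one_mul, inv_one, mul_one]
  obtain ⟨r', rfl⟩ : ∃ r', r = r' + 1 := ⟨r - 1, by omega⟩
  have hz : (a ^ p ^ r') ^ p = 1 := by
    rw [← pow_mul, ← pow_succ, ← hr, pow_orderOf_eq_one]
  have h4 : ∀ v : Q, v ^ p = 1 → f a * v * (f a)⁻¹ = a * v * a⁻¹ := by
    intro v hv
    have hv' : (v⁻¹) ^ p = 1 := by rw [inv_pow, hv, inv_one]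
    have hc : (a * v⁻¹ * a⁻¹) ^ p = 1 := by rw [conj_pow, hv', mul_one, mul_inv_cancel]
    have e1 : f (v⁻¹) = v := by rw [hf _ hv', inv_inv]
    have e2 : f (a * v⁻¹ * a⁻¹) = (a * v⁻¹ * a⁻¹)⁻¹ := hf _ hc
    rw [map_mul, map_mul, e1, map_inv] at e2
    rw [e2]
    group
  have h5 : (f a * a) ^ p ^ r' = 1 := by
    have e : f a ^ p ^ r' = a⁻¹ ^ p ^ r' := by
      rw [← map_pow, hf _ hz, inv_pow]
    have h6 := mp_r4 hp2 hQ N hab r' (f a) a⁻¹ e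
    rwa [inv_inv] at h6
  have h6 : orderOf (f a * a) < orderOf a := by
    have hd : orderOf (f a * a) ∣ p ^ r' := orderOf_dvd_of_pow_eq_one h5
    have hle := Nat.le_of_dvd (pow_pos hp.pos r') hd
    rw [hr]
    exact lt_of_le_of_lt hle (Nat.pow_lt_pow_right hp.one_lt (Nat.lt_succ_self r'))
  have h7 : ∀ v : Q, v ^ p = 1 → (a * a) * v * (a * a)⁻¹ = v := by
    intro v hv
    have hc : (a * v * a⁻¹) ^ p = 1 := by rw [conj_pow, hv, mul_one, mul_inv_cancel]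
    have e1 := hmin _ h6 v hv
    have e2 := h4 _ hc
    have e3 : f a * a * v * (f a * a)⁻¹ = f a * (a * v * a⁻¹) * (f a)⁻¹ := by group
    rw [e3, e2] at e1
    calc a * a * v * (a * a)⁻¹ = a * (a * v * a⁻¹) * a⁻¹ := by group
      _ = v := e1
  apply hav₁
  obtain ⟨m, hm⟩ : ∃ m, p ^ (r' + 1) = 2 * m + 1 := by
    have hodd : Odd (p ^ (r' + 1)) := (hp.odd_of_ne_two hp2).pow
    obtain ⟨m, hm⟩ := hodd
    exact ⟨m, hm⟩
  have ha1 : a ^ (p ^ (r' + 1)) = 1 := by rw [← hr]; exact pow_orderOf_eq_one a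
  have ha2 : (a * a) ^ (m + 1) = a := by
    rw [← pow_two, ← pow_mul]
    have h8 : 2 * (m + 1) = p ^ (r' + 1) + 1 := by omega
    rw [h8, pow_succ, ha1, one_mul]
  have hcomm : Commute (a * a) v₁ := by
    have h9 := h7 v₁ hv₁
    show a * a * v₁ = v₁ * (a * a)
    calc a * a * v₁ = (a * a * v₁ * (a * a)⁻¹) * (a * a) := by group
      _ = v₁ * (a * a) := by rw [h9]
  have hcomm2 : Commute a v₁ := by
    have h9 := hcomm.pow_left (m + 1)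
    rwa [ha2] at h9
  calc a * v₁ * a⁻¹ = v₁ * a * a⁻¹ := by rw [hcomm2.eq]
    _ = v₁ := by group

end MetaPow

section MetaPack

variable {R : Type*} [Group R]

theorem meta_quot (hm : Cfsg.IsMetacyclic R) (K : Subgroup R) [K.Normal] :
    Cfsg.IsMetacyclic (R ⧸ K) := by
  obtain ⟨N, hN, hNc, hQc⟩ := hm
  haveI := hN
  haveI := hNc
  haveI := hQc
  have hN' : (N.map (QuotientGroup.mk' K)).Normal :=
    Subgroup.Normal.map hN _ (QuotientGroup.mk'_surjective K)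
  haveI := hN'
  refine ⟨N.map (QuotientGroup.mk' K), hN', ?_, ?_⟩
  · exact isCyclic_of_surjective ((QuotientGroup.mk' K).subgroupMap N)
      ((QuotientGroup.mk' K).subgroupMap_surjective N)
  · have hle : N ≤ (N.map (QuotientGroup.mk' K)).comap (QuotientGroup.mk' K) :=
      Subgroup.le_comap_map _ _
    refine isCyclic_of_surjective
      (QuotientGroup.map N (N.map (QuotientGroup.mk' K)) (QuotientGroup.mk' K) hle) ?_
    intro w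
    obtain ⟨v, rfl⟩ := QuotientGroup.mk_surjective w
    obtain ⟨x, rfl⟩ := QuotientGroup.mk_surjective v
    exact ⟨QuotientGroup.mk x, rfl⟩

theorem meta_pow_mul {p : ℕ} [Fact p.Prime] (hp2 : p ≠ 2) (hR : IsPGroup p R)
    (hm : Cfsg.IsMetacyclic R) {x y : R} (hx : x ^ p = 1) (hy : y ^ p = 1) :
    (x * y) ^ p = 1 := by
  obtain ⟨N, hN, hNc, hQc⟩ := hm
  haveI := hN
  haveI := hNc
  haveI := hQc
  have hab : ∀ a b : R, ⁅a, b⁆ ∈ N := mp_comm_mem N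
  have h := mp_r4 hp2 hR N hab 1 x y⁻¹ (by rw [pow_one, hx, inv_pow, hy, inv_one])
  rwa [pow_one, inv_inv] at h

theorem meta_card_exp {p : ℕ} [Fact p.Prime] (hm : Cfsg.IsMetacyclic R) (V : Subgroup R)
    (hV : ∀ v ∈ V, v ^ p = 1) : Nat.card V ≤ p ^ 2 := by
  obtain ⟨N, hN, hNc, hQc⟩ := hm
  haveI := hN
  haveI := hNc
  haveI := hQc
  exact mp_card_exp N V hV

theorem meta_central {p : ℕ} [Fact p.Prime] (hp2 : p ≠ 2) (hR : IsPGroup p R)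
    (hm : Cfsg.IsMetacyclic R) (f : R →* R) (hf : ∀ v : R, v ^ p = 1 → f v = v⁻¹) :
    ∀ v g : R, v ^ p = 1 → g * v * g⁻¹ = v := by
  obtain ⟨N, hN, hNc, hQc⟩ := hm
  haveI := hN
  haveI := hNc
  haveI := hQc
  exact mp_central hp2 hR N (mp_comm_mem N) f hf

end MetaPack

end Cfsg.Agent.Helper26
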