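import Mathlib
import Cfsg.Agent.Helper26.EssP2

set_option autoImplicit false

namespace Cfsg.Agent.Helper26

section EpNeg

variable {V : Type*} [CommGroup V] {p : ℕ} [Fact p.Prime]

theorem ep_neg (hcard : Nat.card V = p ^ 2) (A : Subgroup (MulAut V)) {σ γ : MulAut V}
    (hσA : σ ∈ A) (hγA : γ ∈ A) (hσp : σ ^ p = 1) (hne : ∀ k : ℕ, γ * σ * γ⁻¹ ≠ σ ^ k) :
    ∃ ν ∈ A, ∀ v : V, ν v = v⁻¹ := by
  have hp := (Fact.out : p.Prime)
  have hfin : Finite V := Nat.finite_of_card_ne_zero (by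
    rw [hcard]; exact pow_ne_zero 2 hp.ne_zero)
  have hV : ∀ v : V, v ^ p = 1 := by
    intro v
    by_contra hv
    have hdvd : orderOf v ∣ p ^ 2 := by
      rw [← hcard]
      exact orderOf_dvd_natCard v
    obtain ⟨j, hj, hjv⟩ := (Nat.dvd_prime_pow hp).1 hdvd
    have hj2 : j = 2 := by
      by_contra hj2
      have hj1 : j ≤ 1 := by omega
      apply hv
      have h5 : p ^ j ∣ p ^ 1 := pow_dvd_pow p hj1
      rw [pow_one] at h5
      rw [← hjv] at h5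
      exact orderOf_dvd_iff_pow_eq_one.1 h5
    have hord : orderOf v = Nat.card V := by rw [hjv, hj2, hcard]
    have hcyc : IsCyclic V := isCyclic_of_orderOf_eq_card v hord
    obtain ⟨m, hm⟩ := MonoidHom.map_cyclic σ.toMonoidHom
    obtain ⟨n, hn⟩ := MonoidHom.map_cyclic γ.toMonoidHom
    have hcomm : γ * σ = σ * γ := by
      refine MulEquiv.ext fun w => ?_
      show γ (σ w) = σ (γ w)
      have h1 : σ w = w ^ m := hm w
      have h2 : γ w = w ^ n := hn w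
      have h3 : γ (w ^ m) = (w ^ m) ^ n := hn (w ^ m)
      have h4 : σ (w ^ n) = (w ^ n) ^ m := hm (w ^ n)
      rw [h1, h2, h3, h4, ← zpow_mul, ← zpow_mul, mul_comm]
    apply hne 1
    rw [hcomm, mul_assoc, mul_inv_cancel, mul_one, pow_one]
  have hσ1 : σ ≠ 1 := by
    intro h
    apply hne 0
    rw [h, mul_one, mul_inv_cancel, pow_zero]
  obtain ⟨x, hx1, hσx⟩ := ep_exists_fixed hcard σ hσp
  obtain ⟨τ, hτ⟩ : ∃ τ : MulAut V, τ = γ * σ * γ⁻¹ := ⟨_, rfl⟩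
  have hτA : τ ∈ A := by
    rw [hτ]
    exact A.mul_mem (A.mul_mem hγA hσA) (A.inv_mem hγA)
  have hτp : τ ^ p = 1 := by rw [hτ, conj_pow, hσp, mul_one, mul_inv_cancel]
  obtain ⟨y, hy⟩ : ∃ y : V, y = γ x := ⟨_, rfl⟩
  have hy1 : y ≠ 1 := by
    intro h
    apply hx1
    rw [hy] at h
    exact γ.injective (h.trans (map_one γ).symm)
  have hτy : τ y = y := by
    rw [hτ, hy]
    show γ (σ (γ⁻¹ (γ x))) = γ x
    rw [MulAut.inv_apply_self, hσx]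
  have hτne : ∀ k : ℕ, τ ≠ σ ^ k := by
    intro k h
    rw [hτ] at h
    exact hne k h
  have hB : ∀ n : ℕ, y ≠ x ^ n := by
    intro n hn
    obtain ⟨m, hm⟩ := ep_inv_pow hV hn hy1
    have hτx : τ x = x := by
      have h1 : τ (y ^ m) = y ^ m := by rw [map_pow, hτy]
      rw [← hm] at h1
      exact h1
    obtain ⟨z, hz⟩ := ep_exists_off_line hV hcard x
    have hb := coordHom_bijective hV hcard hx1 hz
    obtain ⟨a, ha⟩ := ep_fix_structure hV hb σ hσp hσx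
    obtain ⟨b, hb'⟩ := ep_fix_structure hV hb τ hτp hτx
    have ha0 : a ≠ 0 := by
      intro h0
      apply hσ1
      apply ep_ext hV hb
      · rw [hσx, MulAut.one_apply]
      · rw [ha, h0, ZMod.val_zero, pow_zero, mul_one, MulAut.one_apply]
    apply hτne (b * a⁻¹).val
    apply ep_ext hV hb
    · rw [hτx, ep_pow_fix σ hσx]
    · rw [hb', ep_pow_apply σ (u := x ^ a.val) (by rw [map_pow, hσx]) ha, ← ep_val_mul hV,
        mul_comm a, mul_assoc, inv_mul_cancel₀ ha0, mul_one]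
  have hb : Function.Bijective (coordHom hV x y) := coordHom_bijective hV hcard hx1 hB
  have hB' : ∀ n : ℕ, x ≠ y ^ n := by
    intro n hn
    obtain ⟨m, hm⟩ := ep_inv_pow hV hn hx1
    exact hB m hm
  have hb' : Function.Bijective (coordHom hV y x) := coordHom_bijective hV hcard hy1 hB'
  obtain ⟨a, ha⟩ := ep_fix_structure hV hb σ hσp hσx
  obtain ⟨b, hbb⟩ := ep_fix_structure hV hb' τ hτp hτy
  have ha0 : a ≠ 0 := by
    intro h0
    apply hσ1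
    apply ep_ext hV hb
    · rw [hσx, MulAut.one_apply]
    · rw [ha, h0, ZMod.val_zero, pow_zero, mul_one, MulAut.one_apply]
  have hb0 : b ≠ 0 := by
    intro h0
    apply hτne 0
    rw [pow_zero]
    apply ep_ext hV hb
    · rw [hbb, h0, ZMod.val_zero, pow_zero, mul_one, MulAut.one_apply]
    · rw [hτy, MulAut.one_apply]
  have hσ'x : (σ ^ (a⁻¹).val) x = x := ep_pow_fix σ hσx _
  have hσ'y : (σ ^ (a⁻¹).val) y = y * x := by
    rw [ep_pow_apply σ (u := x ^ a.val) (by rw [map_pow, hσx]) ha, ← ep_val_mul hV,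
      mul_inv_cancel₀ ha0, ep_val_one]
  have hτ'y : (τ ^ (b⁻¹).val) y = y := ep_pow_fix τ hτy _
  have hτ'x : (τ ^ (b⁻¹).val) x = x * y := by
    rw [ep_pow_apply τ (u := y ^ b.val) (by rw [map_pow, hτy]) hbb, ← ep_val_mul hV,
      mul_inv_cancel₀ hb0, ep_val_one]
  obtain ⟨σ', hσ'⟩ : ∃ σ' : MulAut V, σ' = σ ^ (a⁻¹).val := ⟨_, rfl⟩
  obtain ⟨τ', hτ'⟩ : ∃ τ' : MulAut V, τ' = τ ^ (b⁻¹).val := ⟨_, rfl⟩
  rw [← hσ'] at hσ'x hσ'y
  rw [← hτ'] at hτ'y hτ'x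
  have hσ'A : σ' ∈ A := by rw [hσ']; exact A.pow_mem hσA _
  have hτ'A : τ' ∈ A := by rw [hτ']; exact A.pow_mem hτA _
  have hτi_y : τ'⁻¹ y = y := by
    have h1 : τ'⁻¹ (τ' y) = y := MulAut.inv_apply_self _ τ' y
    rw [hτ'y] at h1
    exact h1
  have hτi_x : τ'⁻¹ x = x * y⁻¹ := by
    have h1 : τ' (x * y⁻¹) = x := by
      rw [map_mul, map_inv, hτ'x, hτ'y, mul_inv_cancel_right]
    have h2 : τ'⁻¹ (τ' (x * y⁻¹)) = x * y⁻¹ := MulAut.inv_apply_self _ τ' _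
    rw [h1] at h2
    exact h2
  obtain ⟨w, hw⟩ : ∃ w : MulAut V, w = σ' * τ'⁻¹ * σ' := ⟨_, rfl⟩
  have hwA : w ∈ A := by
    rw [hw]
    exact A.mul_mem (A.mul_mem hσ'A (A.inv_mem hτ'A)) hσ'A
  have hwx : w x = y⁻¹ := by
    have h1 : w x = σ' (τ'⁻¹ (σ' x)) := by rw [hw]; rfl
    rw [h1, hσ'x, hτi_x, map_mul, map_inv, hσ'x, hσ'y, mul_inv_rev, mul_inv_cancel_left]
  have hwy : w y = x := by
    have h1 : w y = σ' (τ'⁻¹ (σ' y)) := by rw [hw]; rfl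
    rw [h1, hσ'y, map_mul, hτi_y, hτi_x, map_mul, map_mul, map_inv, hσ'x, hσ'y,
      mul_comm x (y * x)⁻¹, mul_inv_cancel_left]
  refine ⟨w * w, A.mul_mem hwA hwA, ?_⟩
  have hx2 : (w * w) x = x⁻¹ := by
    have h1 : (w * w) x = w (w x) := rfl
    rw [h1, hwx, map_inv, hwy]
  have hy2 : (w * w) y = y⁻¹ := by
    have h1 : (w * w) y = w (w y) := rfl
    rw [h1, hwy, hwx]
  intro v
  obtain ⟨c, rfl⟩ := hb.2 v
  rw [coordHom_apply, map_mul, map_pow, map_pow, hx2, hy2, mul_inv, inv_pow, inv_pow]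

end EpNeg

theorem ep_neg' {H : Type*} [Group H] {p : ℕ} [Fact p.Prime] (hcard : Nat.card H = p ^ 2)
    (A : Subgroup (MulAut H)) {σ γ : MulAut H} (hσA : σ ∈ A) (hγA : γ ∈ A) (hσp : σ ^ p = 1)
    (hne : ∀ k : ℕ, γ * σ * γ⁻¹ ≠ σ ^ k) : ∃ ν ∈ A, ∀ v : H, ν v = v⁻¹ := by
  have hcomm : ∀ a b : H, a * b = b * a := IsPGroup.commutative_of_card_eq_prime_sq hcard
  exact @ep_neg H ({ (inferInstance : Group H) with mul_comm := hcomm } : CommGroup H) p _ hcard A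
    σ γ hσA hγA hσp hne

theorem mulAut_pow_fix {M : Type*} [Group M] (α : MulAut M) {x : M} (hx : α x = x) (n : ℕ) :
    (α ^ n) x = x := by
  induction n with
  | zero => rw [pow_zero, MulAut.one_apply]
  | succ n ih => rw [pow_succ', MulAut.mul_apply, ih, hx]

section QuotInv

variable {G : Type*} [Group G]

/-- `g` is the automorphism of `G ⧸ K` induced by `γ`. -/
def QInd (K : Subgroup G) [K.Normal] (γ : MulAut G) (g : MulAut (G ⧸ K)) : Prop :=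
  ∀ x : G, g (QuotientGroup.mk x : G ⧸ K) = (QuotientGroup.mk (γ x) : G ⧸ K)

theorem qind_exists (K : Subgroup G) [K.Normal] (γ : MulAut G) (h1 : ∀ x ∈ K, γ x ∈ K)
    (h2 : ∀ x ∈ K, γ⁻¹ x ∈ K) : ∃ g : MulAut (G ⧸ K), QInd K γ g := by
  have hle1 : K ≤ K.comap γ.toMonoidHom := fun x hx => h1 x hx
  refine ⟨MulEquiv.ofBijective (QuotientGroup.map K K γ.toMonoidHom hle1) ⟨?_, ?_⟩,
    fun x => rfl⟩
  · rw [injective_iff_map_eq_one]
    intro v hv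
    obtain ⟨x, rfl⟩ := QuotientGroup.mk_surjective v
    rw [QuotientGroup.map_mk, QuotientGroup.eq_one_iff] at hv
    rw [QuotientGroup.eq_one_iff]
    have h3 := h2 _ hv
    rw [MulEquiv.coe_toMonoidHom, MulAut.inv_apply_self] at h3
    exact h3
  · intro v
    obtain ⟨x, rfl⟩ := QuotientGroup.mk_surjective v
    refine ⟨QuotientGroup.mk (γ⁻¹ x), ?_⟩
    rw [QuotientGroup.map_mk, MulEquiv.coe_toMonoidHom, MulAut.apply_inv_self]

theorem qind_one (K : Subgroup G) [K.Normal] : QInd K 1 1 := fun _ => rfl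

theorem qind_mul {K : Subgroup G} [K.Normal] {γ₁ γ₂ : MulAut G} {g₁ g₂ : MulAut (G ⧸ K)}
    (h₁ : QInd K γ₁ g₁) (h₂ : QInd K γ₂ g₂) : QInd K (γ₁ * γ₂) (g₁ * g₂) := by
  intro x
  have e1 : (g₁ * g₂) (QuotientGroup.mk x : G ⧸ K) = g₁ (g₂ (QuotientGroup.mk x)) := rfl
  have e2 : (γ₁ * γ₂) x = γ₁ (γ₂ x) := rfl
  rw [e1, e2, h₂ x, h₁ (γ₂ x)]

theorem qind_inv {K : Subgroup G} [K.Normal] {γ : MulAut G} {g : MulAut (G ⧸ K)}
    (h : QInd K γ g) : QInd K γ⁻¹ g⁻¹ := by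
  intro x
  have h1 := h (γ⁻¹ x)
  rw [MulAut.apply_inv_self] at h1
  rw [← h1, MulAut.inv_apply_self]

theorem qind_pow {K : Subgroup G} [K.Normal] {γ : MulAut G} {g : MulAut (G ⧸ K)}
    (h : QInd K γ g) (n : ℕ) : QInd K (γ ^ n) (g ^ n) := by
  induction n with
  | zero =>
    rw [pow_zero, pow_zero]
    exact qind_one K
  | succ n ih =>
    rw [pow_succ, pow_succ]
    exact qind_mul ih h

theorem qind_unique {K : Subgroup G} [K.Normal] {γ : MulAut G} {g g' : MulAut (G ⧸ K)}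
    (h : QInd K γ g) (h' : QInd K γ g') : g = g' := by
  refine MulEquiv.ext fun v => ?_
  obtain ⟨x, rfl⟩ := QuotientGroup.mk_surjective v
  rw [h x, h' x]

theorem quot_inv_exists {p : ℕ} [Fact p.Prime] (K : Subgroup G) [K.Normal]
    (hcard : Nat.card (G ⧸ K) = p ^ 2) (A : Subgroup (MulAut G))
    (hA : ∀ γ ∈ A, ∀ x ∈ K, γ x ∈ K) {σ γ : MulAut G} (hσA : σ ∈ A) (hγA : γ ∈ A)
    (Y Y' : Subgroup G) (hYY : Y ⊔ Y' = ⊤)
    (h1 : ∀ y ∈ Y, (σ y)⁻¹ * y ∈ K) (h2 : ∀ y' ∈ Y', γ⁻¹ y' ∈ Y)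
    (h3 : ∀ x : G, ((σ ^ p) x)⁻¹ * x ∈ K) (h4 : ∃ x : G, (σ x)⁻¹ * x ∉ K) :
    ∃ ν ∈ A, ∀ x : G, ν x * x ∈ K := by
  have hA' : ∀ δ ∈ A, ∃ g : MulAut (G ⧸ K), QInd K δ g := fun δ hδ =>
    qind_exists K δ (hA δ hδ) (hA δ⁻¹ (A.inv_mem hδ))
  obtain ⟨s, hs⟩ := hA' σ hσA
  obtain ⟨g, hg⟩ := hA' γ hγA
  obtain ⟨Ab, hAb⟩ : ∃ Ab : Subgroup (MulAut (G ⧸ K)), ∀ u, u ∈ Ab ↔ ∃ δ ∈ A, QInd K δ u :=
    ⟨{ carrier := {u | ∃ δ ∈ A, QInd K δ u}
       mul_mem' := by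
         rintro u₁ u₂ ⟨δ₁, hδ₁, h₁⟩ ⟨δ₂, hδ₂, h₂⟩
         exact ⟨δ₁ * δ₂, A.mul_mem hδ₁ hδ₂, qind_mul h₁ h₂⟩
       one_mem' := ⟨1, A.one_mem, qind_one K⟩
       inv_mem' := by
         rintro u ⟨δ, hδ, h⟩
         exact ⟨δ⁻¹, A.inv_mem hδ, qind_inv h⟩ }, fun u => Iff.rfl⟩
  have hsp : s ^ p = 1 := by
    refine MulEquiv.ext fun v => ?_
    obtain ⟨x, rfl⟩ := QuotientGroup.mk_surjective v
    rw [qind_pow hs p x, MulAut.one_apply]
    exact QuotientGroup.eq.2 (h3 x)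
  have hsY : ∀ y ∈ Y, s (QuotientGroup.mk y : G ⧸ K) = QuotientGroup.mk y := fun y hy => by
    rw [hs y]
    exact QuotientGroup.eq.2 (h1 y hy)
  have hne : ∀ k : ℕ, g * s * g⁻¹ ≠ s ^ k := by
    intro k hk
    have hfixY : ∀ y ∈ Y, (g * s * g⁻¹) (QuotientGroup.mk y : G ⧸ K) = QuotientGroup.mk y := by
      intro y hy
      rw [hk]
      exact mulAut_pow_fix s (hsY y hy) k
    have hfixY' : ∀ y ∈ Y', (g * s * g⁻¹) (QuotientGroup.mk y : G ⧸ K) = QuotientGroup.mk y := by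
      intro y hy
      have e1 : (g * s * g⁻¹) (QuotientGroup.mk y : G ⧸ K) = g (s (g⁻¹ (QuotientGroup.mk y))) :=
        rfl
      rw [e1, qind_inv hg y, hsY _ (h2 y hy), hg, MulAut.apply_inv_self]
    obtain ⟨Fx, hFx⟩ : ∃ Fx : Subgroup G, ∀ z, z ∈ Fx ↔
        (g * s * g⁻¹) (QuotientGroup.mk z : G ⧸ K) = (QuotientGroup.mk z : G ⧸ K) :=
      ⟨{ carrier := {z | (g * s * g⁻¹) (QuotientGroup.mk z : G ⧸ K) = (QuotientGroup.mk z : G ⧸ K)}
         mul_mem' := by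
           intro a b ha hb
           have ha' : (g * s * g⁻¹) (QuotientGroup.mk a : G ⧸ K) = QuotientGroup.mk a := ha
           have hb' : (g * s * g⁻¹) (QuotientGroup.mk b : G ⧸ K) = QuotientGroup.mk b := hb
           show (g * s * g⁻¹) (QuotientGroup.mk (a * b) : G ⧸ K) = QuotientGroup.mk (a * b)
           rw [QuotientGroup.mk_mul, map_mul, ha', hb']
         one_mem' := by
           show (g * s * g⁻¹) (QuotientGroup.mk (1 : G) : G ⧸ K) = QuotientGroup.mk (1 : G)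
           rw [QuotientGroup.mk_one, map_one]
         inv_mem' := by
           intro a ha
           have ha' : (g * s * g⁻¹) (QuotientGroup.mk a : G ⧸ K) = QuotientGroup.mk a := ha
           show (g * s * g⁻¹) (QuotientGroup.mk a⁻¹ : G ⧸ K) = QuotientGroup.mk a⁻¹
           rw [QuotientGroup.mk_inv, map_inv, ha'] }, fun z => Iff.rfl⟩
    have hle : Y ⊔ Y' ≤ Fx :=
      sup_le (fun y hy => (hFx y).2 (hfixY y hy)) (fun y hy => (hFx y).2 (hfixY' y hy))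
    have hfix : ∀ x : G, (g * s * g⁻¹) (QuotientGroup.mk x : G ⧸ K) = QuotientGroup.mk x :=
      fun x => (hFx x).1 (hle (by rw [hYY]; exact Subgroup.mem_top x))
    have ht1 : g * s * g⁻¹ = 1 := by
      refine MulEquiv.ext fun v => ?_
      obtain ⟨x, rfl⟩ := QuotientGroup.mk_surjective v
      rw [hfix x, MulAut.one_apply]
    have hs1 : s = 1 := by
      have e : s = g⁻¹ * (g * s * g⁻¹) * g := by group
      rw [e, ht1, mul_one, inv_mul_cancel]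
    obtain ⟨x, hx⟩ := h4
    apply hx
    have h5 := hs x
    rw [hs1, MulAut.one_apply] at h5
    exact QuotientGroup.eq.1 h5.symm
  obtain ⟨ν', hν'A, hν'⟩ := ep_neg' hcard Ab ((hAb s).2 ⟨σ, hσA, hs⟩) ((hAb g).2 ⟨γ, hγA, hg⟩)
    hsp hne
  obtain ⟨ν, hνA, hν⟩ := (hAb ν').1 hν'A
  refine ⟨ν, hνA, fun x => ?_⟩
  have h5 := hν x
  rw [hν' (QuotientGroup.mk x)] at h5
  rw [← QuotientGroup.eq_one_iff, QuotientGroup.mk_mul, ← h5, inv_mul_cancel]

end QuotInv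

end Cfsg.Agent.Helper26
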