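import Mathlib
import Cfsg.Agent.Helper26.MetaPow
import Cfsg.Agent.Helper26.QuotInv
import Cfsg.Agent.Helper26.FusionNormal3
import Cfsg.Agent.Helper26.FusionSat
import Cfsg.Agent.Helper26.FusionEss
import Cfsg.Agent.Helper26.SylowAux

set_option autoImplicit false

namespace Cfsg.Agent.Helper26

open Cfsg Cfsg.FusionSystem
open scoped commutatorElement

variable {Ω : Type*} [Group Ω] {S : Subgroup Ω}

theorem wc_automized_receptive [Finite S] (p : ℕ) [Fact p.Prime] (hS : IsPGroup p S)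
    (F : FusionSystem S) (hF : F.IsSaturated p) {X : Subgroup Ω} (hX : F.WeaklyClosed X) :
    F.IsFullyAutomized p X ∧ F.IsReceptive X := by
  have hfn : F.IsFullyNormalized X := by
    refine ⟨hX.1, fun Q hQ => ?_⟩
    obtain ⟨φ, hφ, hr⟩ := hQ
    rw [hX.2 φ hφ] at hr
    exact (congrArg (fun Z => Nat.card (normalizerIn S Z)) hr).ge
  obtain ⟨hfc, hfa⟩ := sat_fullyNormalized p hS F hF hfn
  exact ⟨hfa, receptive_of_fullyCentralized p hS F hF hfc⟩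

theorem fn_of_normal [Finite S] (F : FusionSystem S) {Y : Subgroup Ω} (hYS : Y ≤ S)
    (hn : ∀ g ∈ S, ∀ y ∈ Y, g * y * g⁻¹ ∈ Y) : F.IsFullyNormalized Y := by
  refine ⟨hYS, fun Q _ => ?_⟩
  have h1 : normalizerIn S Y = S := by
    apply le_antisymm (normalizerIn_le S Y)
    intro g hg
    refine mem_normalizerIn.2 ⟨hg, fun x => ⟨fun hx => hn g hg x hx, fun hx => ?_⟩⟩
    have h2 := hn g⁻¹ (S.inv_mem hg) _ hx
    have e0 : g⁻¹ * (g * x * g⁻¹) * g⁻¹⁻¹ = x := by group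
    rwa [e0] at h2
  rw [h1]
  exact Subgroup.card_le_of_le (normalizerIn_le S Q)

/-- The key weak-closure step for metacyclic strongly closed subgroups (odd `p`). -/
theorem meta_y_wc [Finite S] (p : ℕ) [Fact p.Prime] (hS : IsPGroup p S) (hp2 : p ≠ 2)
    (F : FusionSystem S) (hF : F.IsSaturated p) {P W T Y : Subgroup Ω}
    (hP : F.StronglyClosed P) (hW : F.WeaklyClosed W) (hT : F.WeaklyClosed T)
    (hWY : W ≤ Y) (hYT : Y ≤ T) (hTP : T ≤ P)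
    (hTdef : ∀ x, x ∈ T ↔ x ∈ P ∧ x ^ p ∈ W)
    (hYdef : ∀ x, x ∈ Y ↔ x ∈ T ∧ ∀ g ∈ P, ⁅x, g⁆ ∈ W)
    [hWn : (W.subgroupOf T).Normal]
    (hcard : Nat.card (↥T ⧸ W.subgroupOf T) = p ^ 2)
    (hidx : ∀ Z : Subgroup Ω, Y ≤ Z → Z ≤ T → Z = Y ∨ Z = T)
    (hnc : ¬ ∀ t ∈ T, ∀ g ∈ P, ⁅t, g⁆ ∈ W)
    (hG3 : ∀ f : ↥P →* ↥P, (∀ x : ↥P, (x : Ω) ∈ T → ((f x : ↥P) : Ω) * x ∈ W) →
      ∀ t ∈ T, ∀ g ∈ P, ⁅t, g⁆ ∈ W) :
    F.WeaklyClosed Y := by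
  classical
  have hp := (Fact.out : p.Prime)
  have hPS : P ≤ S := hP.1
  have hTS : T ≤ S := hT.1
  have hWT : W ≤ T := hWY.trans hYT
  have hYS : Y ≤ S := hYT.trans hTS
  have hYP : Y ≤ P := hYT.trans hTP
  have hfinT : Finite T := finite_of_le hTS
  have hfinY : Finite Y := finite_of_le hYS
  have hPn : ∀ g ∈ S, ∀ x ∈ P, g * x * g⁻¹ ∈ P :=
    fun g hg x hx => stronglyClosed_conj_mem F hP hg hx
  have hWn' : ∀ g ∈ S, ∀ x ∈ W, g * x * g⁻¹ ∈ W :=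
    fun g hg x hx => weaklyClosed_conj_mem F hW hg hx
  have hTn : ∀ g ∈ S, ∀ x ∈ T, g * x * g⁻¹ ∈ T :=
    fun g hg x hx => weaklyClosed_conj_mem F hT hg hx
  have hYn : ∀ g ∈ S, ∀ x ∈ Y, g * x * g⁻¹ ∈ Y := by
    intro g hg x hx
    obtain ⟨hxT, hxc⟩ := (hYdef x).1 hx
    refine (hYdef _).2 ⟨hTn g hg x hxT, fun h hh => ?_⟩
    have h1 : g⁻¹ * h * g⁻¹⁻¹ ∈ P := hPn g⁻¹ (S.inv_mem hg) h hh
    have h2 := hWn' g hg _ (hxc _ h1)
    have e0 : g * ⁅x, g⁻¹ * h * g⁻¹⁻¹⁆ * g⁻¹ = ⁅g * x * g⁻¹, h⁆ := by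
      simp only [commutatorElement_def]; group
    rwa [e0] at h2
  have hTab : ∀ a ∈ T, ∀ b ∈ T, ⁅a, b⁆ ∈ W := by
    intro a ha b hb
    have hcomm := IsPGroup.commutative_of_card_eq_prime_sq hcard
    have h1 := hcomm (QuotientGroup.mk (⟨a, ha⟩ : ↥T)) (QuotientGroup.mk (⟨b, hb⟩ : ↥T))
    have h2 : (((⟨a, ha⟩ * ⟨b, hb⟩ * (⟨a, ha⟩ : ↥T)⁻¹ * (⟨b, hb⟩ : ↥T)⁻¹ : ↥T)) :
        ↥T ⧸ W.subgroupOf T) = 1 := by
      rw [QuotientGroup.mk_mul, QuotientGroup.mk_mul, QuotientGroup.mk_mul, QuotientGroup.mk_inv,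
        QuotientGroup.mk_inv, h1, mul_inv_cancel_right, mul_inv_cancel]
    rw [QuotientGroup.eq_one_iff, Subgroup.mem_subgroupOf] at h2
    rw [commutatorElement_def]
    exact h2
  refine ⟨hYS, fun φ hφ => ?_⟩
  by_contra hne
  have hφres : φ.comp (Subgroup.inclusion hWY) ∈ F.Hom W :=
    restrict_mem F hφ hWY (fun _ => rfl)
  have hφrange := hW.2 _ hφres
  have hφW : ∀ w : Y, (w : Ω) ∈ W → φ w ∈ W := by
    intro w hw
    have h3 : (φ.comp (Subgroup.inclusion hWY)) ⟨w, hw⟩ ∈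
        (φ.comp (Subgroup.inclusion hWY)).range := ⟨⟨w, hw⟩, rfl⟩
    rw [hφrange] at h3
    exact h3
  have hφT : ∀ y : Y, φ y ∈ T := by
    intro y
    refine (hTdef _).2 ⟨hP.2 Y hYP φ hφ y, ?_⟩
    have hyT := (hTdef _).1 (hYT y.2)
    have h1 := hφW (y ^ p) (by rw [Subgroup.coe_pow]; exact hyT.2)
    rwa [map_pow] at h1
  obtain ⟨Y', hY'⟩ : ∃ Y' : Subgroup Ω, Y' = φ.range := ⟨_, rfl⟩
  rw [← hY'] at hne
  have hY'T : Y' ≤ T := by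
    rw [hY']
    rintro _ ⟨y, rfl⟩
    exact hφT y
  have hcardY' : Nat.card Y' = Nat.card Y := by
    rw [hY']
    exact (Nat.card_congr (MonoidHom.ofInjective (F.injective_of_mem hφ)).toEquiv).symm
  have hWY' : W ≤ Y' := by
    intro w hw
    rw [← hφrange] at hw
    obtain ⟨w', rfl⟩ := hw
    rw [hY']
    exact ⟨Subgroup.inclusion hWY w', rfl⟩
  have hsup : Y ⊔ Y' = T := by
    rcases hidx (Y ⊔ Y') le_sup_left (sup_le hYT hY'T) with h | h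
    · exfalso
      apply hne
      have hle : Y' ≤ Y := by
        rw [← h]
        exact le_sup_right
      exact Subgroup.eq_of_le_of_card_ge hle hcardY'.ge
    · exact h
  obtain ⟨hTfa, hTrec⟩ := wc_automized_receptive p hS F hF hT
  have hYfn : F.IsFullyNormalized Y := fn_of_normal F hYS hYn
  obtain ⟨hYfc, hYfa⟩ := sat_fullyNormalized p hS F hF hYfn
  have hYrec := receptive_of_fullyCentralized p hS F hF hYfc
  have hconj : F.IsConj Y' Y := isConj_symm F ⟨φ, hφ, hY'.symm⟩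
  obtain ⟨χ, hχ, -, hχimg⟩ := exists_normalizer_hom p hS F hYfa hYrec hconj
  have hY'conj : ∀ t ∈ T, ∀ y ∈ Y', t * y * t⁻¹ ∈ Y' := by
    intro t ht y hy
    have h1 : ⁅t, y⁆ ∈ Y' := hWY' (hTab t ht y (hY'T hy))
    have e0 : t * y * t⁻¹ = ⁅t, y⁆ * y := by rw [commutatorElement_def]; group
    rw [e0]
    exact Y'.mul_mem h1 hy
  have hTN : T ≤ normalizerIn S Y' := by
    intro t ht
    refine mem_normalizerIn.2 ⟨hTS ht, fun y => ⟨fun hy => hY'conj t ht y hy, fun hy => ?_⟩⟩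
    have h2 := hY'conj t⁻¹ (T.inv_mem ht) _ hy
    have e0 : t⁻¹ * (t * y * t⁻¹) * t⁻¹⁻¹ = y := by group
    rwa [e0] at h2
  have hχT : χ.comp (Subgroup.inclusion hTN) ∈ F.Hom T := restrict_mem F hχ hTN (fun _ => rfl)
  have hχr := hT.2 _ hχT
  obtain ⟨α, hα⟩ : ∃ α : MulAut T, ∀ x : T, ((α x : T) : Ω) = χ (Subgroup.inclusion hTN x) :=
    ⟨isoOfInj (χ.comp (Subgroup.inclusion hTN)) (F.injective_of_mem hχT) hχr, fun x => rfl⟩
  have hαF : α ∈ F.autGroup T := (mem_autGroup_iff F hTS).2 (mem_of_eq F hχT (fun x => hα x))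
  have hαY : ∀ y' : T, (y' : Ω) ∈ Y' → ((α y' : T) : Ω) ∈ Y := by
    intro y' hy'
    rw [hα]
    have h1 : χ (Subgroup.inclusion hTN y') ∈ (Y'.subgroupOf (normalizerIn S Y')).map χ :=
      Subgroup.mem_map_of_mem χ (Subgroup.mem_subgroupOf.2 hy')
    rwa [hχimg] at h1
  obtain ⟨g₀, hg₀P, hg₀⟩ : ∃ g₀ ∈ P, ¬ ∀ t ∈ T, ⁅t, g₀⁆ ∈ W := by
    by_contra h
    push_neg at h
    exact hnc (fun t ht g hg => h g hg t ht)
  have hex : ∃ n : ℕ, ∀ t ∈ T, ⁅t, g₀ ^ p ^ n⁆ ∈ W := by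
    obtain ⟨n, hn⟩ := hS ⟨g₀, hPS hg₀P⟩
    refine ⟨n, fun t _ => ?_⟩
    have h1 : g₀ ^ p ^ n = 1 := by
      have h2 := congrArg Subtype.val hn
      rwa [Subgroup.coe_pow, Subgroup.coe_one] at h2
    rw [h1, commutatorElement_one_right]
    exact W.one_mem
  have he0 : Nat.find hex ≠ 0 := by
    intro h0
    have h1 := Nat.find_spec hex
    rw [h0, pow_zero, pow_one] at h1
    exact hg₀ h1
  obtain ⟨e, he⟩ : ∃ e, Nat.find hex = e + 1 := ⟨Nat.find hex - 1, by omega⟩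
  obtain ⟨u, hu⟩ : ∃ u : Ω, u = g₀ ^ p ^ e := ⟨_, rfl⟩
  have huP : u ∈ P := by rw [hu]; exact P.pow_mem hg₀P _
  have hu1 : ¬ ∀ t ∈ T, ⁅t, u⁆ ∈ W := by
    rw [hu]
    exact Nat.find_min hex (by omega)
  have hu2 : ∀ t ∈ T, ⁅t, u ^ p⁆ ∈ W := by
    have h1 := Nat.find_spec hex
    rw [he, pow_succ, pow_mul] at h1
    rw [hu]
    exact h1
  have hSN : ∀ g ∈ S, g ∈ Subgroup.normalizer (T : Set Ω) := by
    intro g hg
    rw [Subgroup.mem_normalizer_iff]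
    intro x
    refine ⟨fun hx => hTn g hg x hx, fun hx => ?_⟩
    have h2 := hTn g⁻¹ (S.inv_mem hg) _ hx
    have e0 : g⁻¹ * (g * x * g⁻¹) * g⁻¹⁻¹ = x := by group
    rwa [e0] at h2
  obtain ⟨σ, hσ⟩ : ∃ σ : MulAut T, ∀ x : T, ((σ x : T) : Ω) = u * x * u⁻¹ :=
    ⟨T.normalizerMonoidHom ⟨u, hSN u (hPS huP)⟩, fun x => rfl⟩
  have hRA : autInducedBy S T ≤ F.autGroup T := autInducedBy_le_autGroup F hTS
  have hσR : σ ∈ autInducedBy S T := mem_autInducedBy_iff.2 ⟨u, hPS huP, hσ⟩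
  have hσpow : ∀ (n : ℕ) (x : T), (((σ ^ n) x : T) : Ω) = u ^ n * x * (u ^ n)⁻¹ := by
    intro n
    induction n with
    | zero => intro x; simp
    | succ n ih =>
      intro x
      have e1 : (σ ^ (n + 1)) x = σ ((σ ^ n) x) := by rw [pow_succ' σ n]; rfl
      rw [e1, hσ, ih, pow_succ' u n, mul_inv_rev]
      simp only [mul_assoc]
  have hid : ∀ a z : Ω, (a * z * a⁻¹)⁻¹ * z = ⁅z⁻¹, a⁆⁻¹ := by
    intro a z
    simp only [commutatorElement_def]; group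
  have hid' : ∀ a z : Ω, (a * z⁻¹ * a⁻¹)⁻¹ * z⁻¹ = ⁅z, a⁆⁻¹ := by
    intro a z
    simp only [commutatorElement_def]; group
  have hA : ∀ δ ∈ F.autGroup T, ∀ x ∈ W.subgroupOf T, δ x ∈ W.subgroupOf T := by
    intro δ hδ x hx
    rw [Subgroup.mem_subgroupOf] at hx ⊢
    exact weaklyClosed_autGroup_maps F hW hWT hTS hδ x hx
  have hYY : Y.subgroupOf T ⊔ Y'.subgroupOf T = ⊤ := by
    rw [← Subgroup.subgroupOf_sup hYT hY'T, hsup, Subgroup.subgroupOf_self]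
  have hE1 : ∀ y ∈ Y.subgroupOf T, (σ y)⁻¹ * y ∈ W.subgroupOf T := by
    intro y hy
    rw [Subgroup.mem_subgroupOf] at hy
    rw [Subgroup.mem_subgroupOf, Subgroup.coe_mul, Subgroup.coe_inv, hσ, hid]
    exact W.inv_mem (((hYdef _).1 (Y.inv_mem hy)).2 u huP)
  have hE2 : ∀ y' ∈ Y'.subgroupOf T, (α⁻¹)⁻¹ y' ∈ Y.subgroupOf T := by
    intro y' hy'
    rw [inv_inv, Subgroup.mem_subgroupOf]
    exact hαY y' (Subgroup.mem_subgroupOf.1 hy')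
  have hE3 : ∀ x : T, ((σ ^ p) x)⁻¹ * x ∈ W.subgroupOf T := by
    intro x
    rw [Subgroup.mem_subgroupOf, Subgroup.coe_mul, Subgroup.coe_inv, hσpow, hid]
    exact W.inv_mem (hu2 _ (T.inv_mem x.2))
  have hE4 : ∃ x : T, (σ x)⁻¹ * x ∉ W.subgroupOf T := by
    by_contra hcon
    push_neg at hcon
    apply hu1
    intro t ht
    have h1 := hcon ⟨t⁻¹, T.inv_mem ht⟩
    rw [Subgroup.mem_subgroupOf, Subgroup.coe_mul, Subgroup.coe_inv, hσ] at h1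
    have h1' : (u * t⁻¹ * u⁻¹)⁻¹ * t⁻¹ ∈ W := h1
    rw [hid'] at h1'
    have h2 := W.inv_mem h1'
    rwa [inv_inv] at h2
  obtain ⟨ν, hνA, hν⟩ := quot_inv_exists (W.subgroupOf T) hcard (F.autGroup T) hA
    (hRA hσR) ((F.autGroup T).inv_mem hαF) (Y.subgroupOf T) (Y'.subgroupOf T) hYY hE1 hE2 hE3 hE4
  -- induced automorphisms
  have hInd : ∀ δ ∈ F.autGroup T,
      ∃ g : MulAut (↥T ⧸ W.subgroupOf T), QInd (W.subgroupOf T) δ g :=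
    fun δ hδ => qind_exists _ δ (hA δ hδ) (hA δ⁻¹ ((F.autGroup T).inv_mem hδ))
  obtain ⟨nb, hnb⟩ := hInd ν hνA
  have hnbinv : ∀ v : ↥T ⧸ W.subgroupOf T, nb v = v⁻¹ := by
    intro v
    obtain ⟨x, rfl⟩ := QuotientGroup.mk_surjective v
    rw [hnb x]
    have h1 : ((ν x * x : ↥T) : ↥T ⧸ W.subgroupOf T) = 1 :=
      (QuotientGroup.eq_one_iff _).2 (hν x)
    rw [QuotientGroup.mk_mul] at h1
    exact eq_inv_of_mul_eq_one_left h1
  have hnbinv' : ∀ v : ↥T ⧸ W.subgroupOf T, nb⁻¹ v = v⁻¹ := by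
    intro v
    have h1 := hnbinv v⁻¹
    rw [inv_inv] at h1
    have h2 : nb⁻¹ (nb v⁻¹) = v⁻¹ := MulAut.inv_apply_self _ nb v⁻¹
    rwa [h1] at h2
  obtain ⟨Bp, hBp⟩ : ∃ Bp : Subgroup (MulAut T), ∀ δ, δ ∈ Bp ↔ (δ ∈ F.autGroup T ∧
      ∃ r ∈ autInducedBy S T, ∃ g, QInd (W.subgroupOf T) δ g ∧ QInd (W.subgroupOf T) r g) :=
    ⟨{ carrier := {δ | δ ∈ F.autGroup T ∧
          ∃ r ∈ autInducedBy S T, ∃ g, QInd (W.subgroupOf T) δ g ∧ QInd (W.subgroupOf T) r g}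
       mul_mem' := by
         rintro δ₁ δ₂ ⟨h₁, r₁, hr₁, g₁, hδg₁, hrg₁⟩ ⟨h₂, r₂, hr₂, g₂, hδg₂, hrg₂⟩
         exact ⟨(F.autGroup T).mul_mem h₁ h₂, r₁ * r₂, (autInducedBy S T).mul_mem hr₁ hr₂,
           g₁ * g₂, qind_mul hδg₁ hδg₂, qind_mul hrg₁ hrg₂⟩
       one_mem' := ⟨(F.autGroup T).one_mem, 1, (autInducedBy S T).one_mem, 1, qind_one _,
         qind_one _⟩
       inv_mem' := by
         rintro δ ⟨h, r, hr, g, hδg, hrg⟩
         exact ⟨(F.autGroup T).inv_mem h, r⁻¹, (autInducedBy S T).inv_mem hr, g⁻¹,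
           qind_inv hδg, qind_inv hrg⟩ }, fun δ => Iff.rfl⟩
  have hRBp : autInducedBy S T ≤ Bp := by
    intro r hr
    obtain ⟨g, hg⟩ := hInd r (hRA hr)
    exact (hBp r).2 ⟨hRA hr, r, hr, g, hg, hg⟩
  have hBpA : Bp ≤ F.autGroup T := fun δ hδ => ((hBp δ).1 hδ).1
  have hSyl := hTfa.2
  have hRp : IsPGroup p (autInducedBy S T) := isPGroup_of_sylowIn hRA hSyl
  haveI : Finite (MulAut T) := inferInstance
  have hSylB : ∃ R₁ : Sylow p Bp, (R₁ : Subgroup Bp) = (autInducedBy S T).subgroupOf Bp :=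
    sylowIn_of_card_le hRBp hRp
      (fun H' hH' _ hH'B => card_le_of_sylowIn hRA hSyl hH' (hH'B.trans hBpA))
  have hH'B : (autInducedBy S T).map (MulAut.conj ν).toMonoidHom ≤ Bp := by
    rintro _ ⟨r, hr, rfl⟩
    obtain ⟨rb, hrb⟩ := hInd r (hRA hr)
    have hmem : ν * r * ν⁻¹ ∈ F.autGroup T :=
      (F.autGroup T).mul_mem ((F.autGroup T).mul_mem hνA (hRA hr)) ((F.autGroup T).inv_mem hνA)
    have hq : QInd (W.subgroupOf T) (ν * r * ν⁻¹) (nb * rb * nb⁻¹) :=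
      qind_mul (qind_mul hnb hrb) (qind_inv hnb)
    have heq : nb * rb * nb⁻¹ = rb := by
      refine MulEquiv.ext fun v => ?_
      have e1 : (nb * rb * nb⁻¹) v = nb (rb (nb⁻¹ v)) := rfl
      rw [e1, hnbinv' v, map_inv, hnbinv, inv_inv]
    rw [heq] at hq
    show ν * r * ν⁻¹ ∈ Bp
    exact (hBp _).2 ⟨hmem, r, hr, rb, hq, hrb⟩
  obtain ⟨n, hnB, hn⟩ := exists_conj_le_of_sylowIn hSylB (isPGroup_map_conj hRp ν) hH'B
  obtain ⟨-, r₀, hr₀, gb, hngb, hr₀gb⟩ := (hBp n).1 hnB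
  obtain ⟨ν₁, hν₁⟩ : ∃ ν₁ : MulAut T, ν₁ = n * ν := ⟨_, rfl⟩
  have hν₁A : ν₁ ∈ F.autGroup T := by
    rw [hν₁]
    exact (F.autGroup T).mul_mem (hBpA hnB) hνA
  have hν₁N : ∀ r ∈ autInducedBy S T, ν₁ * r * ν₁⁻¹ ∈ autInducedBy S T := by
    intro r hr
    apply hn
    refine ⟨ν * r * ν⁻¹, ⟨r, hr, rfl⟩, ?_⟩
    rw [hν₁]
    show n * (ν * r * ν⁻¹) * n⁻¹ = n * ν * r * (n * ν)⁻¹
    group
  have hν₁q : QInd (W.subgroupOf T) ν₁ (gb * nb) := by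
    rw [hν₁]
    exact qind_mul hngb hnb
  obtain ⟨e₂, he₂⟩ : ∃ e₂ : ℕ, r₀ ^ p ^ e₂ = 1 := by
    obtain ⟨k, hk⟩ := hRp ⟨r₀, hr₀⟩
    refine ⟨k, ?_⟩
    have h1 := congrArg Subtype.val hk
    rwa [Subgroup.coe_pow, Subgroup.coe_one] at h1
  have hgbp : gb ^ p ^ e₂ = 1 := by
    have h1 : QInd (W.subgroupOf T) (r₀ ^ p ^ e₂) (gb ^ p ^ e₂) := qind_pow hr₀gb _
    rw [he₂] at h1
    exact qind_unique h1 (qind_one _)
  have hh : ∀ v : ↥T ⧸ W.subgroupOf T, (gb * nb) v = (gb v)⁻¹ := by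
    intro v
    have e1 : (gb * nb) v = gb (nb v) := rfl
    rw [e1, hnbinv, map_inv]
  have hsq : (gb * nb) * (gb * nb) = gb * gb := by
    refine MulEquiv.ext fun v => ?_
    have e1 : ((gb * nb) * (gb * nb)) v = (gb * nb) ((gb * nb) v) := rfl
    have e2 : (gb * gb) v = gb (gb v) := rfl
    rw [e1, e2, hh ((gb * nb) v), hh v, map_inv, inv_inv]
  obtain ⟨m, hm⟩ : ∃ m, p ^ e₂ = 2 * m + 1 := by
    have hodd : Odd (p ^ e₂) := (hp.odd_of_ne_two hp2).pow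
    obtain ⟨m, hm⟩ := hodd
    exact ⟨m, hm⟩
  have hpw : ∀ v : ↥T ⧸ W.subgroupOf T, ((gb * nb) ^ p ^ e₂) v = v⁻¹ := by
    intro v
    have e1 : (gb * nb) ^ (2 * m + 1) = gb ^ (2 * m) * (gb * nb) := by
      rw [pow_succ, pow_mul (gb * nb) 2 m, pow_two (gb * nb), hsq, ← pow_two gb, ← pow_mul gb 2 m]
    have e2 : (gb ^ (2 * m) * (gb * nb)) v = (gb ^ (2 * m)) ((gb * nb) v) := rfl
    have e3 : (gb ^ (2 * m)) (gb v) = (gb ^ (2 * m + 1)) v := by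
      rw [pow_succ]; rfl
    rw [hm, e1, e2, hh v, map_inv, e3, ← hm, hgbp, MulAut.one_apply]
  obtain ⟨ν₂, hν₂⟩ : ∃ ν₂ : MulAut T, ν₂ = ν₁ ^ p ^ e₂ := ⟨_, rfl⟩
  have hν₂A : ν₂ ∈ F.autGroup T := by
    rw [hν₂]
    exact (F.autGroup T).pow_mem hν₁A _
  have hν₂N : ∀ r ∈ autInducedBy S T, ν₂ * r * ν₂⁻¹ ∈ autInducedBy S T := by
    have hgen : ∀ k : ℕ, ∀ r ∈ autInducedBy S T,
        ν₁ ^ k * r * (ν₁ ^ k)⁻¹ ∈ autInducedBy S T := by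
      intro k
      induction k with
      | zero => intro r hr; simpa using hr
      | succ k ih =>
        intro r hr
        have e1 : ν₁ ^ (k + 1) * r * (ν₁ ^ (k + 1))⁻¹
            = ν₁ * (ν₁ ^ k * r * (ν₁ ^ k)⁻¹) * ν₁⁻¹ := by
          rw [pow_succ' ν₁ k, mul_inv_rev]
          simp only [mul_assoc]
        rw [e1]
        exact hν₁N _ (ih r hr)
    rw [hν₂]
    exact hgen _
  have hν₂q : ∀ x : T, ν₂ x * x ∈ W.subgroupOf T := by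
    intro x
    have h1 : QInd (W.subgroupOf T) ν₂ ((gb * nb) ^ p ^ e₂) := by
      rw [hν₂]
      exact qind_pow hν₁q _
    have h2 := h1 x
    rw [hpw] at h2
    rw [← QuotientGroup.eq_one_iff, QuotientGroup.mk_mul, ← h2, inv_mul_cancel]
  have hφ₂ : T.subtype.comp ν₂.toMonoidHom ∈ F.Hom T := (mem_autGroup_iff F hTS).1 hν₂A
  obtain ⟨ψ, hψ, hψe⟩ := hTrec.2 T _ hφ₂ (range_iso ν₂)
  have hSE : S ≤ extender S T (T.subtype.comp ν₂.toMonoidHom) := by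
    intro g hg
    refine mem_extender_of_conj_mem ν₂ hg (hSN g hg) ?_
    exact hν₂N _ (mem_autInducedBy_iff.2 ⟨g, hg, fun x => rfl⟩)
  have hPE : P ≤ extender S T (T.subtype.comp ν₂.toMonoidHom) := hPS.trans hSE
  have hβ : ψ.comp (Subgroup.inclusion hPE) ∈ F.Hom P := restrict_mem F hψ hPE (fun _ => rfl)
  have hβP : ∀ x : P, (ψ.comp (Subgroup.inclusion hPE)) x ∈ P := fun x => hP.2 P le_rfl _ hβ x
  apply hnc
  apply hG3 ((ψ.comp (Subgroup.inclusion hPE)).codRestrict P hβP)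
  intro x hxT
  have h1 := hψe (x : Ω) hxT (hPE x.2)
  have h2 := hν₂q ⟨x, hxT⟩
  rw [Subgroup.mem_subgroupOf, Subgroup.coe_mul] at h2
  have h3 : ((((ψ.comp (Subgroup.inclusion hPE)).codRestrict P hβP) x : ↥P) : Ω)
      = ((ν₂ ⟨x, hxT⟩ : T) : Ω) := h1
  have h4 : ((ν₂ ⟨x, hxT⟩ : T) : Ω) * (x : Ω) ∈ W := h2
  rw [← h3] at h4
  exact h4

end Cfsg.Agent.Helper26
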