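import Mathlib

set_option autoImplicit false

namespace Cfsg.Agent.Helper26

/-- Backup for sprint piece [F3] of S2256: a nilpotent subgroup `P × C₃` of `A_n`. -/
theorem alt3_exists (n : ℕ) (hn : 3 ≤ n) (P : Sylow 2 (alternatingGroup (Fin (n - 3)))) :
    ∃ M : Subgroup (alternatingGroup (Fin n)), Group.IsNilpotent M ∧
      Nat.card M = 3 * Nat.card P ∧
      Nonempty (M ≃* (↥(P : Subgroup (alternatingGroup (Fin (n - 3)))) ×
        Multiplicative (ZMod 3))) := by
  classical
  -- the regular representation of C₃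
  let reg : Multiplicative (ZMod 3) →* Equiv.Perm (Multiplicative (ZMod 3)) :=
    MulAction.toPermHom (Multiplicative (ZMod 3)) (Multiplicative (ZMod 3))
  have hreg : Function.Injective reg := MulAction.toPerm_injective
  have h3 : Fintype.card (Multiplicative (ZMod 3)) = 3 := by
    rw [Fintype.card_congr Multiplicative.toAdd]
    exact ZMod.card 3
  have hsignreg : ∀ c : Multiplicative (ZMod 3), Equiv.Perm.sign (reg c) = 1 := by
    intro c
    have hc3 : c ^ 3 = 1 := by
      have h := pow_card_eq_one (x := c)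
      rwa [h3] at h
    have h1 : Equiv.Perm.sign (reg c) ^ 3 = 1 := by
      rw [← map_pow, ← map_pow, hc3, map_one, map_one]
    rcases Int.units_eq_one_or (Equiv.Perm.sign (reg c)) with h | h
    · exact h
    · rw [h] at h1
      exact absurd h1 (by decide)
  let g₀ : alternatingGroup (Fin (n - 3)) × Multiplicative (ZMod 3) →*
      Equiv.Perm (Fin (n - 3)) × Equiv.Perm (Multiplicative (ZMod 3)) :=
    MonoidHom.prodMap (alternatingGroup (Fin (n - 3))).subtype reg
  have hg₀ : Function.Injective g₀ := by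
    intro a b hab
    have h1 : (g₀ a).1 = (g₀ b).1 := congrArg Prod.fst hab
    have h2 : (g₀ a).2 = (g₀ b).2 := congrArg Prod.snd hab
    have h1' : (a.1 : Equiv.Perm (Fin (n - 3))) = b.1 := h1
    have h2' : reg a.2 = reg b.2 := h2
    exact Prod.ext (Subtype.ext h1') (hreg h2')
  let g₁ := Equiv.Perm.sumCongrHom (Fin (n - 3)) (Multiplicative (ZMod 3))
  have hg₁ : Function.Injective g₁ := Equiv.Perm.sumCongrHom_injective
  have hcard : Fintype.card (Fin (n - 3) ⊕ Multiplicative (ZMod 3)) = n := by
    rw [Fintype.card_sum, Fintype.card_fin, h3]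
    omega
  let e : (Fin (n - 3) ⊕ Multiplicative (ZMod 3)) ≃ Fin n := Fintype.equivFinOfCardEq hcard
  let f : alternatingGroup (Fin (n - 3)) × Multiplicative (ZMod 3) →* Equiv.Perm (Fin n) :=
    (e.permCongrHom.toMonoidHom.comp g₁).comp g₀
  have hf : Function.Injective f := by
    intro a b hab
    apply hg₀
    apply hg₁
    exact e.permCongrHom.injective hab
  have hfA : ∀ x, f x ∈ alternatingGroup (Fin n) := by
    intro x
    rw [Equiv.Perm.mem_alternatingGroup]
    have hx : f x = e.permCongr (Equiv.sumCongr (x.1 : Equiv.Perm (Fin (n - 3))) (reg x.2)) :=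
      rfl
    rw [hx, Equiv.Perm.sign_permCongr, Equiv.Perm.sign_sumCongr, hsignreg, mul_one]
    exact Equiv.Perm.mem_alternatingGroup.mp x.1.2
  let F : alternatingGroup (Fin (n - 3)) × Multiplicative (ZMod 3) →*
      alternatingGroup (Fin n) := f.codRestrict (alternatingGroup (Fin n)) hfA
  have hF : Function.Injective F := by
    intro a b hab
    apply hf
    have h := congrArg (fun y : alternatingGroup (Fin n) => (y : Equiv.Perm (Fin n))) hab
    exact h
  let Q : Subgroup (alternatingGroup (Fin (n - 3)) × Multiplicative (ZMod 3)) :=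
    (P : Subgroup (alternatingGroup (Fin (n - 3)))).prod ⊤
  let E₁ : (Q.map F) ≃* Q := (Subgroup.equivMapOfInjective Q F hF).symm
  let E₂ : Q ≃* (↥(P : Subgroup (alternatingGroup (Fin (n - 3)))) ×
      ↥(⊤ : Subgroup (Multiplicative (ZMod 3)))) := Subgroup.prodEquiv _ _
  let E₃ : (↥(P : Subgroup (alternatingGroup (Fin (n - 3)))) ×
      ↥(⊤ : Subgroup (Multiplicative (ZMod 3)))) ≃*
      (↥(P : Subgroup (alternatingGroup (Fin (n - 3)))) × Multiplicative (ZMod 3)) :=
    MulEquiv.prodCongr (MulEquiv.refl _) Subgroup.topEquiv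
  let E : (Q.map F) ≃* (↥(P : Subgroup (alternatingGroup (Fin (n - 3)))) ×
      Multiplicative (ZMod 3)) := (E₁.trans E₂).trans E₃
  haveI : Fact (Nat.Prime 2) := ⟨Nat.prime_two⟩
  haveI hPn : Group.IsNilpotent ↥(P : Subgroup (alternatingGroup (Fin (n - 3)))) :=
    P.isPGroup'.isNilpotent
  haveI hprod : Group.IsNilpotent
      (↥(P : Subgroup (alternatingGroup (Fin (n - 3)))) × Multiplicative (ZMod 3)) :=
    inferInstance
  refine ⟨Q.map F, ?_, ?_, ⟨E⟩⟩
  · exact (Group.isNilpotent_congr E).mpr hprod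
  · rw [Nat.card_congr E.toEquiv, Nat.card_prod]
    have h3' : Nat.card (Multiplicative (ZMod 3)) = 3 := by
      rw [Nat.card_eq_fintype_card]; exact h3
    rw [h3', mul_comm]

end Cfsg.Agent.Helper26
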