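import Mathlib

set_option autoImplicit false

namespace Cfsg.Agent.Helper26

/-- Backup for sprint piece [E] of S2254: a nilpotent subgroup `P × C₃` of `S_n`. -/
theorem exists_nil_three_mul (n : ℕ) (hn : 3 ≤ n) (P : Sylow 2 (Equiv.Perm (Fin (n - 3)))) :
    ∃ M : Subgroup (Equiv.Perm (Fin n)), Group.IsNilpotent M ∧ Nat.card M = 3 * Nat.card P ∧
      Nonempty (M ≃* (↥(P : Subgroup (Equiv.Perm (Fin (n - 3)))) × Multiplicative (ZMod 3))) := by
  classical
  -- the regular representation of C₃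
  let reg : Multiplicative (ZMod 3) →* Equiv.Perm (Multiplicative (ZMod 3)) :=
    MulAction.toPermHom (Multiplicative (ZMod 3)) (Multiplicative (ZMod 3))
  have hreg : Function.Injective reg := MulAction.toPerm_injective
  let g₀ : Equiv.Perm (Fin (n - 3)) × Multiplicative (ZMod 3) →*
      Equiv.Perm (Fin (n - 3)) × Equiv.Perm (Multiplicative (ZMod 3)) :=
    MonoidHom.prodMap (MonoidHom.id _) reg
  have hg₀ : Function.Injective g₀ := by
    intro a b hab
    have h1 : (g₀ a).1 = (g₀ b).1 := congrArg Prod.fst hab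
    have h2 : (g₀ a).2 = (g₀ b).2 := congrArg Prod.snd hab
    have h1' : a.1 = b.1 := h1
    have h2' : reg a.2 = reg b.2 := h2
    exact Prod.ext h1' (hreg h2')
  let g₁ := Equiv.Perm.sumCongrHom (Fin (n - 3)) (Multiplicative (ZMod 3))
  have hg₁ : Function.Injective g₁ := Equiv.Perm.sumCongrHom_injective
  have hcard : Fintype.card (Fin (n - 3) ⊕ Multiplicative (ZMod 3)) = n := by
    have h3 : Fintype.card (Multiplicative (ZMod 3)) = 3 := by
      rw [Fintype.card_congr Multiplicative.toAdd]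
      exact ZMod.card 3
    rw [Fintype.card_sum, Fintype.card_fin, h3]
    omega
  let e : (Fin (n - 3) ⊕ Multiplicative (ZMod 3)) ≃ Fin n := Fintype.equivFinOfCardEq hcard
  let f : Equiv.Perm (Fin (n - 3)) × Multiplicative (ZMod 3) →* Equiv.Perm (Fin n) :=
    (e.permCongrHom.toMonoidHom.comp g₁).comp g₀
  have hf : Function.Injective f := by
    intro a b hab
    apply hg₀
    apply hg₁
    exact e.permCongrHom.injective hab
  let Q : Subgroup (Equiv.Perm (Fin (n - 3)) × Multiplicative (ZMod 3)) :=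
    (P : Subgroup (Equiv.Perm (Fin (n - 3)))).prod ⊤
  let E₁ : (Q.map f) ≃* Q := (Subgroup.equivMapOfInjective Q f hf).symm
  let E₂ : Q ≃* (↥(P : Subgroup (Equiv.Perm (Fin (n - 3)))) ×
      ↥(⊤ : Subgroup (Multiplicative (ZMod 3)))) := Subgroup.prodEquiv _ _
  let E₃ : (↥(P : Subgroup (Equiv.Perm (Fin (n - 3)))) ×
      ↥(⊤ : Subgroup (Multiplicative (ZMod 3)))) ≃*
      (↥(P : Subgroup (Equiv.Perm (Fin (n - 3)))) × Multiplicative (ZMod 3)) :=
    MulEquiv.prodCongr (MulEquiv.refl _) Subgroup.topEquiv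
  let E : (Q.map f) ≃* (↥(P : Subgroup (Equiv.Perm (Fin (n - 3)))) × Multiplicative (ZMod 3)) :=
    (E₁.trans E₂).trans E₃
  haveI : Fact (Nat.Prime 2) := ⟨Nat.prime_two⟩
  haveI hPn : Group.IsNilpotent ↥(P : Subgroup (Equiv.Perm (Fin (n - 3)))) :=
    P.isPGroup'.isNilpotent
  haveI hprod : Group.IsNilpotent
      (↥(P : Subgroup (Equiv.Perm (Fin (n - 3)))) × Multiplicative (ZMod 3)) := inferInstance
  refine ⟨Q.map f, ?_, ?_, ⟨E⟩⟩
  · exact (Group.isNilpotent_congr E).mpr hprod
  · rw [Nat.card_congr E.toEquiv, Nat.card_prod]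
    have h3 : Nat.card (Multiplicative (ZMod 3)) = 3 := by
      rw [Nat.card_congr Multiplicative.toAdd, Nat.card_eq_fintype_card]
      exact ZMod.card 3
    rw [h3, mul_comm]

end Cfsg.Agent.Helper26
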