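import Cfsg.Agent.Helper26.FusionHyp
import Cfsg.Agent.Helper26.FusionAlperin
import Cfsg.Agent.Helper26.FusionSat2

set_option autoImplicit false

namespace Cfsg.Agent.Helper26

open Cfsg Cfsg.FusionSystem

variable {Ω : Type*} [Group Ω] {S : Subgroup Ω}

/-- the full subsystem of a fusion system over `U` on a subgroup `T ≤ U`. -/
def restrictSystem {U : Subgroup Ω} (F₀ : FusionSystem U) (T : Subgroup Ω) (hTU : T ≤ U) :
    FusionSystem T where
  Hom P := {φ | φ ∈ F₀.Hom P ∧ P ≤ T ∧ ∀ x : P, φ x ∈ T}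
  le_of_mem := fun h => ⟨h.2.1, h.2.2⟩
  injective_of_mem := fun h => F₀.injective_of_mem h.1
  conj_mem := by
    intro P g hP hg
    exact ⟨F₀.conj_mem (hP.trans hTU) (hTU hg), hP,
      fun x => T.mul_mem (T.mul_mem hg (hP x.2)) (T.inv_mem hg)⟩
  comp_mem := by
    intro P Q φ ψ hφ hψ h
    exact ⟨F₀.comp_mem hφ.1 hψ.1 h, hφ.2.1, fun x => hψ.2.2 _⟩
  inv_mem := by
    intro P φ hφ
    obtain ⟨χ, hχ, hχφ⟩ := F₀.inv_mem hφ.1
    refine ⟨χ, ⟨hχ, ?_, ?_⟩, hχφ⟩
    · rintro _ ⟨x, rfl⟩; exact hφ.2.2 x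
    · rintro ⟨_, x, rfl⟩
      rw [hχφ]; exact hφ.2.1 x.2

theorem mem_restrictSystem_hom {U : Subgroup Ω} (F₀ : FusionSystem U) {T : Subgroup Ω}
    (hTU : T ≤ U) {P : Subgroup Ω} {φ : P →* Ω} :
    φ ∈ (restrictSystem F₀ T hTU).Hom P ↔ (φ ∈ F₀.Hom P ∧ P ≤ T ∧ ∀ x : P, φ x ∈ T) :=
  Iff.rfl

theorem mem_restrict_autGroup {U : Subgroup Ω} (F₀ : FusionSystem U) {T : Subgroup Ω}
    (hTU : T ≤ U) {P : Subgroup Ω} (hPT : P ≤ T) {α : MulAut P} (hα : α ∈ F₀.autGroup P) :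
    α ∈ (restrictSystem F₀ T hTU).autGroup P := by
  rw [mem_autGroup_iff _ hPT, mem_restrictSystem_hom]
  rw [mem_autGroup_iff F₀ (hPT.trans hTU)] at hα
  exact ⟨hα, hPT, fun x => hPT (α x).2⟩

theorem autGroup_le_of_subsystem {T : Subgroup Ω} (E : FusionSystem T) (F : FusionSystem S)
    (hEF : E.IsSubsystemOf F) {P : Subgroup Ω} (hPT : P ≤ T) : E.autGroup P ≤ F.autGroup P := by
  intro α hα
  have h1 := (mem_autGroup_iff E hPT).1 hα
  have h2 := hEF P h1
  exact (mem_autGroup_iff F (F.le_of_mem h2).1).2 h2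

theorem subsystem_of_pPowerIndex [Finite S] (p : ℕ) [Fact p.Prime] (hS : IsPGroup p S)
    (F : FusionSystem S) {T U : Subgroup Ω} (E : FusionSystem T) (hEsat : E.IsSaturated p)
    (hEF : E.IsSubsystemOf F) (F₀ : FusionSystem U) (hTU : T ≤ U)
    (hidx : F₀.HasPPowerIndexIn F p) : E.IsSubsystemOf F₀ := by
  have hTS : T ≤ S := (F.le_of_mem (hEF T (incl_mem E le_rfl))).1
  have hfinT : Finite T := finite_of_le hTS
  have hTp : IsPGroup p T := hS.to_le hTS
  have key : ∀ P : Subgroup Ω, E.IsFullyNormalized P →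
      E.autGroup P ≤ (restrictSystem F₀ T hTU).autGroup P := by
    intro P hP α hα
    have hPT : P ≤ T := hP.1
    have hfinP : Finite P := finite_of_le (hPT.trans hTS)
    apply mem_restrict_autGroup F₀ hTU hPT
    obtain ⟨-, R, hR⟩ := (sat_fullyNormalized p hTp E hEsat hP).2
    obtain ⟨b, hb, r, hr, hαbr⟩ := exists_mul_sylow_pResidual R ⟨α, hα⟩
    have hα' : α = (b : MulAut P) * (r : MulAut P) :=
      congrArg (fun z : ↥(E.autGroup P) => (z : MulAut P)) hαbr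
    rw [hα']
    apply mul_mem
    · have hle : E.autGroup P ≤ F.autGroup P := autGroup_le_of_subsystem E F hEF hPT
      have h1 : Subgroup.inclusion hle b ∈ pResidual p ↥(F.autGroup P) :=
        pResidual_map_le p (Subgroup.inclusion hle) (Subgroup.inclusion_injective hle)
          ⟨b, hb, rfl⟩
      exact hidx.2.2 P (hPT.trans hTU) ⟨Subgroup.inclusion hle b, h1, rfl⟩
    · rw [hR, Subgroup.mem_subgroupOf] at hr
      obtain ⟨g, hg, hgr⟩ := mem_autInducedBy_iff.1 hr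
      exact autInducedBy_le_autGroup F₀ (hPT.trans hTU)
        (mem_autInducedBy_iff.2 ⟨g, hTU hg, hgr⟩)
  have hle := alperin p hTp E hEsat (restrictSystem F₀ T hTU) (fun P hP => key P (by
    rcases hP with rfl | hess
    · exact ⟨le_rfl, fun Q hQ => by
        have h := isConj_top_eq E hQ
        rw [h]⟩
    · exact hess.2.1))
  intro P φ hφ
  exact (hle P hφ).1

end Cfsg.Agent.Helper26
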