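import Cfsg.Agent.Helper26.TwSys
import Cfsg.Agent.Helper26.PPowerSub
import Cfsg.Agent.Helper26.FusionHyp2
import Cfsg.Agent.Helper26.FusionNormal3
import Cfsg.Agent.Helper26.FusionSat2

set_option autoImplicit false

namespace Cfsg.Agent.Helper26

open Cfsg Cfsg.FusionSystem

variable {Ω : Type*} [Group Ω] {S : Subgroup Ω}

theorem mem_submonoid_of_mem_closure {G : Type*} [Group G] [Finite G] (M : Submonoid G)
    {k : Set G} (hk : ∀ x ∈ k, x ∈ M) {x : G} (hx : x ∈ Subgroup.closure k) : x ∈ M := by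
  induction hx using Subgroup.closure_induction with
  | mem y hy => exact hk y hy
  | one => exact M.one_mem
  | mul y z _ _ hy hz => exact M.mul_mem hy hz
  | inv y _ hy =>
    have e : y⁻¹ = y ^ (orderOf y - 1) := by
      apply inv_eq_of_mul_eq_one_right
      rw [← pow_succ', Nat.sub_add_cancel (orderOf_pos y), pow_orderOf_eq_one]
    rw [e]
    exact M.pow_mem hy _

/-- Automorphisms in `Aut_F(P)` all of whose `Aut_F(T)`-twists on `P ∩ T` lie in `E`. -/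
def twMon (F : FusionSystem S) {T : Subgroup Ω} (E : FusionSystem T) (hT : F.StronglyClosed T)
    {P : Subgroup Ω} (hPS : P ≤ S) : Submonoid (MulAut P) where
  carrier := {c | c ∈ F.autGroup P ∧
    ∀ β ∈ F.autGroup T, TwIn E β β (P.subtype.comp c.toMonoidHom)}
  mul_mem' := by
    rintro a b ⟨ha, ha'⟩ ⟨hb, hb'⟩
    refine ⟨mul_mem ha hb, fun β hβ => ?_⟩
    have hQ : ∀ x : P, (P.subtype.comp b.toMonoidHom) x ∈ P := fun x => (b x).2
    have hφT : ∀ x : P, (x : Ω) ∈ T → (P.subtype.comp b.toMonoidHom) x ∈ T :=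
      fun x hx => stronglyClosed_autGroup_maps F hT hPS hb x hx
    have e : P.subtype.comp (a * b).toMonoidHom =
        (P.subtype.comp a.toMonoidHom).comp ((P.subtype.comp b.toMonoidHom).codRestrict P hQ) :=
      MonoidHom.ext (fun x => rfl)
    rw [e]
    exact tw_comp E hQ hφT (hb' β hβ) (ha' β hβ)
  one_mem' := by
    refine ⟨one_mem _, fun β hβ => ?_⟩
    have h1 := (tw_of_agree E β 1 (P.subtype.comp (1 : MulAut P).toMonoidHom)
      (fun x hx => rfl)).2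
    rwa [mul_one] at h1

theorem autInducedBy_le_twMon (F : FusionSystem S) {T : Subgroup Ω} (E : FusionSystem T)
    (hT : F.StronglyClosed T) {P : Subgroup Ω} (hPS : P ≤ S) {a : MulAut P}
    (ha : a ∈ autInducedBy T P) : a ∈ twMon F E hT hPS := by
  obtain ⟨t, ht, hat⟩ := mem_autInducedBy_iff.1 ha
  have hTS : T ≤ S := hT.1
  refine ⟨autInducedBy_le_autGroup F hPS (mem_autInducedBy_iff.2 ⟨t, hTS ht, hat⟩),
    fun β hβ => ?_⟩
  refine ⟨conjHom (Helper27.imAut β (P ⊓ T)) ((β ⟨t, ht⟩ : T) : Ω),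
    E.conj_mem (Helper27.imAut_le β _) (β ⟨t, ht⟩).2, fun x hx hφ hm => ?_⟩
  have e : (⟨(P.subtype.comp a.toMonoidHom) x, hφ⟩ : T) = ⟨t, ht⟩ * ⟨x, hx⟩ * ⟨t, ht⟩⁻¹ :=
    Subtype.ext (hat x)
  have e2 : β (⟨t, ht⟩ * ⟨x, hx⟩ * ⟨t, ht⟩⁻¹) = β ⟨t, ht⟩ * β ⟨x, hx⟩ * (β ⟨t, ht⟩)⁻¹ := by
    rw [map_mul, map_mul, map_inv]
  exact (congrArg (fun z : T => (z : Ω)) ((congrArg β e).trans e2)).symm

theorem pPrime_mem_twMon [Finite S] (p : ℕ) (F : FusionSystem S)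
    {T : Subgroup Ω} (E : FusionSystem T) (hT : F.StronglyClosed T)
    (hidx : ∀ Q : Subgroup Ω, Q ≤ T →
      (pResidual p (F.autGroup Q)).map (F.autGroup Q).subtype ≤ E.autGroup Q)
    {P : Subgroup Ω} (hPS : P ≤ S) {a : MulAut P} (ha : a ∈ F.autGroup P)
    (hcop : Nat.Coprime (orderOf a) p) : a ∈ twMon F E hT hPS := by
  have hTS : T ≤ S := hT.1
  have hIP : P ⊓ T ≤ P := inf_le_left
  have hIT : P ⊓ T ≤ T := inf_le_right
  have hPfin : Finite P := finite_of_le hPS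
  have hIfin : Finite ↥(P ⊓ T) := finite_of_le (hIP.trans hPS)
  have haF : P.subtype.comp a.toMonoidHom ∈ F.Hom P := (mem_autGroup_iff F hPS).1 ha
  have himg : ((P ⊓ T).subgroupOf P).map (P.subtype.comp a.toMonoidHom) = P ⊓ T := by
    apply Subgroup.eq_of_le_of_card_ge
    · rintro _ ⟨x, hx, rfl⟩
      have hxI : (x : Ω) ∈ P ⊓ T := Subgroup.mem_subgroupOf.1 hx
      exact Subgroup.mem_inf.2 ⟨(a x).2,
        stronglyClosed_autGroup_maps F hT hPS ha x (Subgroup.mem_inf.1 hxI).2⟩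
    · rw [card_map_subgroupOf hIP (F.injective_of_mem haF)]
  obtain ⟨κ, hκ⟩ := exists_restrict_iso' _ (F.injective_of_mem haF) hIP himg
  have hκF : κ ∈ F.autGroup (P ⊓ T) := by
    rw [mem_autGroup_iff F (hIT.trans hTS)]
    exact restrict_mem F haF hIP hκ
  have hκord : orderOf κ ∣ orderOf a := by
    apply orderOf_dvd_of_pow_eq_one
    apply MulEquiv.ext
    intro x
    apply Subtype.ext
    have h1 := pow_restrict hIP a κ (fun y => (hκ y).symm) (orderOf a) x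
    rw [pow_orderOf_eq_one] at h1
    exact h1.symm
  have hκcop : Nat.Coprime (orderOf κ) p := Nat.Coprime.coprime_dvd_left hκord hcop
  refine ⟨ha, fun β hβ => ?_⟩
  have hβF : T.subtype.comp β.toMonoidHom ∈ F.Hom T := (mem_autGroup_iff F hTS).1 hβ
  obtain ⟨eβ, heβ⟩ := exists_restrict_iso' (T.subtype.comp β.toMonoidHom)
    (F.injective_of_mem hβF) hIT
    (rfl : ((P ⊓ T).subgroupOf T).map (T.subtype.comp β.toMonoidHom) =
      Helper27.imAut β (P ⊓ T))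
  have heβF : (Helper27.imAut β (P ⊓ T)).subtype.comp eβ.toMonoidHom ∈ F.Hom (P ⊓ T) :=
    restrict_mem F hβF hIT heβ
  have hκ'F : MulAut.congr eβ κ ∈ F.autGroup (Helper27.imAut β (P ⊓ T)) :=
    congr_mem_autGroup F eβ heβF hκF
  have e1 : orderOf (⟨MulAut.congr eβ κ, hκ'F⟩ : ↥(F.autGroup (Helper27.imAut β (P ⊓ T)))) =
      orderOf (MulAut.congr eβ κ) := (Subgroup.orderOf_coe _).symm
  have e2 : orderOf (MulAut.congr eβ κ) = orderOf κ := (MulAut.congr eβ).orderOf_eq _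
  have hmemE : MulAut.congr eβ κ ∈ E.autGroup (Helper27.imAut β (P ⊓ T)) := by
    refine hidx _ (Helper27.imAut_le β _) ⟨⟨MulAut.congr eβ κ, hκ'F⟩, ?_, rfl⟩
    apply Subgroup.subset_closure
    show Nat.Coprime (orderOf (⟨MulAut.congr eβ κ, hκ'F⟩ :
      ↥(F.autGroup (Helper27.imAut β (P ⊓ T))))) p
    rw [e1, e2]
    exact hκcop
  have hχ := (mem_autGroup_iff E (Helper27.imAut_le β (P ⊓ T))).1 hmemE
  refine ⟨_, hχ, fun x hx hφ hm => ?_⟩
  have hxI : (x : Ω) ∈ P ⊓ T := Subgroup.mem_inf.2 ⟨x.2, hx⟩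
  have e3 : (⟨((β ⟨x, hx⟩ : T) : Ω), hm⟩ : ↥(Helper27.imAut β (P ⊓ T))) = eβ ⟨x, hxI⟩ :=
    Subtype.ext (heβ ⟨x, hxI⟩).symm
  have e4 : (⟨((κ ⟨x, hxI⟩ : ↥(P ⊓ T)) : Ω), hIT (κ ⟨x, hxI⟩).2⟩ : T) =
      ⟨(P.subtype.comp a.toMonoidHom) x, hφ⟩ := Subtype.ext (hκ ⟨x, hxI⟩)
  have e5 : ((eβ (κ ⟨x, hxI⟩) : ↥(Helper27.imAut β (P ⊓ T))) : Ω) =
      ((β ⟨(P.subtype.comp a.toMonoidHom) x, hφ⟩ : T) : Ω) :=
    (heβ (κ ⟨x, hxI⟩)).trans (congrArg (fun z : T => ((β z : T) : Ω)) e4)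
  show ((eβ (κ (eβ.symm ⟨((β ⟨x, hx⟩ : T) : Ω), hm⟩)) : ↥(Helper27.imAut β (P ⊓ T))) : Ω) = _
  rw [e3, MulEquiv.symm_apply_apply]
  exact e5

/-- The maps of `E` all of whose `Aut_F(T)`-twists lie in `E`. -/
def invSys (F : FusionSystem S) {T : Subgroup Ω} (E : FusionSystem T) : FusionSystem T where
  Hom P := {φ | φ ∈ E.Hom P ∧ ∀ β ∈ F.autGroup T, TwIn E β β φ}
  le_of_mem := fun h => E.le_of_mem h.1
  injective_of_mem := fun h => E.injective_of_mem h.1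
  conj_mem := by
    intro P g hP hg
    refine ⟨E.conj_mem hP hg, fun β hβ => ?_⟩
    refine ⟨conjHom (Helper27.imAut β (P ⊓ T)) ((β ⟨g, hg⟩ : T) : Ω),
      E.conj_mem (Helper27.imAut_le β _) (β ⟨g, hg⟩).2, fun x hx hφ hm => ?_⟩
    have e : (⟨conjHom P g x, hφ⟩ : T) = ⟨g, hg⟩ * ⟨x, hx⟩ * ⟨g, hg⟩⁻¹ := Subtype.ext rfl
    have e2 : β (⟨g, hg⟩ * ⟨x, hx⟩ * ⟨g, hg⟩⁻¹) = β ⟨g, hg⟩ * β ⟨x, hx⟩ * (β ⟨g, hg⟩)⁻¹ := by
      rw [map_mul, map_mul, map_inv]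
    exact (congrArg (fun z : T => (z : Ω)) ((congrArg β e).trans e2)).symm
  comp_mem := by
    intro P Q φ ψ hφ hψ h
    have hφT : ∀ x : P, (x : Ω) ∈ T → φ x ∈ T := fun x _ => (E.le_of_mem hφ.1).2 x
    exact ⟨E.comp_mem hφ.1 hψ.1 h, fun β hβ => tw_comp E h hφT (hφ.2 β hβ) (hψ.2 β hβ)⟩
  inv_mem := by
    intro P φ hφ
    obtain ⟨ψ, hψ, hinv⟩ := E.inv_mem hφ.1
    have hφT : ∀ x : P, φ x ∈ T → (x : Ω) ∈ T := fun x _ => (E.le_of_mem hφ.1).1 x.2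
    exact ⟨ψ, ⟨hψ, fun β hβ => tw_inv E hφT hinv (hφ.2 β hβ)⟩, hinv⟩

theorem pPower_le_invSys [Finite S] (p : ℕ) [Fact p.Prime] (hS : IsPGroup p S)
    (F : FusionSystem S) {T : Subgroup Ω} (E : FusionSystem T) (hEs : E.IsSaturated p)
    (hT : F.StronglyClosed T) (hEi : E.HasPPowerIndexIn F p) :
    E.IsSubsystemOf (invSys F E) := by
  have hTS : T ≤ S := hT.1
  refine subsystem_of_pPowerIndex p hS F E hEs hEi.1 (invSys F E) le_rfl
    ⟨fun P φ h => hEi.1 P h.1, hEi.2.1, fun P hPT => ?_⟩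
  rintro _ ⟨b, hb, rfl⟩
  have hPS : P ≤ S := hPT.trans hTS
  have hPfin : Finite P := finite_of_le hPS
  have hbE : (b : MulAut P) ∈ E.autGroup P := hEi.2.2 P hPT ⟨b, hb, rfl⟩
  have hmem : (b : MulAut P) ∈ twMon F E hT hPS := by
    have h1 : b ∈ (twMon F E hT hPS).comap (F.autGroup P).subtype := by
      refine mem_submonoid_of_mem_closure _ ?_ hb
      intro a ha
      exact pPrime_mem_twMon p F E hT hEi.2.2 hPS a.2
        (by have ha' : Nat.Coprime (orderOf a) p := ha; rw [← Subgroup.orderOf_coe] at ha'; exact ha')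
    exact h1
  exact (mem_autGroup_iff (invSys F E) hPT).2 ⟨(mem_autGroup_iff E hPT).1 hbE, hmem.2⟩

theorem pPower_hC [Finite S] (p : ℕ) [Fact p.Prime] (hS : IsPGroup p S) (F : FusionSystem S)
    (hF : F.IsSaturated p) {T : Subgroup Ω} (E : FusionSystem T) (hT : F.StronglyClosed T)
    (hTn : ∀ s ∈ S, ∀ t ∈ T, s * t * s⁻¹ ∈ T)
    (hidx : ∀ Q : Subgroup Ω, Q ≤ T →
      (pResidual p (F.autGroup Q)).map (F.autGroup Q).subtype ≤ E.autGroup Q)
    (P : Subgroup Ω) (hPn : F.IsFullyNormalized P) (hTP : ¬ T ≤ P) :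
    ∃ (C : Subgroup (MulAut P)) (g : Ω) (hgN : g ∈ Subgroup.normalizer (P : Set Ω)),
      C ≤ F.autGroup P ∧ (∀ k ∈ F.autGroup P, ∀ c ∈ C, k * c * k⁻¹ ∈ C) ∧ g ∈ S ∧ g ∉ P ∧
      P.normalizerMonoidHom ⟨g, hgN⟩ ∈ C ∧
      ∀ c ∈ C, ∀ β ∈ F.autGroup T, TwIn E β β (P.subtype.comp c.toMonoidHom) := by
  have hPS : P ≤ S := hPn.1
  have hPfin : Finite P := finite_of_le hPS
  have hTS : T ≤ S := hT.1
  obtain ⟨g, hgT, hgN, hgP⟩ : ∃ g ∈ T, g ∈ Subgroup.normalizer (P : Set Ω) ∧ g ∉ P := by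
    by_contra hcon
    apply hTP
    apply le_of_normalizer_le hS F hT hPS
    intro q hq hqN
    by_contra hqP
    exact hcon ⟨q, hq, hqN, hqP⟩
  obtain ⟨B, hBdef⟩ : ∃ B : Subgroup (MulAut P),
      B = (pResidual p (F.autGroup P)).map (F.autGroup P).subtype := ⟨_, rfl⟩
  have hBA : B ≤ F.autGroup P := by rw [hBdef]; exact Subgroup.map_subtype_le _
  have hTA : autInducedBy T P ≤ F.autGroup P := by
    intro a ha
    obtain ⟨t, ht, hat⟩ := mem_autInducedBy_iff.1 ha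
    exact autInducedBy_le_autGroup F hPS (mem_autInducedBy_iff.2 ⟨t, hTS ht, hat⟩)
  have hCA : autInducedBy T P ⊔ B ≤ F.autGroup P := sup_le hTA hBA
  have hBn : ∀ k ∈ F.autGroup P, ∀ c ∈ B, k * c * k⁻¹ ∈ B := by
    intro k hk c hc
    rw [hBdef] at hc ⊢
    obtain ⟨c₀, hc₀, rfl⟩ := hc
    exact ⟨(⟨k, hk⟩ : ↥(F.autGroup P)) * c₀ * (⟨k, hk⟩ : ↥(F.autGroup P))⁻¹,
      (pResidual_normal p _).conj_mem c₀ hc₀ ⟨k, hk⟩, rfl⟩
  have hTn' : ∀ r ∈ autInducedBy S P, ∀ c ∈ autInducedBy T P,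
      r * c * r⁻¹ ∈ autInducedBy T P := by
    intro r hr c hc
    obtain ⟨s, hs, hrs⟩ := mem_autInducedBy_iff.1 hr
    obtain ⟨t, ht, hct⟩ := mem_autInducedBy_iff.1 hc
    refine mem_autInducedBy_iff.2 ⟨s * t * s⁻¹, hTn s hs t ht, fun x => ?_⟩
    have h1 : ((r⁻¹ x : P) : Ω) = s⁻¹ * (x : Ω) * s := by
      have h2 := hrs (r⁻¹ x)
      rw [MulAut.apply_inv_self] at h2
      rw [h2]; group
    have h3 : ((r (c (r⁻¹ x)) : P) : Ω) = s * (t * (s⁻¹ * (x : Ω) * s) * t⁻¹) * s⁻¹ := by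
      rw [hrs, hct, h1]
    have h4 : s * (t * (s⁻¹ * (x : Ω) * s) * t⁻¹) * s⁻¹ =
        s * t * s⁻¹ * (x : Ω) * (s * t * s⁻¹)⁻¹ := by group
    exact h3.trans h4
  have hCS : ∀ r ∈ autInducedBy S P, ∀ c ∈ autInducedBy T P ⊔ B,
      r * c * r⁻¹ ∈ autInducedBy T P ⊔ B := by
    intro r hr c hc
    have hrA : r ∈ F.autGroup P := autInducedBy_le_autGroup F hPS hr
    have hle : (autInducedBy T P ⊔ B).map (MulAut.conj r).toMonoidHom ≤
        autInducedBy T P ⊔ B := by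
      rw [Subgroup.map_sup]
      refine sup_le_sup ?_ ?_
      · rintro _ ⟨c', hc', rfl⟩
        exact hTn' r hr c' hc'
      · rintro _ ⟨c', hc', rfl⟩
        exact hBn r hrA c' hc'
    exact hle ⟨c, hc, rfl⟩
  have hCn : ∀ k ∈ F.autGroup P, ∀ c ∈ autInducedBy T P ⊔ B,
      k * c * k⁻¹ ∈ autInducedBy T P ⊔ B := by
    intro k hk c hc
    obtain ⟨R, hR⟩ := (sat_fullyNormalized p hS F hF hPn).2.2
    obtain ⟨b, hb, r, hr, hkbr⟩ := exists_mul_sylow_pResidual R ⟨k, hk⟩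
    have hr' : (r : MulAut P) ∈ autInducedBy S P := by
      rw [hR] at hr
      exact Subgroup.mem_subgroupOf.1 hr
    have hbB : (b : MulAut P) ∈ autInducedBy T P ⊔ B := by
      apply Subgroup.mem_sup_right
      rw [hBdef]
      exact ⟨b, hb, rfl⟩
    have hk' : k = (b : MulAut P) * (r : MulAut P) := congrArg Subtype.val hkbr
    have h1 := hCS r hr' c hc
    have h2 : (b : MulAut P) * ((r : MulAut P) * c * (r : MulAut P)⁻¹) * (b : MulAut P)⁻¹ ∈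
        autInducedBy T P ⊔ B :=
      Subgroup.mul_mem _ (Subgroup.mul_mem _ hbB h1) (Subgroup.inv_mem _ hbB)
    have e : k * c * k⁻¹ =
        (b : MulAut P) * ((r : MulAut P) * c * (r : MulAut P)⁻¹) * (b : MulAut P)⁻¹ := by
      rw [hk']; group
    rw [e]; exact h2
  refine ⟨autInducedBy T P ⊔ B, g, hgN, hCA, hCn, hTS hgT, hgP, ?_, ?_⟩
  · exact Subgroup.mem_sup_left (mem_autInducedBy_iff.2 ⟨g, hgT, fun x => rfl⟩)
  · intro c hc
    have hle : autInducedBy T P ⊔ B ≤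
        Subgroup.closure ((autInducedBy T P : Set (MulAut P)) ∪ (B : Set (MulAut P))) :=
      sup_le (fun x hx => Subgroup.subset_closure (Or.inl hx))
        (fun x hx => Subgroup.subset_closure (Or.inr hx))
    have hmem : c ∈ twMon F E hT hPS := by
      refine mem_submonoid_of_mem_closure _ ?_ (hle hc)
      rintro a (ha | ha)
      · exact autInducedBy_le_twMon F E hT hPS ha
      · rw [hBdef] at ha
        obtain ⟨b, hb, rfl⟩ := ha
        have h1 : b ∈ (twMon F E hT hPS).comap (F.autGroup P).subtype := by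
          refine mem_submonoid_of_mem_closure _ ?_ hb
          intro a ha
          exact pPrime_mem_twMon p F E hT hidx hPS a.2
            (by have ha' : Nat.Coprime (orderOf a) p := ha; rw [← Subgroup.orderOf_coe] at ha'; exact ha')
        exact h1
    exact hmem.2

theorem stronglyClosed_of_hyperfocal_le [Finite S] (p : ℕ) [Fact p.Prime] (hS : IsPGroup p S)
    (F : FusionSystem S) (hF : F.IsSaturated p) (T : Subgroup Ω) (hTS : T ≤ S)
    (hTn : ∀ s ∈ S, ∀ t ∈ T, s * t * s⁻¹ ∈ T) (hT : F.hyperfocalSubgroup p ≤ T) :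
    F.StronglyClosed T := by
  refine ⟨hTS, fun R hR φ hφ x => ?_⟩
  obtain ⟨s, hs, h⟩ := exists_conj_mod_hyperfocal p hS F hF hφ
  have e : φ x = (s * (x : Ω) * s⁻¹) * ((s * (x : Ω) * s⁻¹)⁻¹ * φ x) := by group
  rw [e]
  exact Subgroup.mul_mem _ (hTn s hs _ (hR x.2)) (hT (h x))

theorem aut_center_mem {T : Subgroup Ω} (α : MulAut T) {z : Ω}
    (hz : z ∈ T ⊓ Subgroup.centralizer (T : Set Ω)) :
    ((α ⟨z, hz.1⟩ : T) : Ω) ∈ T ⊓ Subgroup.centralizer (T : Set Ω) := by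
  refine ⟨(α ⟨z, hz.1⟩).2, Subgroup.mem_centralizer_iff.2 ?_⟩
  intro t ht
  have h1 : (α⁻¹ ⟨t, ht⟩ : T) * ⟨z, hz.1⟩ = ⟨z, hz.1⟩ * (α⁻¹ ⟨t, ht⟩ : T) :=
    Subtype.ext (Subgroup.mem_centralizer_iff.1 hz.2 _ (α⁻¹ ⟨t, ht⟩).2)
  have h2 := congrArg α h1
  rw [map_mul, map_mul, MulAut.apply_inv_self] at h2
  exact congrArg Subtype.val h2

theorem hom_map_centralizer {U T : Subgroup Ω} (f : U →* Ω)
    (hsurj : ∀ t ∈ T, ∃ t' : U, (t' : Ω) ∈ T ∧ f t' = t) (y : U)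
    (hy : (y : Ω) ∈ Subgroup.centralizer (T : Set Ω)) :
    f y ∈ Subgroup.centralizer (T : Set Ω) := by
  rw [Subgroup.mem_centralizer_iff]
  intro t ht
  obtain ⟨t', ht', rfl⟩ := hsurj t ht
  have h1 : t' * y = y * t' := Subtype.ext (Subgroup.mem_centralizer_iff.1 hy _ ht')
  have h2 := congrArg f h1
  rw [map_mul, map_mul] at h2
  exact h2

/-- Automorphisms of `T` with an extension to `T C_S(T)` in `F` acting on `C_S(T)` modulo
`Z(T)`. -/
def extMon (F : FusionSystem S) (T : Subgroup Ω) : Submonoid (MulAut T) where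
  carrier := {α | ∃ β ∈ F.autGroup (T ⊔ centralizerIn S T),
    (∀ x : T, ((β (Subgroup.inclusion le_sup_left x) : ↥(T ⊔ centralizerIn S T)) : Ω) =
      ((α x : T) : Ω)) ∧
    ∀ c : ↥(T ⊔ centralizerIn S T), (c : Ω) ∈ centralizerIn S T →
      (c : Ω)⁻¹ * ((β c : ↥(T ⊔ centralizerIn S T)) : Ω) ∈
        T ⊓ Subgroup.centralizer (T : Set Ω)}
  one_mem' := by
    refine ⟨1, one_mem _, fun x => rfl, fun c _ => ?_⟩
    have e : (c : Ω)⁻¹ * (((1 : MulAut ↥(T ⊔ centralizerIn S T)) c :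
        ↥(T ⊔ centralizerIn S T)) : Ω) = 1 := inv_mul_cancel _
    rw [e]
    exact Subgroup.one_mem _
  mul_mem' := by
    rintro α₁ α₂ ⟨β₁, hβ₁, h₁, hc₁⟩ ⟨β₂, hβ₂, h₂, hc₂⟩
    refine ⟨β₁ * β₂, mul_mem hβ₁ hβ₂, fun x => ?_, fun c hc => ?_⟩
    · have e : β₂ (Subgroup.inclusion le_sup_left x) =
          Subgroup.inclusion le_sup_left (α₂ x) := Subtype.ext (h₂ x)
      exact (congrArg (fun w => ((β₁ w : ↥(T ⊔ centralizerIn S T)) : Ω)) e).trans (h₁ (α₂ x))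
    · obtain ⟨z, hzdef⟩ : ∃ z : Ω,
          z = (c : Ω)⁻¹ * ((β₂ c : ↥(T ⊔ centralizerIn S T)) : Ω) := ⟨_, rfl⟩
      have hz : z ∈ T ⊓ Subgroup.centralizer (T : Set Ω) := by rw [hzdef]; exact hc₂ c hc
      have hzT : z ∈ T := hz.1
      have e : β₂ c = c * Subgroup.inclusion le_sup_left (⟨z, hzT⟩ : T) := by
        apply Subtype.ext
        show ((β₂ c : ↥(T ⊔ centralizerIn S T)) : Ω) = (c : Ω) * z
        rw [hzdef]; group
      have h3 : ((β₁ (β₂ c) : ↥(T ⊔ centralizerIn S T)) : Ω) =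
          ((β₁ c : ↥(T ⊔ centralizerIn S T)) : Ω) * ((α₁ ⟨z, hzT⟩ : T) : Ω) := by
        rw [e, map_mul]
        exact congrArg (fun w => ((β₁ c : ↥(T ⊔ centralizerIn S T)) : Ω) * w) (h₁ ⟨z, hzT⟩)
      have h4 : (c : Ω)⁻¹ * ((β₁ (β₂ c) : ↥(T ⊔ centralizerIn S T)) : Ω) =
          ((c : Ω)⁻¹ * ((β₁ c : ↥(T ⊔ centralizerIn S T)) : Ω)) *
            ((α₁ ⟨z, hzT⟩ : T) : Ω) := by
        rw [h3, mul_assoc]
      have h5 : ((c : Ω)⁻¹ * ((β₁ c : ↥(T ⊔ centralizerIn S T)) : Ω)) *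
          ((α₁ ⟨z, hzT⟩ : T) : Ω) ∈ T ⊓ Subgroup.centralizer (T : Set Ω) :=
        Subgroup.mul_mem _ (hc₁ c hc) (aut_center_mem α₁ hz)
      exact h4 ▸ h5

theorem inner_mem_extMon (F : FusionSystem S) {T : Subgroup Ω} (hTS : T ≤ S) {α : MulAut T}
    (hα : α ∈ autInducedBy T T) : α ∈ extMon F T := by
  obtain ⟨t, ht, hαt⟩ := mem_autInducedBy_iff.1 hα
  have hUS : T ⊔ centralizerIn S T ≤ S := sup_le hTS (centralizerIn_le S T)
  have htU : t ∈ T ⊔ centralizerIn S T := Subgroup.mem_sup_left ht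
  refine ⟨MulAut.conj (⟨t, htU⟩ : ↥(T ⊔ centralizerIn S T)), ?_, fun x => (hαt x).symm,
    fun c hc => ?_⟩
  · rw [mem_autGroup_iff F hUS]
    exact mem_of_eq F (F.conj_mem hUS (hTS ht)) (fun y => rfl)
  · obtain ⟨-, hcc⟩ := mem_centralizerIn.1 hc
    have h1 : t * (c : Ω) = (c : Ω) * t := hcc t ht
    have e : (c : Ω)⁻¹ * (t * (c : Ω) * t⁻¹) = 1 := by rw [h1]; group
    have h2 : (c : Ω)⁻¹ * (t * (c : Ω) * t⁻¹) ∈ T ⊓ Subgroup.centralizer (T : Set Ω) := by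
      rw [e]; exact Subgroup.one_mem _
    exact h2

theorem pPrime_mem_extMon [Finite S] (p : ℕ) [Fact p.Prime] (hS : IsPGroup p S)
    (F : FusionSystem S) (hF : F.IsSaturated p) {T : Subgroup Ω} (hT : F.StronglyClosed T)
    (hhyp : F.hyperfocalSubgroup p ≤ T) {α : MulAut T} (hα : α ∈ F.autGroup T)
    (hcop : Nat.Coprime (orderOf α) p) : α ∈ extMon F T := by
  have hTS : T ≤ S := hT.1
  have hTfin : Finite T := finite_of_le hTS
  have hCS : centralizerIn S T ≤ S := centralizerIn_le S T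
  have hUS : T ⊔ centralizerIn S T ≤ S := sup_le hTS hCS
  have hUfin : Finite ↥(T ⊔ centralizerIn S T) := finite_of_le hUS
  have hαF : T.subtype.comp α.toMonoidHom ∈ F.Hom T := (mem_autGroup_iff F hTS).1 hα
  have hwc := weaklyClosed_of_stronglyClosed F hT
  have hTfn : F.IsFullyNormalized T := by
    refine ⟨hTS, fun Q hQ => ?_⟩
    obtain ⟨φ, hφ, rfl⟩ := hQ
    exact le_of_eq (congrArg (fun X : Subgroup Ω => Nat.card ↥(normalizerIn S X)) (hwc.2 φ hφ))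
  have hfc := (sat_fullyNormalized p hS F hF hTfn).1
  have hrec := receptive_of_fullyCentralized p hS F hF hfc
  obtain ⟨ψ, hψ, hψe⟩ := hrec.2 T (T.subtype.comp α.toMonoidHom) hαF (range_iso α)
  have hUle : T ⊔ centralizerIn S T ≤ extender S T (T.subtype.comp α.toMonoidHom) :=
    sup_le (le_extender F hαF) (centralizerIn_le_extender S T _)
  obtain ⟨ψU, hψUdef⟩ : ∃ ψU : ↥(T ⊔ centralizerIn S T) →* Ω,
      ψU = ψ.comp (Subgroup.inclusion hUle) := ⟨_, rfl⟩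
  have hψU : ψU ∈ F.Hom (T ⊔ centralizerIn S T) := by
    rw [hψUdef]; exact restrict_mem F hψ hUle (fun _ => rfl)
  have hψUT : ∀ (t : Ω) (ht : t ∈ T),
      ψU ⟨t, (le_sup_left : T ≤ T ⊔ centralizerIn S T) ht⟩ = ((α ⟨t, ht⟩ : T) : Ω) := by
    intro t ht
    subst hψUdef
    exact hψe t ht (hUle ((le_sup_left : T ≤ T ⊔ centralizerIn S T) ht))
  have hsurjψ : ∀ t ∈ T, ∃ t' : ↥(T ⊔ centralizerIn S T), (t' : Ω) ∈ T ∧ ψU t' = t := by
    intro t ht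
    exact ⟨⟨((α⁻¹ ⟨t, ht⟩ : T) : Ω),
      (le_sup_left : T ≤ T ⊔ centralizerIn S T) (α⁻¹ ⟨t, ht⟩).2⟩, (α⁻¹ ⟨t, ht⟩).2,
      (hψUT _ (α⁻¹ ⟨t, ht⟩).2).trans
        (congrArg Subtype.val (MulAut.apply_inv_self _ α ⟨t, ht⟩))⟩
  have hψUU : ∀ y : ↥(T ⊔ centralizerIn S T), ψU y ∈ T ⊔ centralizerIn S T := by
    refine forall_sup_mem ψU (fun a ha => ?_) (fun b hb => ?_)
    · rw [hψUT a ha]; exact Subgroup.mem_sup_left (α ⟨a, ha⟩).2
    · have hb2 : b ∈ Subgroup.centralizer (T : Set Ω) := (Subgroup.mem_inf.1 hb).2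
      have h1 : ψU ⟨b, (le_sup_right : centralizerIn S T ≤ T ⊔ centralizerIn S T) hb⟩ ∈
          centralizerIn S T :=
        Subgroup.mem_inf.2 ⟨(F.le_of_mem hψU).2 _, hom_map_centralizer ψU hsurjψ _ hb2⟩
      exact Subgroup.mem_sup_right h1
  have hinj : Function.Injective ψU := F.injective_of_mem hψU
  have hrange : ψU.range = T ⊔ centralizerIn S T := by
    apply Subgroup.eq_of_le_of_card_ge
    · rintro _ ⟨y, rfl⟩; exact hψUU y
    · exact (Nat.card_congr (MonoidHom.ofInjective hinj).toEquiv).le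
  obtain ⟨β₀, hβ₀def⟩ : ∃ β₀ : MulAut ↥(T ⊔ centralizerIn S T),
      β₀ = isoOfInj ψU hinj hrange := ⟨_, rfl⟩
  have hβ₀v : ∀ y : ↥(T ⊔ centralizerIn S T),
      ((β₀ y : ↥(T ⊔ centralizerIn S T)) : Ω) = ψU y := by
    intro y
    subst hβ₀def
    rfl
  have hβ₀F : β₀ ∈ F.autGroup (T ⊔ centralizerIn S T) := by
    rw [mem_autGroup_iff F hUS]
    exact mem_of_eq F hψU (fun y => hβ₀v y)
  have hβ₀T : ∀ x : T, ((β₀ ⟨x, (le_sup_left : T ≤ T ⊔ centralizerIn S T) x.2⟩ :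
      ↥(T ⊔ centralizerIn S T)) : Ω) = ((α x : T) : Ω) :=
    fun x => (hβ₀v _).trans (hψUT x x.2)
  obtain ⟨k, hk, hαk⟩ := exists_pow_pPrimePart α β₀ hcop
  have hβkT := pow_restrict (le_sup_left : T ≤ T ⊔ centralizerIn S T) β₀ α hβ₀T k
  rw [hαk] at hβkT
  have hβkF : β₀ ^ k ∈ F.autGroup (T ⊔ centralizerIn S T) := Subgroup.pow_mem _ hβ₀F k
  have hsurjβ : ∀ t ∈ T, ∃ t' : ↥(T ⊔ centralizerIn S T), (t' : Ω) ∈ T ∧
      ((T ⊔ centralizerIn S T).subtype.comp (β₀ ^ k).toMonoidHom) t' = t := by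
    intro t ht
    exact ⟨⟨((α⁻¹ ⟨t, ht⟩ : T) : Ω),
      (le_sup_left : T ≤ T ⊔ centralizerIn S T) (α⁻¹ ⟨t, ht⟩).2⟩, (α⁻¹ ⟨t, ht⟩).2,
      (hβkT (α⁻¹ ⟨t, ht⟩)).trans
        (congrArg Subtype.val (MulAut.apply_inv_self _ α ⟨t, ht⟩))⟩
  refine ⟨β₀ ^ k, hβkF, fun x => hβkT x, fun c hc => ?_⟩
  have hc2 : (c : Ω) ∈ Subgroup.centralizer (T : Set Ω) := (Subgroup.mem_inf.1 hc).2
  refine Subgroup.mem_inf.2 ⟨hhyp (Subgroup.subset_closure ?_), ?_⟩
  · refine ⟨T ⊔ centralizerIn S T, ⟨β₀ ^ k, hβkF⟩, c, hUS, ?_, rfl⟩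
    apply Subgroup.subset_closure
    show Nat.Coprime (orderOf (⟨β₀ ^ k, hβkF⟩ : ↥(F.autGroup (T ⊔ centralizerIn S T)))) p
    rw [← Subgroup.orderOf_coe]
    exact hk
  · exact Subgroup.mul_mem _ (Subgroup.inv_mem _ hc2)
      (hom_map_centralizer ((T ⊔ centralizerIn S T).subtype.comp (β₀ ^ k).toMonoidHom)
        hsurjβ c hc2)

theorem pPower_extension [Finite S] (p : ℕ) [Fact p.Prime] (hS : IsPGroup p S)
    (F : FusionSystem S) (hF : F.IsSaturated p) {T : Subgroup Ω} (hT : F.StronglyClosed T)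
    (hhyp : F.hyperfocalSubgroup p ≤ T) (E : FusionSystem T) (hEs : E.IsSaturated p)
    (hEF : E.IsSubsystemOf F) {α : MulAut T} (hα : α ∈ E.autGroup T) : α ∈ extMon F T := by
  have hTS : T ≤ S := hT.1
  have hTfin : Finite T := finite_of_le hTS
  have hTp : IsPGroup p T := hS.to_le hTS
  have hfa := (sat_fullyNormalized p hTp E hEs (fullyNormalized_top E)).2
  obtain ⟨R, hR⟩ := hfa.2
  obtain ⟨b, hb, r, hr, hbr⟩ := exists_mul_sylow_pResidual R ⟨α, hα⟩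
  have hr' : (r : MulAut T) ∈ autInducedBy T T := by
    rw [hR] at hr
    exact Subgroup.mem_subgroupOf.1 hr
  have hb' : (b : MulAut T) ∈ extMon F T := by
    have h1 : b ∈ (extMon F T).comap (E.autGroup T).subtype := by
      refine mem_submonoid_of_mem_closure _ ?_ hb
      intro a ha
      exact pPrime_mem_extMon p hS F hF hT hhyp (autGroup_le_of_subsystem E F hEF le_rfl a.2)
        (by have ha' : Nat.Coprime (orderOf a) p := ha; rw [← Subgroup.orderOf_coe] at ha'; exact ha')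
    exact h1
  have e : α = (b : MulAut T) * (r : MulAut T) := congrArg Subtype.val hbr
  rw [e]
  exact (extMon F T).mul_mem hb' (inner_mem_extMon F hTS hr')

theorem pPowerIndex_normalIn [Finite S] (p : ℕ) [Fact p.Prime] (hS : IsPGroup p S)
    (F : FusionSystem S) (hF : F.IsSaturated p) (T : Subgroup Ω) (hTS : T ≤ S)
    (hTn : (T.subgroupOf S).Normal) (hT : F.hyperfocalSubgroup p ≤ T) (E : FusionSystem T)
    (hEs : E.IsSaturated p) (hEi : E.HasPPowerIndexIn F p) : E.IsNormalIn F p := by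
  have hTn' : ∀ s ∈ S, ∀ t ∈ T, s * t * s⁻¹ ∈ T := by
    intro s hs t ht
    have h1 := hTn.conj_mem ⟨t, hTS ht⟩ (Subgroup.mem_subgroupOf.2 ht) ⟨s, hs⟩
    exact Subgroup.mem_subgroupOf.1 h1
  have hsc : F.StronglyClosed T := stronglyClosed_of_hyperfocal_le p hS F hF T hTS hTn' hT
  have hsub : E.IsSubsystemOf (invSys F E) := pPower_le_invSys p hS F E hEs hsc hEi
  have hle : F ≤ twSys F E hsc :=
    le_twSys p hS F hF E hsc
      (fun P hPn hTP => pPower_hC p hS F hF E hsc hTn' hEi.2.2 P hPn hTP)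
  refine ⟨⟨hEs, hF, hEi.1, hsc, fun P hPT φ hφ α hα => ?_,
    fun P hPT φ hφ => twSys_frattini F E hsc hle hPT hφ⟩, fun α hα => ?_⟩
  · obtain ⟨χ, hχ, hχe⟩ := (hsub P hφ).2 α hα
    have hle' : Helper27.imAut α P ≤ Helper27.imAut α (P ⊓ T) := by
      intro y hy
      obtain ⟨x, hx, rfl⟩ := Helper27.mem_imAut.1 hy
      exact Helper27.mem_imAut.2 ⟨x, Subgroup.mem_inf.2 ⟨hx, x.2⟩, rfl⟩
    exact ⟨χ.comp (Subgroup.inclusion hle'), restrict_mem E hχ hle' (fun _ => rfl),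
      fun x hφx hαx => hχe x (hPT x.2) hφx (hle' hαx)⟩
  · exact pPower_extension p hS F hF hsc hT E hEs hEi.1 hα

end Cfsg.Agent.Helper26
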