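import Cfsg.Agent.Helper26.PPowerNormal
import Cfsg.Prelude.Def_FusionReduction

set_option autoImplicit false

namespace Cfsg.Agent.Helper26

open Cfsg Cfsg.FusionSystem

variable {Ω : Type*} [Group Ω]

theorem subgroup_eq_of_sameMaps {S₁ S₂ : Subgroup Ω} (F₁ : FusionSystem S₁)
    (F₂ : FusionSystem S₂) (h : ∀ P, F₁.Hom P = F₂.Hom P) : S₁ = S₂ := by
  apply le_antisymm
  · have h1 : S₁.subtype ∈ F₂.Hom S₁ := by rw [← h]; exact incl_mem F₁ le_rfl
    exact (F₂.le_of_mem h1).1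
  · have h1 : S₂.subtype ∈ F₁.Hom S₂ := by rw [h]; exact incl_mem F₂ le_rfl
    exact (F₁.le_of_mem h1).1

theorem sameMaps_rec {S₁ S₂ : Subgroup Ω} (F₁ : FusionSystem S₁) (F₂ : FusionSystem S₂)
    (h : ∀ P, F₁.Hom P = F₂.Hom P) (motive : ∀ S' : Subgroup Ω, FusionSystem S' → Prop)
    (h1 : motive S₁ F₁) : motive S₂ F₂ := by
  have hS : S₁ = S₂ := subgroup_eq_of_sameMaps F₁ F₂ h
  subst hS
  have e : F₁ = F₂ := fusionSystem_ext h
  subst e
  exact h1

theorem hyperfocal_mono {S T : Subgroup Ω} (p : ℕ) (F : FusionSystem S) (E : FusionSystem T)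
    (hEF : E.IsSubsystemOf F) : E.hyperfocalSubgroup p ≤ F.hyperfocalSubgroup p := by
  have hTS : T ≤ S := (F.le_of_mem (hEF T (incl_mem E le_rfl))).1
  have hgoal : ∀ y ∈ {y : Ω | ∃ (P : Subgroup Ω) (α : E.autGroup P) (x : P), P ≤ T ∧
      α ∈ pResidual p (E.autGroup P) ∧ y = (x : Ω)⁻¹ * ((α : MulAut P) x : P)},
      y ∈ F.hyperfocalSubgroup p := by
    rintro _ ⟨P, α, x, hPT, hα, rfl⟩
    apply Subgroup.subset_closure
    have hle : E.autGroup P ≤ F.autGroup P := autGroup_le_of_subsystem E F hEF hPT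
    exact ⟨P, Subgroup.inclusion hle α, x, hPT.trans hTS,
      pResidual_map_le p (Subgroup.inclusion hle) (Subgroup.inclusion_injective hle) ⟨α, hα, rfl⟩,
      rfl⟩
  show Subgroup.closure _ ≤ _
  rw [Subgroup.closure_le]
  exact hgoal

/-- Coprime action: `[D, γ] = [D, γ, γ]` in the form needed. -/
theorem coprime_comm_mem {D : Type*} [Group D] {p : ℕ} [Fact p.Prime] (hD : IsPGroup p D)
    (γ : MulAut D) {m : ℕ} (hm : γ ^ m = 1) (hmp : Nat.Coprime m p) (K : Subgroup D)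
    (hK : ∀ k ∈ K, γ k ∈ K) (hcomm : ∀ d : D, d⁻¹ * γ d ∈ K) (d : D) :
    d⁻¹ * γ d ∈ Subgroup.closure {y : D | ∃ k ∈ K, y = k⁻¹ * γ k} := by
  obtain ⟨N, hNdef⟩ : ∃ N : Subgroup D,
      N = Subgroup.closure {y : D | ∃ k ∈ K, y = k⁻¹ * γ k} := ⟨_, rfl⟩
  rw [← hNdef]
  have hNle : ∀ M : Subgroup D, (∀ k ∈ K, k⁻¹ * γ k ∈ M) → N ≤ M := by
    intro M hM
    rw [hNdef, Subgroup.closure_le]
    rintro _ ⟨k, hk, rfl⟩
    exact hM k hk
  have hgen : ∀ k ∈ K, k⁻¹ * γ k ∈ N := by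
    intro k hk; rw [hNdef]; exact Subgroup.subset_closure ⟨k, hk, rfl⟩
  have hNγ : ∀ n ∈ N, γ n ∈ N := by
    intro n hn
    have hle : N ≤ N.comap γ.toMonoidHom := by
      apply hNle
      intro k hk
      show γ (k⁻¹ * γ k) ∈ N
      rw [map_mul, map_inv]
      exact hgen (γ k) (hK k hk)
    exact hle hn
  have hNc : ∀ c ∈ K, ∀ n ∈ N, c⁻¹ * n * c ∈ N := by
    intro c hc n hn
    have hle : N ≤ N.comap (MulAut.conj c⁻¹).toMonoidHom := by
      apply hNle
      intro k hk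
      show c⁻¹ * (k⁻¹ * γ k) * c⁻¹⁻¹ ∈ N
      have e : c⁻¹ * (k⁻¹ * γ k) * c⁻¹⁻¹ = ((k * c)⁻¹ * γ (k * c)) * (c⁻¹ * γ c)⁻¹ := by
        rw [map_mul]; group
      rw [e]
      exact N.mul_mem (hgen _ (K.mul_mem hk hc)) (N.inv_mem (hgen c hc))
    have h2 : c⁻¹ * n * c⁻¹⁻¹ ∈ N := hle hn
    rwa [inv_inv] at h2
  have hpow : ∀ c ∈ K, ∀ n ∈ N, ∀ j : ℕ, ∃ n' ∈ N, (c * n) ^ j = c ^ j * n' := by
    intro c hc n hn j
    induction j with
    | zero => exact ⟨1, N.one_mem, by simp⟩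
    | succ j ih =>
      obtain ⟨n', hn', e⟩ := ih
      refine ⟨c⁻¹ * n' * c * n, N.mul_mem (hNc c hc n' hn') hn, ?_⟩
      rw [pow_succ, e, pow_succ]
      group
  obtain ⟨c, hcdef⟩ : ∃ c : D, c = d⁻¹ * γ d := ⟨_, rfl⟩
  have hcK : c ∈ K := by rw [hcdef]; exact hcomm d
  have hγc : ∃ n ∈ N, γ c = c * n := ⟨c⁻¹ * γ c, hgen c hcK, by group⟩
  have hγd : γ d = d * c := by rw [hcdef]; group
  have hiter : ∀ j : ℕ, ∃ n ∈ N, (γ ^ j) d = d * c ^ j * n := by
    intro j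
    induction j with
    | zero => exact ⟨1, N.one_mem, by simp⟩
    | succ j ih =>
      obtain ⟨n, hn, e⟩ := ih
      obtain ⟨n₀, hn₀, e₀⟩ := hγc
      obtain ⟨n₁, hn₁, e₁⟩ := hpow c hcK n₀ hn₀ j
      refine ⟨n₁ * γ n, N.mul_mem hn₁ (hNγ n hn), ?_⟩
      rw [pow_succ', MulAut.mul_apply, e, map_mul, map_mul, map_pow, hγd, e₀, e₁, pow_succ]
      group
  obtain ⟨n, hn, e⟩ := hiter m
  rw [hm, MulAut.one_apply] at e
  have hcm : c ^ m ∈ N := by
    have e3 : d * (c ^ m * n) = d * 1 := by rw [mul_one, ← mul_assoc]; exact e.symm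
    have e2 : c ^ m = n⁻¹ := eq_inv_of_mul_eq_one_left (mul_left_cancel e3)
    rw [e2]; exact N.inv_mem hn
  obtain ⟨j, hj⟩ := hD c
  have hcop : Nat.Coprime m (orderOf c) :=
    Nat.Coprime.coprime_dvd_right (orderOf_dvd_of_pow_eq_one hj) (Nat.Coprime.pow_right j hmp)
  obtain ⟨i, hi⟩ := exists_pow_eq_self_of_coprime hcop
  have hc : c ∈ N := by rw [← hi]; exact N.pow_mem hcm i
  rw [hcdef] at hc
  exact hc

/-- Elements of `Aut_F(P)` all of whose commutators lie in the hyperfocal subgroup of `E`. -/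
def hypMon {S T : Subgroup Ω} (F : FusionSystem S) (E : FusionSystem T) (p : ℕ)
    (P : Subgroup Ω) : Submonoid ↥(F.autGroup P) where
  carrier := {α | ∀ x : P, (x : Ω)⁻¹ * (((α : MulAut P) x : P) : Ω) ∈ E.hyperfocalSubgroup p}
  one_mem' := by
    intro x
    show (x : Ω)⁻¹ * (x : Ω) ∈ _
    rw [inv_mul_cancel]; exact Subgroup.one_mem _
  mul_mem' := by
    intro a b ha hb x
    show (x : Ω)⁻¹ * (((a : MulAut P) ((b : MulAut P) x) : P) : Ω) ∈ _
    have e : (x : Ω)⁻¹ * (((a : MulAut P) ((b : MulAut P) x) : P) : Ω) =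
        ((x : Ω)⁻¹ * (((b : MulAut P) x : P) : Ω)) *
          ((((b : MulAut P) x : P) : Ω)⁻¹ * (((a : MulAut P) ((b : MulAut P) x) : P) : Ω)) := by
      group
    rw [e]
    exact Subgroup.mul_mem _ (hb x) (ha _)

theorem hyperfocal_le_of_pPowerIndex {S : Subgroup Ω} [Finite S] (p : ℕ) [Fact p.Prime]
    (hS : IsPGroup p S) (F : FusionSystem S) (hF : F.IsSaturated p) {T : Subgroup Ω}
    (E : FusionSystem T) (hidx : E.HasPPowerIndexIn F p) :
    F.hyperfocalSubgroup p ≤ E.hyperfocalSubgroup p := by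
  obtain ⟨hEF, hhypT, hres⟩ := hidx
  have hHsc : F.StronglyClosed (F.hyperfocalSubgroup p) := hyperfocal_stronglyClosed p hS F hF
  have key : ∀ (P : Subgroup Ω), P ≤ S → ∀ a : MulAut P, a ∈ F.autGroup P →
      Nat.Coprime (orderOf a) p →
      ∀ x : P, (x : Ω)⁻¹ * ((a x : P) : Ω) ∈ E.hyperfocalSubgroup p := by
    intro P hPS a ha hcop x
    have hPfin : Finite P := finite_of_le hPS
    obtain ⟨H, hHdef⟩ : ∃ H : Subgroup Ω, H = F.hyperfocalSubgroup p := ⟨_, rfl⟩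
    have hHT : H ≤ T := by rw [hHdef]; exact hhypT
    have hHsc' : F.StronglyClosed H := by rw [hHdef]; exact hHsc
    have hIP : P ⊓ H ≤ P := inf_le_left
    have hIH : P ⊓ H ≤ H := inf_le_right
    have hIT : P ⊓ H ≤ T := hIH.trans hHT
    have hIfin : Finite ↥(P ⊓ H) := finite_of_le (hIP.trans hPS)
    have haF : P.subtype.comp a.toMonoidHom ∈ F.Hom P := (mem_autGroup_iff F hPS).1 ha
    have himg : ((P ⊓ H).subgroupOf P).map (P.subtype.comp a.toMonoidHom) = P ⊓ H := by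
      apply Subgroup.eq_of_le_of_card_ge
      · rintro _ ⟨y, hy, rfl⟩
        have hyI : (y : Ω) ∈ P ⊓ H := Subgroup.mem_subgroupOf.1 hy
        exact Subgroup.mem_inf.2 ⟨(a y).2,
          stronglyClosed_autGroup_maps F hHsc' hPS ha y (Subgroup.mem_inf.1 hyI).2⟩
      · rw [card_map_subgroupOf hIP (F.injective_of_mem haF)]
    obtain ⟨κ, hκ⟩ := exists_restrict_iso' _ (F.injective_of_mem haF) hIP himg
    have hκF : κ ∈ F.autGroup (P ⊓ H) := by
      rw [mem_autGroup_iff F (hIP.trans hPS)]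
      exact restrict_mem F haF hIP hκ
    have hκord : orderOf κ ∣ orderOf a := by
      apply orderOf_dvd_of_pow_eq_one
      apply MulEquiv.ext
      intro y
      apply Subtype.ext
      have h1 := pow_restrict hIP a κ (fun z => (hκ z).symm) (orderOf a) y
      rw [pow_orderOf_eq_one] at h1
      exact h1.symm
    have hκcop : Nat.Coprime (orderOf κ) p := Nat.Coprime.coprime_dvd_left hκord hcop
    have hκE : κ ∈ E.autGroup (P ⊓ H) := by
      refine hres _ hIT ⟨⟨κ, hκF⟩, ?_, rfl⟩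
      apply Subgroup.subset_closure
      show Nat.Coprime (orderOf (⟨κ, hκF⟩ : ↥(F.autGroup (P ⊓ H)))) p
      rw [← Subgroup.orderOf_coe]
      exact hκcop
    have hκres : (⟨κ, hκE⟩ : ↥(E.autGroup (P ⊓ H))) ∈ pResidual p ↥(E.autGroup (P ⊓ H)) := by
      apply Subgroup.subset_closure
      show Nat.Coprime (orderOf (⟨κ, hκE⟩ : ↥(E.autGroup (P ⊓ H)))) p
      rw [← Subgroup.orderOf_coe]
      exact hκcop
    have hgenE : ∀ k : ↥(P ⊓ H),
        (k : Ω)⁻¹ * ((κ k : ↥(P ⊓ H)) : Ω) ∈ E.hyperfocalSubgroup p := by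
      intro k
      apply Subgroup.subset_closure
      exact ⟨P ⊓ H, ⟨κ, hκE⟩, k, hIT, hκres, rfl⟩
    have hcommK : ∀ d : P, d⁻¹ * a d ∈ (P ⊓ H).subgroupOf P := by
      intro d
      rw [Subgroup.mem_subgroupOf]
      refine Subgroup.mem_inf.2 ⟨(d⁻¹ * a d).2, ?_⟩
      rw [hHdef]
      apply Subgroup.subset_closure
      refine ⟨P, ⟨a, ha⟩, d, hPS, ?_, rfl⟩
      apply Subgroup.subset_closure
      show Nat.Coprime (orderOf (⟨a, ha⟩ : ↥(F.autGroup P))) p
      rw [← Subgroup.orderOf_coe]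
      exact hcop
    have hKinv : ∀ k ∈ (P ⊓ H).subgroupOf P, a k ∈ (P ⊓ H).subgroupOf P := by
      intro k hk
      rw [Subgroup.mem_subgroupOf] at hk ⊢
      exact Subgroup.mem_inf.2 ⟨(a k).2,
        stronglyClosed_autGroup_maps F hHsc' hPS ha k (Subgroup.mem_inf.1 hk).2⟩
    have hmem := coprime_comm_mem (hS.to_le hPS) a (pow_orderOf_eq_one a) hcop
      ((P ⊓ H).subgroupOf P) hKinv hcommK x
    have hle : (Subgroup.closure {y : P | ∃ k ∈ (P ⊓ H).subgroupOf P, y = k⁻¹ * a k}).map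
        P.subtype ≤ E.hyperfocalSubgroup p := by
      rw [MonoidHom.map_closure, Subgroup.closure_le]
      rintro _ ⟨_, ⟨k, hk, rfl⟩, rfl⟩
      have hkI : (k : Ω) ∈ P ⊓ H := Subgroup.mem_subgroupOf.1 hk
      have h1 := hgenE ⟨k, hkI⟩
      have e : ((κ ⟨k, hkI⟩ : ↥(P ⊓ H)) : Ω) = ((a k : P) : Ω) := hκ ⟨k, hkI⟩
      rw [e] at h1
      exact h1
    exact hle ⟨_, hmem, rfl⟩
  have hgoal : ∀ y ∈ {y : Ω | ∃ (P : Subgroup Ω) (α : F.autGroup P) (x : P), P ≤ S ∧
      α ∈ pResidual p (F.autGroup P) ∧ y = (x : Ω)⁻¹ * ((α : MulAut P) x : P)},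
      y ∈ E.hyperfocalSubgroup p := by
    rintro _ ⟨P, α, x, hPS, hα, rfl⟩
    have hPfin : Finite P := finite_of_le hPS
    have hM : α ∈ hypMon F E p P := by
      refine mem_submonoid_of_mem_closure _ ?_ hα
      intro a ha x
      exact key P hPS a a.2 (by have ha' : Nat.Coprime (orderOf a) p := ha; rw [← Subgroup.orderOf_coe] at ha'; exact ha') x
    exact hM x
  show Subgroup.closure _ ≤ _
  rw [Subgroup.closure_le]
  exact hgoal

theorem limit_elim {U S : Subgroup Ω} {X : FusionSystem U} {F : FusionSystem S} {p : ℕ}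
    (h : X.IsResidualLimitOf F p) :
    (F.hyperfocalSubgroup p = S ∧ F.IsPPrimeResidual p F ∧ ∀ P, X.Hom P = F.Hom P) ∨
    ∃ D D' : FusionSystem (F.hyperfocalSubgroup p), F.IsPResidual p D ∧
      D.IsPPrimeResidual p D' ∧ X.IsResidualLimitOf D' p := by
  cases h with
  | stable _ _ h1 h2 => exact Or.inl ⟨h1, h2, fun P => rfl⟩
  | step _ _ D D' hD hD' hlim => exact Or.inr ⟨D, D', hD, hD', hlim⟩

theorem limit_of_stable : ∀ {V : Subgroup Ω} (X : FusionSystem V) {S : Subgroup Ω}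
    (F : FusionSystem S) (p : ℕ), X.IsResidualLimitOf F p → p.Prime → Finite S → IsPGroup p S →
    F.hyperfocalSubgroup p = S → F.IsPPrimeResidual p F → ∀ P, X.Hom P = F.Hom P := by
  intro V X S F p h
  induction h with
  | @stable F p hhyp hres => intro _ _ _ _ _ P; rfl
  | @step S X F p D D' hD hD' hlim ih =>
    intro hp hfin hS hhyp hres
    have : Fact p.Prime := ⟨hp⟩
    have hFD : ∀ P, F.Hom P = D.Hom P := by
      intro P
      apply Set.Subset.antisymm
      · exact subsystem_of_pPowerIndex p hS F F hres.1 (fun P => subset_rfl) D hhyp.ge hD.2 P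
      · exact hD.2.1 P
    have key : ∀ D'' : FusionSystem S, F.IsPPrimeResidual p D'' →
        (p.Prime → Finite S → IsPGroup p S → D''.hyperfocalSubgroup p = S →
          D''.IsPPrimeResidual p D'' → ∀ P, X.Hom P = D''.Hom P) →
        ∀ P, X.Hom P = F.Hom P := by
      intro D'' hD'' ih'
      have e : D'' = F := fusionSystem_ext (fun P => Set.Subset.antisymm (hD''.2.1.1 P)
        (hres.2.2 D'' hD''.1 hD''.2.1 P))
      subst e
      exact ih' hp hfin hS hhyp hres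
    exact sameMaps_rec F D hFD
      (fun S' D₀ => ∀ D'' : FusionSystem S', D₀.IsPPrimeResidual p D'' →
        (p.Prime → Finite S' → IsPGroup p S' → D''.hyperfocalSubgroup p = S' →
          D''.IsPPrimeResidual p D'' → ∀ P, X.Hom P = D''.Hom P) →
        ∀ P, X.Hom P = F.Hom P)
      key D' hD' ih

theorem limit_unique : ∀ {V₁ : Subgroup Ω} (X₁ : FusionSystem V₁) {S : Subgroup Ω}
    (F : FusionSystem S) (p : ℕ), X₁.IsResidualLimitOf F p → p.Prime → Finite S →
    IsPGroup p S → ∀ {V₂ : Subgroup Ω} (X₂ : FusionSystem V₂), X₂.IsResidualLimitOf F p →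
    ∀ P, X₁.Hom P = X₂.Hom P := by
  intro V₁ X₁ S F p h
  induction h with
  | @stable F p hhyp hres =>
    intro hp hfin hS V₂ X₂ h₂ P
    exact (limit_of_stable X₂ F p h₂ hp hfin hS hhyp hres P).symm
  | @step S X₁ F p D D' hD hD' hlim ih =>
    intro hp hfin hS V₂ X₂ h₂
    have : Fact p.Prime := ⟨hp⟩
    have hHS : F.hyperfocalSubgroup p ≤ S := hyperfocal_le F p
    have hfin' : Finite ↥(F.hyperfocalSubgroup p) := finite_of_le hHS
    have hS' : IsPGroup p ↥(F.hyperfocalSubgroup p) := hS.to_le hHS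
    rcases limit_elim h₂ with ⟨hhyp₂, hres₂, h3⟩ | ⟨D₂, D₂', hD₂, hD₂', hlim₂⟩
    · intro P
      exact (limit_of_stable X₁ F p (IsResidualLimitOf.step F p D D' hD hD' hlim) hp hfin hS
        hhyp₂ hres₂ P).trans (h3 P).symm
    · have e1 : D₂ = D := fusionSystem_ext (fun P => Set.Subset.antisymm
        (subsystem_of_pPowerIndex p hS F D₂ hD₂.1 hD₂.2.1 D le_rfl hD.2 P)
        (subsystem_of_pPowerIndex p hS F D hD.1 hD.2.1 D₂ le_rfl hD₂.2 P))
      subst e1
      have e2 : D₂' = D' := fusionSystem_ext (fun P => Set.Subset.antisymm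
        (hD₂'.2.2 D' hD'.1 hD'.2.1 P) (hD'.2.2 D₂' hD₂'.1 hD₂'.2.1 P))
      subst e2
      exact ih hp hfin' hS' X₂ hlim₂

theorem residualLimit_of_pPowerIndex {S : Subgroup Ω} [Finite S] (p : ℕ) [Fact p.Prime]
    (hS : IsPGroup p S) (F : FusionSystem S) (hF : F.IsSaturated p) {T : Subgroup Ω}
    (E : FusionSystem T) (hEs : E.IsSaturated p) (hidx : E.HasPPowerIndexIn F p)
    {U V : Subgroup Ω} (Finf : FusionSystem U) (hFinf : Finf.IsResidualLimitOf F p)
    (Einf : FusionSystem V) (hEinf : Einf.IsResidualLimitOf E p) :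
    ∀ P : Subgroup Ω, Finf.Hom P = Einf.Hom P := by
  have hp : p.Prime := Fact.out
  have hfinS : Finite S := inferInstance
  have hEF : E.IsSubsystemOf F := hidx.1
  have hTS : T ≤ S := (F.le_of_mem (hEF T (incl_mem E le_rfl))).1
  have hfinT : Finite T := finite_of_le hTS
  have hTp : IsPGroup p T := hS.to_le hTS
  have hhypEF : E.hyperfocalSubgroup p ≤ F.hyperfocalSubgroup p := hyperfocal_mono p F E hEF
  have hhypFE : F.hyperfocalSubgroup p ≤ E.hyperfocalSubgroup p :=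
    hyperfocal_le_of_pPowerIndex p hS F hF E hidx
  have hhypFT : F.hyperfocalSubgroup p ≤ T := hidx.2.1
  have hA : F.hyperfocalSubgroup p = S → F.IsPPrimeResidual p F →
      ∀ P, F.Hom P = Einf.Hom P := by
    intro hhyp hres
    have hST : S ≤ T := hhyp.ge.trans hhypFT
    have hFE : ∀ P, E.Hom P = F.Hom P := fun P => Set.Subset.antisymm (hEF P)
      (subsystem_of_pPowerIndex p hS F F hF (fun P => subset_rfl) E hST hidx P)
    have hlim : Einf.IsResidualLimitOf F p :=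
      sameMaps_rec E F hFE (fun S' F' => Einf.IsResidualLimitOf F' p) hEinf
    intro P
    exact (limit_of_stable Einf F p hlim hp hfinS hS hhyp hres P).symm
  have hB1 : ∀ (D D' : FusionSystem (F.hyperfocalSubgroup p)), F.IsPResidual p D →
      D.IsPPrimeResidual p D' → Finf.IsResidualLimitOf D' p →
      E.hyperfocalSubgroup p = T → E.IsPPrimeResidual p E → ∀ P, Finf.Hom P = E.Hom P := by
    intro D D' hD hD' hlimF hhypE hresE
    have hTH : T ≤ F.hyperfocalSubgroup p := hhypE.ge.trans hhypEF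
    have hED : ∀ P, E.Hom P = D.Hom P := fun P => Set.Subset.antisymm
      (subsystem_of_pPowerIndex p hS F E hEs hEF D hTH hD.2 P)
      (subsystem_of_pPowerIndex p hS F D hD.1 hD.2.1 E hhypFT hidx P)
    have key : ∀ D'' : FusionSystem T, E.IsPPrimeResidual p D'' →
        Finf.IsResidualLimitOf D'' p → ∀ P, Finf.Hom P = E.Hom P := by
      intro D'' hD'' hlim
      have e : ∀ P, D''.Hom P = E.Hom P := fun P => Set.Subset.antisymm (hD''.2.1.1 P)
        (hresE.2.2 D'' hD''.1 hD''.2.1 P)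
      have hlim' : Finf.IsResidualLimitOf E p :=
        sameMaps_rec D'' E e (fun S' F' => Finf.IsResidualLimitOf F' p) hlim
      exact limit_of_stable Finf E p hlim' hp hfinT hTp hhypE hresE
    exact sameMaps_rec E D hED
      (fun S' D₀ => ∀ D'' : FusionSystem S', D₀.IsPPrimeResidual p D'' →
        Finf.IsResidualLimitOf D'' p → ∀ P, Finf.Hom P = E.Hom P) key D' hD' hlimF
  have hB2 : ∀ (D D' : FusionSystem (F.hyperfocalSubgroup p)), F.IsPResidual p D →
      D.IsPPrimeResidual p D' → Finf.IsResidualLimitOf D' p →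
      ∀ (Dₑ Dₑ' : FusionSystem (E.hyperfocalSubgroup p)), E.IsPResidual p Dₑ →
      Dₑ.IsPPrimeResidual p Dₑ' → Einf.IsResidualLimitOf Dₑ' p →
      ∀ P, Finf.Hom P = Einf.Hom P := by
    intro D D' hD hD' hlimF Dₑ Dₑ' hDₑ hDₑ' hlimE
    have hHT : E.hyperfocalSubgroup p ≤ T := hyperfocal_le E p
    have hfinH : Finite ↥(E.hyperfocalSubgroup p) := finite_of_le hHT
    have hHp : IsPGroup p ↥(E.hyperfocalSubgroup p) := hTp.to_le hHT
    have hDE : D.IsSubsystemOf E :=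
      subsystem_of_pPowerIndex p hS F D hD.1 hD.2.1 E hhypFT hidx
    have hDidx : D.HasPPowerIndexIn E p := by
      refine ⟨hDE, hhypEF, fun P hP => ?_⟩
      rintro _ ⟨b, hb, rfl⟩
      have hPT : P ≤ T := hP.trans hhypFT
      have hle : E.autGroup P ≤ F.autGroup P := autGroup_le_of_subsystem E F hEF hPT
      have h1 : Subgroup.inclusion hle b ∈ pResidual p ↥(F.autGroup P) :=
        pResidual_map_le p (Subgroup.inclusion hle) (Subgroup.inclusion_injective hle)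
          ⟨b, hb, rfl⟩
      exact hD.2.2.2 P hP ⟨Subgroup.inclusion hle b, h1, rfl⟩
    have hDD : ∀ P, Dₑ.Hom P = D.Hom P := fun P => Set.Subset.antisymm
      (subsystem_of_pPowerIndex p hTp E Dₑ hDₑ.1 hDₑ.2.1 D hhypEF hDidx P)
      (subsystem_of_pPowerIndex p hTp E D hD.1 hDE Dₑ hhypFE hDₑ.2 P)
    have key : ∀ D'' : FusionSystem (E.hyperfocalSubgroup p), Dₑ.IsPPrimeResidual p D'' →
        Finf.IsResidualLimitOf D'' p → ∀ P, Finf.Hom P = Einf.Hom P := by
      intro D'' hD'' hlim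
      have e : ∀ P, D''.Hom P = Dₑ'.Hom P := fun P => Set.Subset.antisymm
        (hD''.2.2 Dₑ' hDₑ'.1 hDₑ'.2.1 P) (hDₑ'.2.2 D'' hD''.1 hD''.2.1 P)
      have hlim' : Finf.IsResidualLimitOf Dₑ' p :=
        sameMaps_rec D'' Dₑ' e (fun S' F' => Finf.IsResidualLimitOf F' p) hlim
      exact limit_unique Finf Dₑ' p hlim' hp hfinH hHp Einf hlimE
    exact sameMaps_rec Dₑ D hDD
      (fun S' D₀ => ∀ D'' : FusionSystem S', D₀.IsPPrimeResidual p D'' →
        Finf.IsResidualLimitOf D'' p → ∀ P, Finf.Hom P = Einf.Hom P) key D' hD' hlimF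
  rcases limit_elim hFinf with ⟨h1, h2, h3⟩ | ⟨D, D', hD, hD', hlim⟩
  · intro P
    exact (h3 P).trans (hA h1 h2 P)
  · rcases limit_elim hEinf with ⟨h1, h2, h3⟩ | ⟨Dₑ, Dₑ', hDₑ, hDₑ', hlimE⟩
    · intro P
      exact (hB1 D D' hD hD' hlim h1 h2 P).trans (h3 P).symm
    · exact hB2 D D' hD hD' hlim Dₑ Dₑ' hDₑ hDₑ' hlimE

end Cfsg.Agent.Helper26
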