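import Cfsg.Agent.Helper26.FusionQuot2
import Cfsg.Agent.Helper26.FusionAlperin
import Cfsg.Agent.Helper27.Frattini
import Cfsg.Agent.Helper27.WeakNormal

set_option autoImplicit false

namespace Cfsg.Agent.Helper26

open Cfsg Cfsg.FusionSystem

variable {Ω : Type*} [Group Ω] {S : Subgroup Ω}

theorem mem_imAut_inf {T : Subgroup Ω} (β : MulAut T) {P : Subgroup Ω} (x : P)
    (hx : (x : Ω) ∈ T) : ((β ⟨x, hx⟩ : T) : Ω) ∈ Helper27.imAut β (P ⊓ T) :=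
  Helper27.mem_imAut.2 ⟨⟨x, hx⟩, Subgroup.mem_inf.2 ⟨x.2, hx⟩, rfl⟩

theorem exists_of_mem_imAut_inf {T : Subgroup Ω} (β : MulAut T) {P : Subgroup Ω} {z : Ω}
    (hz : z ∈ Helper27.imAut β (P ⊓ T)) :
    ∃ (x : P) (hx : (x : Ω) ∈ T), ((β ⟨x, hx⟩ : T) : Ω) = z := by
  obtain ⟨t, ht, rfl⟩ := Helper27.mem_imAut.1 hz
  exact ⟨⟨t, (Subgroup.mem_inf.1 ht).1⟩, t.2, rfl⟩

/-- Some map of `E` on `β(P ∩ T)` realizes `γ ∘ φ ∘ β⁻¹`. -/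
def TwIn {T : Subgroup Ω} (E : FusionSystem T) (β γ : MulAut T) {P : Subgroup Ω}
    (φ : P →* Ω) : Prop :=
  ∃ χ ∈ E.Hom (Helper27.imAut β (P ⊓ T)),
    ∀ (x : P) (hx : (x : Ω) ∈ T) (hφ : φ x ∈ T)
      (h : ((β ⟨x, hx⟩ : T) : Ω) ∈ Helper27.imAut β (P ⊓ T)),
      χ ⟨((β ⟨x, hx⟩ : T) : Ω), h⟩ = ((γ ⟨φ x, hφ⟩ : T) : Ω)

theorem tw_of_agree {T : Subgroup Ω} (E : FusionSystem T) (β κ : MulAut T) {P : Subgroup Ω}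
    (φ : P →* Ω) (h : ∀ (x : P) (hx : (x : Ω) ∈ T), φ x = ((κ ⟨x, hx⟩ : T) : Ω)) :
    TwIn E β (β * κ⁻¹) φ ∧ TwIn E (β * κ) β φ := by
  constructor
  · refine ⟨_, incl_mem E (Helper27.imAut_le β _), fun x hx hφ hm => ?_⟩
    have e : (⟨φ x, hφ⟩ : T) = κ ⟨x, hx⟩ := Subtype.ext (h x hx)
    rw [e]
    show ((β ⟨x, hx⟩ : T) : Ω) = ((β (κ⁻¹ (κ ⟨x, hx⟩)) : T) : Ω)
    rw [MulAut.inv_apply_self]
  · refine ⟨_, incl_mem E (Helper27.imAut_le (β * κ) _), fun x hx hφ hm => ?_⟩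
    have e : (⟨φ x, hφ⟩ : T) = κ ⟨x, hx⟩ := Subtype.ext (h x hx)
    rw [e]
    rfl

theorem tw_comp {T : Subgroup Ω} (E : FusionSystem T) {β γ₁ γ₂ : MulAut T} {P Q : Subgroup Ω}
    {φ : P →* Ω} {ψ : Q →* Ω} (hQ : ∀ x : P, φ x ∈ Q)
    (hφT : ∀ x : P, (x : Ω) ∈ T → φ x ∈ T)
    (h₁ : TwIn E β γ₁ φ) (h₂ : TwIn E γ₁ γ₂ ψ) :
    TwIn E β γ₂ (ψ.comp (φ.codRestrict Q hQ)) := by
  obtain ⟨χ₁, hχ₁, e₁⟩ := h₁
  obtain ⟨χ₂, hχ₂, e₂⟩ := h₂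
  have hmap : ∀ z : ↥(Helper27.imAut β (P ⊓ T)), χ₁ z ∈ Helper27.imAut γ₁ (Q ⊓ T) := by
    rintro ⟨z, hz⟩
    obtain ⟨x, hx, rfl⟩ := exists_of_mem_imAut_inf β hz
    rw [e₁ x hx (hφT x hx) hz]
    exact mem_imAut_inf γ₁ (⟨φ x, hQ x⟩ : Q) (hφT x hx)
  refine ⟨χ₂.comp (χ₁.codRestrict _ hmap), E.comp_mem hχ₁ hχ₂ hmap, fun x hx hφ hm => ?_⟩
  have hφx : φ x ∈ T := hφT x hx
  have h1 := e₁ x hx hφx hm
  have hm2 : ((γ₁ ⟨((⟨φ x, hQ x⟩ : Q) : Ω), hφx⟩ : T) : Ω) ∈ Helper27.imAut γ₁ (Q ⊓ T) :=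
    mem_imAut_inf γ₁ (⟨φ x, hQ x⟩ : Q) hφx
  have h2 := e₂ ⟨φ x, hQ x⟩ hφx hφ hm2
  have e : χ₁.codRestrict _ hmap ⟨((β ⟨x, hx⟩ : T) : Ω), hm⟩ =
      ⟨((γ₁ ⟨φ x, hφx⟩ : T) : Ω), hm2⟩ := Subtype.ext h1
  show χ₂ (χ₁.codRestrict _ hmap ⟨((β ⟨x, hx⟩ : T) : Ω), hm⟩) = _
  rw [e]
  exact h2

theorem tw_inv {T : Subgroup Ω} (E : FusionSystem T) {β γ : MulAut T} {P : Subgroup Ω}
    {φ : P →* Ω} {ψ : φ.range →* Ω}
    (hφT : ∀ x : P, φ x ∈ T → (x : Ω) ∈ T)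
    (hinv : ∀ x : P, ψ ⟨φ x, ⟨x, rfl⟩⟩ = (x : Ω))
    (h : TwIn E β γ φ) : TwIn E γ β ψ := by
  obtain ⟨χ, hχ, e⟩ := h
  obtain ⟨χ', hχ', hχ'inv⟩ := E.inv_mem hχ
  have hle : Helper27.imAut γ (φ.range ⊓ T) ≤ χ.range := by
    intro w hw
    obtain ⟨y, hy, rfl⟩ := exists_of_mem_imAut_inf γ hw
    obtain ⟨_, x, rfl⟩ := y
    have hx : (x : Ω) ∈ T := hφT x hy
    exact ⟨⟨_, mem_imAut_inf β x hx⟩, e x hx hy (mem_imAut_inf β x hx)⟩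
  refine ⟨χ'.comp (Subgroup.inclusion hle), restrict_mem E hχ' hle (fun _ => rfl),
    fun y hy hψ hm => ?_⟩
  obtain ⟨_, x, rfl⟩ := y
  have hx : (x : Ω) ∈ T := hφT x hy
  have hmβ := mem_imAut_inf β x hx
  have h1 := e x hx hy hmβ
  have h2 := hχ'inv ⟨_, hmβ⟩
  have e3 : Subgroup.inclusion hle ⟨((γ ⟨φ x, hy⟩ : T) : Ω), hm⟩ =
      ⟨χ ⟨_, hmβ⟩, ⟨_, rfl⟩⟩ := Subtype.ext h1.symm
  have e4 : (⟨ψ ⟨φ x, ⟨x, rfl⟩⟩, hψ⟩ : T) = ⟨x, hx⟩ := Subtype.ext (hinv x)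
  show χ' (Subgroup.inclusion hle ⟨((γ ⟨φ x, hy⟩ : T) : Ω), hm⟩) =
    ((β ⟨ψ ⟨φ x, ⟨x, rfl⟩⟩, hψ⟩ : T) : Ω)
  rw [e3, h2, e4]

/-- The system of maps of `F` that, restricted to `T`, lie in `Aut_F(T) ∘ E ∘ Aut_F(T)` in the
two-sided sense. -/
def twSys (F : FusionSystem S) {T : Subgroup Ω} (E : FusionSystem T) (hT : F.StronglyClosed T) :
    FusionSystem S where
  Hom P := {φ | φ ∈ F.Hom P ∧ (∀ β ∈ F.autGroup T, ∃ γ ∈ F.autGroup T, TwIn E β γ φ) ∧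
    (∀ γ ∈ F.autGroup T, ∃ β ∈ F.autGroup T, TwIn E β γ φ)}
  le_of_mem := fun h => F.le_of_mem h.1
  injective_of_mem := fun h => F.injective_of_mem h.1
  conj_mem := by
    intro P g hP hg
    have hgN : g ∈ Subgroup.normalizer (T : Set Ω) := le_normalizer_of_stronglyClosed F hT hg
    have hκA : T.normalizerMonoidHom ⟨g, hgN⟩ ∈ F.autGroup T := by
      rw [mem_autGroup_iff F hT.1]
      exact mem_of_eq F (F.conj_mem hT.1 hg) (fun x => rfl)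
    have hag : ∀ (x : P) (hx : (x : Ω) ∈ T),
        conjHom P g x = ((T.normalizerMonoidHom ⟨g, hgN⟩ ⟨x, hx⟩ : T) : Ω) := fun x hx => rfl
    exact ⟨F.conj_mem hP hg,
      fun β hβ => ⟨_, Subgroup.mul_mem _ hβ (Subgroup.inv_mem _ hκA),
        (tw_of_agree E β _ _ hag).1⟩,
      fun γ hγ => ⟨_, Subgroup.mul_mem _ hγ hκA, (tw_of_agree E γ _ _ hag).2⟩⟩
  comp_mem := by
    intro P Q φ ψ hφ hψ h
    have hφT : ∀ x : P, (x : Ω) ∈ T → φ x ∈ T :=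
      fun x hx => stronglyClosed_hom_mem F hT hφ.1 x hx
    refine ⟨F.comp_mem hφ.1 hψ.1 h, fun β hβ => ?_, fun γ hγ => ?_⟩
    · obtain ⟨γ₁, hγ₁, h1⟩ := hφ.2.1 β hβ
      obtain ⟨γ₂, hγ₂, h2⟩ := hψ.2.1 γ₁ hγ₁
      exact ⟨γ₂, hγ₂, tw_comp E h hφT h1 h2⟩
    · obtain ⟨β₁, hβ₁, h2⟩ := hψ.2.2 γ hγ
      obtain ⟨β₀, hβ₀, h1⟩ := hφ.2.2 β₁ hβ₁
      exact ⟨β₀, hβ₀, tw_comp E h hφT h1 h2⟩
  inv_mem := by
    intro P φ hφ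
    obtain ⟨ψ, hψ, hinv⟩ := F.inv_mem hφ.1
    have hφT : ∀ x : P, φ x ∈ T → (x : Ω) ∈ T :=
      fun x hx => (Helper27.stronglyClosed_mem_iff F hT hφ.1 x).2 hx
    refine ⟨ψ, ⟨hψ, fun β hβ => ?_, fun γ hγ => ?_⟩, hinv⟩
    · obtain ⟨β', hβ', h1⟩ := hφ.2.2 β hβ
      exact ⟨β', hβ', tw_inv E hφT hinv h1⟩
    · obtain ⟨γ', hγ', h1⟩ := hφ.2.1 γ hγ
      exact ⟨γ', hγ', tw_inv E hφT hinv h1⟩

theorem mem_twSys {F : FusionSystem S} {T : Subgroup Ω} {E : FusionSystem T}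
    {hT : F.StronglyClosed T} {P : Subgroup Ω} {φ : P →* Ω} :
    φ ∈ (twSys F E hT).Hom P ↔ (φ ∈ F.Hom P ∧
      (∀ β ∈ F.autGroup T, ∃ γ ∈ F.autGroup T, TwIn E β γ φ) ∧
      (∀ γ ∈ F.autGroup T, ∃ β ∈ F.autGroup T, TwIn E β γ φ)) := Iff.rfl

/-- Generalized Frattini factorisation. -/
theorem le_twSys [Finite S] (p : ℕ) [Fact p.Prime] (hS : IsPGroup p S) (F : FusionSystem S)
    (hF : F.IsSaturated p) {T : Subgroup Ω} (E : FusionSystem T) (hT : F.StronglyClosed T)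
    (hC : ∀ P : Subgroup Ω, F.IsFullyNormalized P → ¬ T ≤ P →
      ∃ (C : Subgroup (MulAut P)) (g : Ω) (hgN : g ∈ Subgroup.normalizer (P : Set Ω)),
        C ≤ F.autGroup P ∧ (∀ k ∈ F.autGroup P, ∀ c ∈ C, k * c * k⁻¹ ∈ C) ∧ g ∈ S ∧ g ∉ P ∧
        P.normalizerMonoidHom ⟨g, hgN⟩ ∈ C ∧
        ∀ c ∈ C, ∀ β ∈ F.autGroup T, TwIn E β β (P.subtype.comp c.toMonoidHom)) :
    F ≤ twSys F E hT := by
  apply alperin_strong p hS F hF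
  intro P hPn hbig α hα
  have hPS : P ≤ S := hPn.1
  have hαF : P.subtype.comp α.toMonoidHom ∈ F.Hom P := (mem_autGroup_iff F hPS).1 hα
  rw [mem_autGroup_iff (twSys F E hT) hPS]
  by_cases hTP : T ≤ P
  · have hTfin : Finite T := finite_of_le hT.1
    have himg : (T.subgroupOf P).map (P.subtype.comp α.toMonoidHom) = T := by
      apply Subgroup.eq_of_le_of_card_ge
      · rintro _ ⟨x, hx, rfl⟩
        exact stronglyClosed_hom_mem F hT hαF x (Subgroup.mem_subgroupOf.1 hx)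
      · rw [card_map_subgroupOf hTP (F.injective_of_mem hαF)]
    obtain ⟨κ, hκ⟩ := exists_restrict_iso' _ (F.injective_of_mem hαF) hTP himg
    have hκA : κ ∈ F.autGroup T := by
      rw [mem_autGroup_iff F hT.1]
      exact restrict_mem F hαF hTP hκ
    have hag : ∀ (x : P) (hx : (x : Ω) ∈ T),
        (P.subtype.comp α.toMonoidHom) x = ((κ ⟨x, hx⟩ : T) : Ω) :=
      fun x hx => (hκ ⟨x, hx⟩).symm
    exact mem_twSys.2 ⟨hαF,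
      fun β hβ => ⟨β * κ⁻¹, Subgroup.mul_mem _ hβ (Subgroup.inv_mem _ hκA),
        (tw_of_agree E β κ _ hag).1⟩,
      fun γ hγ => ⟨γ * κ, Subgroup.mul_mem _ hγ hκA, (tw_of_agree E γ κ _ hag).2⟩⟩
  · obtain ⟨C, g, hgN, hCA, hCn, hgS, hgP, hcg, hCtw⟩ := hC P hPn hTP
    obtain ⟨n, hnC, N, hPN, hgNN, hNS, ψ, hψ, hψe⟩ :=
      Helper27.exists_factor_gen p hS F hF hPn C hCA hCn hgS hgN hcg hα
    have hlt : P < N := lt_of_le_of_ne hPN (fun h => hgP (h ▸ hgNN))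
    have hψM : ψ ∈ (twSys F E hT).Hom N := hbig N hlt hψ
    have hnαM : P.subtype.comp (n * α).toMonoidHom ∈ (twSys F E hT).Hom P :=
      restrict_mem (twSys F E hT) hψM hPN (fun x => (hψe x x.2 (hPN x.2)).symm)
    have hnM : P.subtype.comp n.toMonoidHom ∈ (twSys F E hT).Hom P :=
      mem_twSys.2 ⟨(mem_autGroup_iff F hPS).1 (hCA hnC),
        fun β hβ => ⟨β, hβ, hCtw n hnC β hβ⟩, fun γ hγ => ⟨γ, hγ, hCtw n hnC γ hγ⟩⟩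
    have h1 : n * α ∈ (twSys F E hT).autGroup P := (mem_autGroup_iff _ hPS).2 hnαM
    have h2 : n ∈ (twSys F E hT).autGroup P := (mem_autGroup_iff _ hPS).2 hnM
    have h3 : n⁻¹ * (n * α) ∈ (twSys F E hT).autGroup P :=
      Subgroup.mul_mem _ (Subgroup.inv_mem _ h2) h1
    rw [inv_mul_cancel_left] at h3
    exact (mem_autGroup_iff _ hPS).1 h3

theorem twSys_frattini (F : FusionSystem S) {T : Subgroup Ω} (E : FusionSystem T)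
    (hT : F.StronglyClosed T) (hle : F ≤ twSys F E hT) {P : Subgroup Ω} (hPT : P ≤ T)
    {φ : P →* Ω} (hφ : φ ∈ F.Hom P) :
    ∃ α ∈ F.autGroup T, ∃ φ₀ ∈ E.Hom P,
      ∀ (x : P) (hx : φ₀ x ∈ T), φ x = ((α ⟨φ₀ x, hx⟩ : T) : Ω) := by
  obtain ⟨γ, hγ, χ, hχ, hχe⟩ := (mem_twSys.1 (hle P hφ)).2.1 1 (Subgroup.one_mem _)
  have hmem : ∀ x : P, (x : Ω) ∈ Helper27.imAut (1 : MulAut T) (P ⊓ T) := fun x =>
    mem_imAut_inf (1 : MulAut T) x (hPT x.2)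
  have hPle : P ≤ Helper27.imAut (1 : MulAut T) (P ⊓ T) := fun x hx => hmem ⟨x, hx⟩
  have hφT : ∀ x : P, φ x ∈ T := fun x => stronglyClosed_hom_mem F hT hφ x (hPT x.2)
  refine ⟨γ⁻¹, Subgroup.inv_mem _ hγ, χ.comp (Subgroup.inclusion hPle),
    restrict_mem E hχ hPle (fun _ => rfl), fun x hx => ?_⟩
  have h1 := hχe x (hPT x.2) (hφT x) (hmem x)
  have e : (⟨(χ.comp (Subgroup.inclusion hPle)) x, hx⟩ : T) = γ ⟨φ x, hφT x⟩ :=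
    Subtype.ext h1
  rw [e, MulAut.inv_apply_self]

end Cfsg.Agent.Helper26
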